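import Mathlib.RingTheory.Length
import Mathlib.LinearAlgebra.Isomorphisms

/-!
# Lengths of subquotients
-/

set_option autoImplicit false
universe u v w

open Submodule

namespace Groth.MilnorKLambda.Per

variable {R : Type u} [CommRing R] {M : Type v} [AddCommGroup M] [Module R M]
  {N : Type w} [AddCommGroup N] [Module R N]

/-- `length P/(P ⊓ Q)`. -/
noncomputable def rl (P Q : Submodule R M) : ℕ∞ := Module.length R (↥P ⧸ Q.submoduleOf P)

theorem rl_inf (P Q : Submodule R M) : rl P (P ⊓ Q) = rl P Q := by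
  unfold rl
  rw [show (P ⊓ Q).submoduleOf P = Q.submoduleOf P by ext x; simp [Submodule.submoduleOf]]

theorem rl_eq_zero {P Q : Submodule R M} (h : P ≤ Q) : rl P Q = 0 := by
  rw [rl, Module.length_eq_zero_iff, Submodule.Quotient.subsingleton_iff, Submodule.submoduleOf_eq_top]
  exact h

theorem rl_bot (P : Submodule R M) : rl P ⊥ = Module.length R P :=
  (quotEquivOfEqBot _ (by simp [Submodule.submoduleOf])).length_eq

theorem rl_top (Q : Submodule R M) : rl ⊤ Q = Module.length R (M ⧸ Q) :=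
  (Submodule.Quotient.equiv (Q.submoduleOf ⊤) Q Submodule.topEquiv (by ext x; simp [Submodule.submoduleOf, Submodule.mem_map])).length_eq

theorem rl_add {A B C : Submodule R M} (hCB : C ≤ B) (hBA : B ≤ A) : rl A C = rl B C + rl A B := by
  have h1 : C.submoduleOf B ≤ (C.submoduleOf A).comap (Submodule.inclusion hBA) := fun x hx => hx
  have h2 : C.submoduleOf A ≤ (B.submoduleOf A).comap LinearMap.id := fun x hx => hCB hx
  refine Module.length_eq_add_of_exact (Submodule.mapQ _ _ (Submodule.inclusion hBA) h1)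
    (Submodule.mapQ _ _ LinearMap.id h2) ?_ ?_ ?_
  · rw [injective_iff_map_eq_zero]
    intro x hx
    obtain ⟨v, rfl⟩ := Submodule.Quotient.mk_surjective _ x
    rw [Submodule.mapQ_apply, Submodule.Quotient.mk_eq_zero] at hx
    exact (Submodule.Quotient.mk_eq_zero _).2 hx
  · intro x
    obtain ⟨v, rfl⟩ := Submodule.Quotient.mk_surjective _ x
    exact ⟨Submodule.Quotient.mk v, rfl⟩
  · intro x
    obtain ⟨v, rfl⟩ := Submodule.Quotient.mk_surjective _ x
    constructor
    · intro hx
      rw [Submodule.mapQ_apply, Submodule.Quotient.mk_eq_zero] at hx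
      exact ⟨Submodule.Quotient.mk ⟨(v : M), hx⟩, rfl⟩
    · rintro ⟨y, hy⟩
      obtain ⟨w', rfl⟩ := Submodule.Quotient.mk_surjective _ y
      rw [← hy]
      simp only [Submodule.mapQ_apply, LinearMap.id_apply, Submodule.Quotient.mk_eq_zero]
      exact w'.2

theorem rl_mono_left {A B : Submodule R M} (Q : Submodule R M) (h : A ≤ B) (hQ : Q ≤ A) : rl A Q ≤ rl B Q := by
  rw [rl_add hQ h]; exact le_add_right le_rfl

theorem rl_sup (P Q : Submodule R M) : rl (P ⊔ Q) Q = rl P Q := by
  rw [← rl_inf P Q]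
  exact (LinearMap.quotientInfEquivSupQuotient P Q).symm.length_eq

theorem length_submodule_add (P : Submodule R M) :
    Module.length R M = Module.length R P + Module.length R (M ⧸ P) :=
  Module.length_eq_add_of_exact P.subtype P.mkQ P.injective_subtype P.mkQ_surjective
    (LinearMap.exact_subtype_mkQ P)

theorem rl_map (f : M →ₗ[R] N) {P Q : Submodule R M} (hQ : Q ≤ P) :
    rl (P.map f) (Q.map f) = rl P (Q ⊔ LinearMap.ker f ⊓ P) := by
  let g : P →ₗ[R] (P.map f ⧸ (Q.map f).submoduleOf (P.map f)) :=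
    ((Q.map f).submoduleOf (P.map f)).mkQ ∘ₗ f.submoduleMap P
  have hg : Function.Surjective g :=
    (Submodule.mkQ_surjective _).comp (LinearMap.submoduleMap_surjective f P)
  have hker : LinearMap.ker g = (Q ⊔ LinearMap.ker f ⊓ P).submoduleOf P := by
    ext x
    rw [show LinearMap.ker g = ((Q.map f).submoduleOf (P.map f)).comap (f.submoduleMap P) by
      rw [LinearMap.ker_comp, Submodule.ker_mkQ]]
    change f x ∈ Q.map f ↔ (x : M) ∈ Q ⊔ LinearMap.ker f ⊓ P
    constructor
    · rintro ⟨y, hy, hxy⟩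
      exact Submodule.mem_sup.2 ⟨y, hy, (x : M) - y, ⟨by simp [LinearMap.mem_ker, map_sub, hxy], P.sub_mem x.2 (hQ hy)⟩,
        add_sub_cancel _ _⟩
    · intro hx
      obtain ⟨y, hy, z, hz, hxy⟩ := Submodule.mem_sup.1 hx
      exact ⟨y, hy, by rw [← hxy, map_add, LinearMap.mem_ker.1 hz.1, add_zero]⟩
  unfold rl
  rw [← hker]
  exact (g.quotKerEquivOfSurjective hg).symm.length_eq

theorem rl_map_of_injective (f : M →ₗ[R] N) (hf : Function.Injective f) {P Q : Submodule R M} (hQ : Q ≤ P) :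
    rl (P.map f) (Q.map f) = rl P Q := by
  rw [rl_map f hQ, LinearMap.ker_eq_bot.2 hf, bot_inf_eq, sup_bot_eq]

theorem add_ne_top_iff' {a b : ℕ∞} : a + b ≠ ⊤ ↔ a ≠ ⊤ ∧ b ≠ ⊤ := by simp

theorem toNat_add_int {a b : ℕ∞} (ha : a ≠ ⊤) (hb : b ≠ ⊤) :
    ((a + b).toNat : ℤ) = a.toNat + b.toNat := by
  rw [ENat.toNat_add ha hb]; push_cast; rfl

end Groth.MilnorKLambda.Per
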