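import Mathlib.RingTheory.LocalRing.Length
import Mathlib.RingTheory.HopkinsLevitzki
import Mathlib.RingTheory.KrullDimension.Module
import Mathlib.RingTheory.Ideal.AssociatedPrime.Localization
import Mathlib.RingTheory.Ideal.AssociatedPrime.Finiteness
import Mathlib.RingTheory.Localization.AtPrime.Basic
import Mathlib.Algebra.Module.LocalizedModule.Exact
import Mathlib.RingTheory.OrderOfVanishing.Basic
import Groth.Agent.MilnorKLambda.RelLen

/-!
# Finite length criteria and lengths at minimal primes
-/

set_option autoImplicit false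
universe u v

open PrimeSpectrum Pointwise

namespace Groth.MilnorKLambda.Per

variable {R : Type u} [CommRing R]

theorem length_ne_top_of_forall_isMaximal [IsNoetherianRing R] {M : Type v} [AddCommGroup M] [Module R M]
    [Module.Finite R M] (h : ∀ q : Ideal R, q.IsPrime → Module.annihilator R M ≤ q → q.IsMaximal) :
    Module.length R M ≠ ⊤ := by
  let I := Module.annihilator R M
  let : Module (R ⧸ I) M := (Module.isTorsionBySet_annihilator R M).module
  have : IsScalarTower R (R ⧸ I) M := (Module.isTorsionBySet_annihilator R M).isScalarTower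
  have : Ring.KrullDimLE 0 (R ⧸ I) := Ring.KrullDimLE.mk₀ fun q hq => by
    have := h (q.comap (Ideal.Quotient.mk I)) (Ideal.comap_isPrime _ _)
      fun r hr => by simp [I, Ideal.mem_comap, Ideal.Quotient.eq_zero_iff_mem.mpr hr]
    rcases Ideal.map_eq_top_or_isMaximal_of_surjective (Ideal.Quotient.mk I)
        Ideal.Quotient.mk_surjective this with h' | h'
    · rw [Ideal.map_comap_of_surjective _ Ideal.Quotient.mk_surjective] at h'
      exact absurd h' hq.ne_top
    · rwa [Ideal.map_comap_of_surjective _ Ideal.Quotient.mk_surjective] at h'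
  have : IsArtinianRing (R ⧸ I) := IsNoetherianRing.isArtinianRing_of_krullDimLE_zero
  have : Module.Finite (R ⧸ I) M := Module.Finite.of_restrictScalars_finite R _ M
  rw [Module.length_eq_of_surjective (R := R ⧸ I) (S := R) (M := M) Ideal.Quotient.mk_surjective,
    Module.length_ne_top_iff, isFiniteLength_iff_isNoetherian_isArtinian]
  exact ⟨inferInstance, inferInstance⟩

theorem length_ne_top_of_support [IsNoetherianRing R] [IsLocalRing R] {M : Type v} [AddCommGroup M]
    [Module R M] [Module.Finite R M]
    (h : ∀ p ∈ Module.support R M, p.asIdeal = IsLocalRing.maximalIdeal R) : Module.length R M ≠ ⊤ :=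
  length_ne_top_of_forall_isMaximal fun q hq hle => by
    rw [show q = IsLocalRing.maximalIdeal R from h ⟨q, hq⟩ (by rw [Module.support_eq_zeroLocus]; exact hle)]
    exact IsLocalRing.maximalIdeal.isMaximal R

theorem eq_maximal_of_supportDim_le_zero [IsLocalRing R] {M : Type v} [AddCommGroup M] [Module R M]
    [Module.Finite R M] (h : Module.supportDim R M ≤ 0) {p : PrimeSpectrum R} (hp : p ∈ Module.support R M) :
    p.asIdeal = IsLocalRing.maximalIdeal R := by
  have : Nontrivial M := (Module.nonempty_support_iff (R := R)).1 ⟨p, hp⟩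
  have h0 : Module.supportDim R M = 0 :=
    le_antisymm h (Order.krullDim_nonneg_iff.2 ⟨⟨p, hp⟩⟩)
  rw [support_of_supportDim_eq_zero R M h0, PrimeSpectrum.zeroLocus_eq_singleton, Set.mem_singleton_iff] at hp
  exact congrArg PrimeSpectrum.asIdeal hp

theorem minimal_of_supportDim_le_one [IsLocalRing R] {M : Type v} [AddCommGroup M] [Module R M]
    [Module.Finite R M] (h : Module.supportDim R M ≤ 1) {p : PrimeSpectrum R} (hp : p ∈ Module.support R M)
    (hpm : p.asIdeal ≠ IsLocalRing.maximalIdeal R) : Minimal (fun q => q ∈ Module.support R M) p := by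
  refine ⟨hp, fun q hq hqp => ?_⟩
  by_contra hne
  have h1 : q < p := lt_of_le_not_ge hqp hne
  have : Nontrivial M := (Module.nonempty_support_iff (R := R)).1 ⟨p, hp⟩
  have h2 : p < IsLocalRing.closedPoint R :=
    lt_of_le_of_ne (IsLocalRing.le_maximalIdeal p.2.ne_top) fun e => hpm (congrArg PrimeSpectrum.asIdeal e)
  let s : LTSeries (Module.support R M) :=
    { length := 2
      toFun := ![⟨q, hq⟩, ⟨p, hp⟩, ⟨_, IsLocalRing.closedPoint_mem_support R M⟩]
      step := fun i => by fin_cases i; exacts [h1, h2] }
  have hle : ((2 : ℕ) : WithBot ℕ∞) ≤ Module.supportDim R M := le_iSup (fun s : LTSeries (Module.support R M) => (s.length : WithBot ℕ∞)) s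
  have := hle.trans h
  norm_cast at this

section LocalLength

variable (q : Ideal R) [q.IsPrime]

/-- The length of `M_q` over `R_q`. -/
noncomputable def lq (M : Type v) [AddCommGroup M] [Module R M] : ℕ∞ :=
  Module.length (Localization.AtPrime q) (LocalizedModule q.primeCompl M)

variable {M N P : Type v} [AddCommGroup M] [Module R M] [AddCommGroup N] [Module R N] [AddCommGroup P] [Module R P]

theorem lq_eq_zero_of_notMem (h : (⟨q, inferInstance⟩ : PrimeSpectrum R) ∉ Module.support R M) : lq q M = 0 := by
  rw [lq, Module.length_eq_zero_iff]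
  exact Module.notMem_support_iff.1 h

theorem mem_support_of_lq_ne_zero (h : lq q M ≠ 0) : (⟨q, inferInstance⟩ : PrimeSpectrum R) ∈ Module.support R M := by
  by_contra hc; exact h (lq_eq_zero_of_notMem q hc)

theorem lq_pos_of_mem (h : (⟨q, inferInstance⟩ : PrimeSpectrum R) ∈ Module.support R M) : lq q M ≠ 0 := by
  rw [lq, Ne, Module.length_eq_zero_iff, not_subsingleton_iff_nontrivial]
  exact Module.mem_support_iff.1 h

theorem lq_add {f : M →ₗ[R] N} {g : N →ₗ[R] P} (hf : Function.Injective f) (hg : Function.Surjective g)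
    (h : Function.Exact f g) : lq q N = lq q M + lq q P :=
  Module.length_eq_add_of_exact (LocalizedModule.map q.primeCompl f) (LocalizedModule.map q.primeCompl g)
    (LocalizedModule.map_injective _ _ hf) (LocalizedModule.map_surjective _ _ hg)
    (LocalizedModule.map_exact _ f g h)

theorem lq_congr (e : M ≃ₗ[R] N) : lq q M = lq q N := by
  have := lq_add q (f := (0 : PUnit.{v + 1} →ₗ[R] M)) (g := e.toLinearMap) (Function.injective_of_subsingleton _)
    e.surjective (fun x => ⟨fun hx => ⟨0, by rw [(map_eq_zero_iff e.toLinearMap e.injective).1 hx]; rfl⟩, fun ⟨_, hx⟩ => by rw [← hx]; exact map_zero _⟩)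
  rw [this, show lq q PUnit.{v + 1} = 0 from lq_eq_zero_of_notMem q (by simp [Module.support_eq_empty]), zero_add]

theorem lq_quot_self : lq q (R ⧸ q) = 1 := by
  rw [lq, Module.length_eq_one_iff]
  have : Nontrivial (LocalizedModule q.primeCompl (R ⧸ q)) :=
    Module.mem_support_iff.1 (show (⟨q, inferInstance⟩ : PrimeSpectrum R) ∈ Module.support R (R ⧸ q) by
      rw [Module.support_eq_zeroLocus, Ideal.annihilator_quotient]; exact (le_refl q))
  refine isSimpleModule_iff_toSpanSingleton_surjective.2 ⟨this, fun z hz y => ?_⟩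
  induction z using LocalizedModule.induction_on with
  | h a s =>
    induction y using LocalizedModule.induction_on with
    | h b t =>
      obtain ⟨a, rfl⟩ := Ideal.Quotient.mk_surjective a
      obtain ⟨b, rfl⟩ := Ideal.Quotient.mk_surjective b
      have ha : a ∈ q.primeCompl := fun ha => hz (by
        rw [Ideal.Quotient.eq_zero_iff_mem.2 ha, LocalizedModule.zero_mk])
      refine ⟨Localization.mk (b * s) (⟨a, ha⟩ * t), ?_⟩
      rw [LinearMap.toSpanSingleton_apply, LocalizedModule.mk_smul_mk, LocalizedModule.mk_eq]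
      refine ⟨1, ?_⟩
      simp only [one_smul, Submonoid.smul_def, Submonoid.coe_mul, Algebra.smul_def, Ideal.Quotient.algebraMap_eq, ← map_mul]
      congr 1
      ring

theorem lq_ne_top [IsNoetherianRing R] [Module.Finite R M]
    (h : Minimal (fun p => p ∈ Module.support R M) (⟨q, inferInstance⟩ : PrimeSpectrum R)) : lq q M ≠ ⊤ := by
  refine length_ne_top_of_forall_isMaximal fun Q hQ hann => ?_
  set a : R →+* Localization.AtPrime q := algebraMap R (Localization.AtPrime q)
  have hle : Q.comap a ≤ q := fun r hr => by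
    by_contra hrq
    exact hQ.ne_top (Ideal.eq_top_of_isUnit_mem _ hr (IsLocalization.map_units (Localization.AtPrime q) (⟨r, hrq⟩ : q.primeCompl)))
  have hsupp : (⟨Q.comap a, hQ.comap a⟩ : PrimeSpectrum R) ∈ Module.support R M := by
    rw [Module.support_eq_zeroLocus]
    intro r hr
    refine hann (Module.mem_annihilator.2 fun z => ?_)
    induction z using LocalizedModule.induction_on with
    | h m s =>
      rw [algebraMap_smul, LocalizedModule.smul'_mk, Module.mem_annihilator.1 hr m, LocalizedModule.zero_mk]
  have heq : q ≤ Q.comap a := h.2 hsupp hle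
  have : IsLocalRing.maximalIdeal (Localization.AtPrime q) ≤ Q := by
    rw [← Localization.AtPrime.map_eq_maximalIdeal]
    exact Ideal.map_le_iff_le_comap.2 heq
  rw [← (IsLocalRing.maximalIdeal.isMaximal _).eq_of_le hQ.ne_top this]
  exact IsLocalRing.maximalIdeal.isMaximal _

end LocalLength

theorem surjective_localized_of_injective [IsNoetherianRing R] {M : Type v} [AddCommGroup M] [Module R M]
    [Module.Finite R M] (f : M →ₗ[R] M) (hf : Function.Injective f) (q : PrimeSpectrum R)
    (hq : Minimal (fun p => p ∈ Module.support R M) q) :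
    q ∉ Module.support R (M ⧸ LinearMap.range f) := by
  intro hmem
  have h1 := lq_add q.asIdeal (f := f) (g := (LinearMap.range f).mkQ) hf (Submodule.mkQ_surjective _)
    (LinearMap.exact_iff.2 (Submodule.ker_mkQ _))
  have h2 := lq_ne_top q.asIdeal (M := M) hq
  have h3 := lq_pos_of_mem q.asIdeal hmem
  obtain ⟨a, ha⟩ := ENat.ne_top_iff_exists.1 h2
  have h4 : lq q.asIdeal (M ⧸ LinearMap.range f) ≠ ⊤ := fun h => h2 (by rw [h1, h, add_top])
  obtain ⟨b, hb⟩ := ENat.ne_top_iff_exists.1 h4
  rw [← ha, ← hb] at h1
  rw [← hb] at h3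
  norm_cast at h1 h3
  omega

end Groth.MilnorKLambda.Per
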