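import Groth.Agent.MilnorKLambda.Periodic
import Groth.Agent.MilnorKLambda.FinLen

/-!
# Multiplication by an element on periodic complexes; lengths in dimension one
-/

set_option autoImplicit false
universe u v

open CycAlg LinearMap Submodule Pointwise

namespace Groth.MilnorKLambda.Per

variable {R : Type u} [CommRing R]

theorem finCoh_swap {M N : Type v} [AddCommGroup M] [Module R M] [AddCommGroup N] [Module R N]
    {φ : M →ₗ[R] N} {ψ : N →ₗ[R] M} (h : FinCoh R φ ψ) : FinCoh R ψ φ := ⟨h.2, h.1⟩

theorem herbrand_swap {M N : Type v} [AddCommGroup M] [Module R M] [AddCommGroup N] [Module R N]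
    (φ : M →ₗ[R] N) (ψ : N →ₗ[R] M) : herbrand R ψ φ = -herbrand R φ ψ := by simp [herbrand]

variable [IsNoetherianRing R] [IsLocalRing R]

theorem length_ne_top_of_killed {M : Type v} [AddCommGroup M] [Module R M] [Module.Finite R M] {x : R}
    (hx : Module.supportDim R (M ⧸ x • (⊤ : Submodule R M)) ≤ 0) {L : Type v} [AddCommGroup L] [Module R L]
    [Module.Finite R L] (hsupp : Module.support R L ⊆ Module.support R M) (hkill : ∀ z : L, x • z = 0) :
    Module.length R L ≠ ⊤ := by
  refine length_ne_top_of_support fun p hp => eq_maximal_of_supportDim_le_zero hx ?_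
  have h1 : x ∈ p.asIdeal := by
    have := hp
    rw [Module.support_eq_zeroLocus] at this
    exact this (Module.mem_annihilator.2 hkill)
  change p ∈ Module.support R (QuotSMulTop x M)
  rw [Module.support_quotSMulTop]
  exact ⟨hsupp hp, fun r hr => (Set.mem_singleton_iff.1 hr) ▸ h1⟩

theorem finCoh_zero_smul {M : Type v} [AddCommGroup M] [Module R M] [Module.Finite R M] {x : R}
    (hx : Module.supportDim R (M ⧸ x • (⊤ : Submodule R M)) ≤ 0) {L : Type v} [AddCommGroup L] [Module R L]
    [Module.Finite R L] (hsupp : Module.support R L ⊆ Module.support R M) :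
    FinCoh R (0 : L →ₗ[R] L) (x • LinearMap.id) := by
  constructor
  · refine (length_ne_top_of_killed hx ((Module.support_subset_of_surjective _ (Submodule.mkQ_surjective _)).trans
      ((Module.support_subset_of_injective _ (Submodule.injective_subtype _)).trans hsupp)) fun z => ?_).lt_top
    obtain ⟨z, rfl⟩ := Submodule.Quotient.mk_surjective _ z
    rw [← Submodule.Quotient.mk_smul, Submodule.Quotient.mk_eq_zero]
    exact ⟨(z : L), rfl⟩
  · refine (length_ne_top_of_killed hx ((Module.support_subset_of_surjective _ (Submodule.mkQ_surjective _)).trans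
      ((Module.support_subset_of_injective _ (Submodule.injective_subtype _)).trans hsupp)) fun z => ?_).lt_top
    obtain ⟨z, rfl⟩ := Submodule.Quotient.mk_surjective _ z
    rw [← Submodule.Quotient.mk_smul, Submodule.Quotient.mk_eq_zero]
    have hz : x • (z : L) = 0 := LinearMap.mem_ker.1 z.2
    change x • (z : L) ∈ LinearMap.range (0 : L →ₗ[R] L)
    rw [hz]; exact zero_mem _

theorem smul_left_formula {M : Type v} [AddCommGroup M] [Module R M] [Module.Finite R M] {φ ψ : M →ₗ[R] M}
    (hper : IsPeriodic φ ψ) (hfin : FinCoh R φ ψ) {x : R}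
    (hx : Module.supportDim R (M ⧸ x • (⊤ : Submodule R M)) ≤ 0) :
    FinCoh R (x • φ) ψ ∧ herbrand R (x • φ) ψ = herbrand R φ ψ -
      herbrand R (0 : LinearMap.range φ →ₗ[R] LinearMap.range φ) (x • LinearMap.id) := by
  set I := LinearMap.range φ
  obtain ⟨hc, ht⟩ := finCoh_zero_smul hx (L := I) (Module.support_subset_of_injective I.subtype I.injective_subtype)
  have hk : LinearMap.ker φ ≤ LinearMap.ker (x • φ) := fun z hz => by simp [LinearMap.mem_ker.1 hz]
  have e0 : Module.length R (perH (x • φ) ψ) = Module.length R (perH φ ψ) +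
      Module.length R (perH (x • LinearMap.id) (0 : I →ₗ[R] I)) := by
    rw [perH_length, rl_add (periodic_le hper.1) hk, ← perH_length]
    congr 1
    rw [perH_length, LinearMap.range_zero, ← rl_map_of_injective I.subtype I.injective_subtype bot_le, Submodule.map_bot]
    have h1 : (LinearMap.ker (x • φ)).map φ = (LinearMap.ker (x • (LinearMap.id : I →ₗ[R] I))).map I.subtype := by
      ext y
      constructor
      · rintro ⟨z, hz, rfl⟩
        exact ⟨⟨φ z, ⟨z, rfl⟩⟩, Subtype.ext (LinearMap.mem_ker.1 hz), rfl⟩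
      · rintro ⟨⟨_, z, rfl⟩, hy, rfl⟩
        exact ⟨z, congrArg Subtype.val (LinearMap.mem_ker.1 hy), rfl⟩
    rw [← h1, ← (LinearMap.le_ker_iff_map).1 (le_refl (LinearMap.ker φ)), rl_map φ hk, sup_eq_left.2 inf_le_left]
  have e1 : Module.length R (perH ψ (x • φ)) =
      Module.length R (perH (0 : I →ₗ[R] I) (x • LinearMap.id)) + Module.length R (perH ψ φ) := by
    have hle : LinearMap.range (x • φ) ≤ I := by
      rintro _ ⟨z, rfl⟩; exact I.smul_mem x ⟨z, rfl⟩
    rw [perH_length, rl_add hle (periodic_le hper.2), ← perH_length]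
    congr 1
    rw [perH_length, LinearMap.ker_zero, ← rl_map_of_injective I.subtype I.injective_subtype le_top,
      Submodule.map_subtype_top]
    congr 1
    ext y
    constructor
    · rintro ⟨z, rfl⟩; exact ⟨⟨x • φ z, I.smul_mem x ⟨z, rfl⟩⟩, ⟨⟨φ z, ⟨z, rfl⟩⟩, rfl⟩, rfl⟩
    · rintro ⟨_, ⟨⟨_, z, rfl⟩, rfl⟩, rfl⟩; exact ⟨z, rfl⟩
  refine ⟨⟨by rw [e0]; exact ENat.add_lt_top.2 ⟨hfin.1, ht⟩, by rw [e1]; exact ENat.add_lt_top.2 ⟨hc, hfin.2⟩⟩, ?_⟩
  rw [herbrand, herbrand, herbrand, e0, e1, toNat_add_int hfin.1.ne ht.ne, toNat_add_int hc.ne hfin.2.ne]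
  ring

theorem length_quot_smul_eq (M : Type u) [AddCommGroup M] [Module R M] [Module.Finite R M] (x : R)
    (h1 : Module.supportDim R M ≤ 1) (h0 : Module.supportDim R (M ⧸ x • (⊤ : Submodule R M)) ≤ 0) :
    Module.length R (M ⧸ x • (⊤ : Submodule R M)) = Module.length R (LinearMap.ker (LinearMap.lsmul R M x)) +
      ∑ᶠ (p : PrimeSpectrum R) (_ : p ∈ Module.support R M ∧ p.asIdeal ≠ IsLocalRing.maximalIdeal R),
        Ring.ord (R ⧸ p.asIdeal) (Ideal.Quotient.mk p.asIdeal x) * lq p.asIdeal M := by
  classical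
  set T : Set (PrimeSpectrum R) := {p | p ∈ Module.support R M ∧ p.asIdeal ≠ IsLocalRing.maximalIdeal R}
  have hmin : ∀ p ∈ T, Minimal (fun q => q ∈ Module.support R M) p := fun p hp =>
    minimal_of_supportDim_le_one h1 hp.1 hp.2
  have hTfin : T.Finite := by
    refine Set.Finite.subset (Set.Finite.preimage (Function.Injective.injOn fun a b h => PrimeSpectrum.ext h)
      ((Module.annihilator R M).finite_minimalPrimes_of_isNoetherianRing R)) (fun p hp => ?_)
    refine ⟨⟨p.2, ?_⟩, fun q hq hqp => ?_⟩
    · have := hp.1; rw [Module.support_eq_zeroLocus] at this; exact this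
    · exact (hmin p hp).2 (y := ⟨q, hq.1⟩) (by rw [Module.support_eq_zeroLocus]; exact hq.2) hqp
  let w : PrimeSpectrum R → ℕ∞ := fun p => Ring.ord (R ⧸ p.asIdeal) (Ideal.Quotient.mk p.asIdeal x)
  have hlq : ∀ (N : Type u) [AddCommGroup N] [Module R N] [Module.Finite R N],
      Module.support R N ⊆ Module.support R M → ∀ p ∈ T, lq p.asIdeal N ≠ ⊤ := by
    intro N _ _ _ hN p hp
    by_cases hpN : p ∈ Module.support R N
    · exact lq_ne_top p.asIdeal ⟨hpN, fun q hq hqp => (hmin p hp).2 (hN hq) hqp⟩
    · rw [lq_eq_zero_of_notMem p.asIdeal hpN]; exact ENat.zero_ne_top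
  let S : ∀ (N : Type u) [AddCommGroup N] [Module R N], ℤ := fun N _ _ =>
    ∑ p ∈ hTfin.toFinset, ((w p).toNat : ℤ) * (lq p.asIdeal N).toNat
  have key : Module.support R M ⊆ Module.support R M →
      herbrand R (0 : M →ₗ[R] M) (x • LinearMap.id) = S M ∧
        ∀ p ∈ Module.support R M, p.asIdeal ≠ IsLocalRing.maximalIdeal R → w p ≠ ⊤ := by
    intro _
    have gen : ∀ (N : Type u) [AddCommGroup N] [Module R N] [Module.Finite R N],
        Module.support R N ⊆ Module.support R M →
          herbrand R (0 : N →ₗ[R] N) (x • LinearMap.id) = S N ∧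
            ∀ p ∈ T, p ∈ Module.support R N → w p ≠ ⊤ := by
      intro N _ _ hN
      induction hN using IsNoetherianRing.induction_on_isQuotientEquivQuotientPrime with
      | subsingleton N =>
        intro _
        have hz : Module.length R N = 0 := Module.length_eq_zero
        obtain ⟨-, e⟩ := finCoh_of_finite (φ := (0 : N →ₗ[R] N)) (ψ := x • LinearMap.id) (⟨by simp, by simp⟩)
          (by rw [hz]; exact ENat.zero_ne_top.lt_top) (by rw [hz]; exact ENat.zero_ne_top.lt_top)
        refine ⟨?_, fun p _ hp => ?_⟩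
        · rw [e, sub_self]
          refine (Finset.sum_eq_zero fun p _ => ?_).symm
          rw [lq_eq_zero_of_notMem p.asIdeal (by simp [Module.support_eq_empty])]; simp
        · simp [Module.support_eq_empty] at hp
      | quotient N p e =>
        intro hN
        have hsupp : Module.support R N = Module.support R (R ⧸ p.asIdeal) := e.support_eq
        have hmem : ∀ q : PrimeSpectrum R, q ∈ Module.support R (R ⧸ p.asIdeal) ↔ p.asIdeal ≤ q.asIdeal := fun q => by
          rw [Module.support_eq_zeroLocus, Ideal.annihilator_quotient]; rfl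
        have hpN : p ∈ Module.support R M := hN (hsupp ▸ (hmem p).2 le_rfl)
        have hS : ∀ q ∈ T, q ≠ p → lq q.asIdeal N = 0 := fun q hq hne => by
          by_contra hc
          have := mem_support_of_lq_ne_zero q.asIdeal hc
          rw [hsupp, hmem] at this
          exact hne (le_antisymm ((hmin q hq).2 hpN this) this)
        by_cases hpm : p.asIdeal = IsLocalRing.maximalIdeal R
        · have hfinN : Module.length R N < ⊤ := (length_ne_top_of_support fun q hq => by
            rw [hsupp, hmem, hpm] at hq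
            exact ((IsLocalRing.maximalIdeal.isMaximal R).eq_of_le q.2.ne_top hq).symm).lt_top
          obtain ⟨-, e'⟩ := finCoh_of_finite (φ := (0 : N →ₗ[R] N)) (ψ := x • LinearMap.id) (⟨by simp, by simp⟩) hfinN hfinN
          refine ⟨?_, fun q hq hqN => ?_⟩
          · rw [e', sub_self]
            refine (Finset.sum_eq_zero fun q hq => ?_).symm
            have hq' := hTfin.mem_toFinset.1 hq
            rw [hS q hq' fun h => hq'.2 (h ▸ hpm)]; simp
          · exfalso
            rw [hsupp, hmem, hpm] at hqN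
            exact hq.2 ((IsLocalRing.maximalIdeal.isMaximal R).eq_of_le q.2.ne_top hqN).symm
        · have hpT : p ∈ T := ⟨hpN, hpm⟩
          have hxp : x ∉ p.asIdeal := fun hxp => hpm (eq_maximal_of_supportDim_le_zero h0 (by
            change p ∈ Module.support R (QuotSMulTop x M)
            rw [Module.support_quotSMulTop]
            exact ⟨hpN, fun r hr => (Set.mem_singleton_iff.1 hr) ▸ hxp⟩))
          have hfc := finCoh_zero_smul h0 (L := R ⧸ p.asIdeal) (fun q hq => hN (hsupp ▸ hq))
          obtain ⟨-, he⟩ := herbrand_eq_of_finite_ker_coker (φ := (0 : N →ₗ[R] N)) (ψ := x • LinearMap.id)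
            (φ' := (0 : (R ⧸ p.asIdeal) →ₗ[R] (R ⧸ p.asIdeal))) (ψ' := x • LinearMap.id) ⟨by simp, by simp⟩
            ⟨by simp, by simp⟩ e.toLinearMap (by simp) (LinearMap.ext fun z => (map_smul e x z).symm)
            (by rw [LinearMap.ker_eq_bot.2 e.injective]; simp)
            (by rw [LinearMap.range_eq_top.2 e.surjective, Module.length_eq_zero]; exact ENat.zero_ne_top.lt_top)
            (finCoh_zero_smul h0 hN)
          have ht0 : Module.length R (perH (x • LinearMap.id : (R ⧸ p.asIdeal) →ₗ[R] _) 0) = 0 := by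
            rw [perH_length]
            refine rl_eq_zero fun z hz => ?_
            obtain ⟨r, rfl⟩ := Ideal.Quotient.mk_surjective z
            have hzz : (Ideal.Quotient.mk p.asIdeal (x * r)) = 0 := by
              rw [map_mul]; exact LinearMap.mem_ker.1 hz
            rw [Ideal.Quotient.eq_zero_iff_mem.2 ((p.2.mem_or_mem (Ideal.Quotient.eq_zero_iff_mem.1 hzz)).resolve_left hxp)]
            exact zero_mem _
          have hc0 : Module.length R (perH (0 : (R ⧸ p.asIdeal) →ₗ[R] _) (x • LinearMap.id)) = w p := by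
            rw [perH_length, LinearMap.ker_zero, rl_top]
            simp only [w, Ring.ord]
            rw [← Module.length_eq_of_surjective (S := R) (R := R ⧸ p.asIdeal)
              (M := (R ⧸ p.asIdeal) ⧸ Ideal.span {Ideal.Quotient.mk p.asIdeal x}) Ideal.Quotient.mk_surjective]
            refine ((Submodule.quotEquivOfEq _ ((Ideal.span {Ideal.Quotient.mk p.asIdeal x}).restrictScalars R) ?_).trans
              (Submodule.Quotient.restrictScalarsEquiv R _)).length_eq
            ext z
            rw [Submodule.restrictScalars_mem, Ideal.mem_span_singleton']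
            constructor
            · rintro ⟨y, rfl⟩; exact ⟨y, by rw [mul_comm]; rfl⟩
            · rintro ⟨y, rfl⟩; exact ⟨y, by rw [mul_comm]; rfl⟩
          have hw : w p ≠ ⊤ := hc0 ▸ hfc.1.ne
          refine ⟨?_, fun q hq hqN => ?_⟩
          · rw [he, herbrand, ht0, hc0, ENat.toNat_zero, Nat.cast_zero, sub_zero]
            change _ = ∑ q ∈ hTfin.toFinset, ((w q).toNat : ℤ) * (lq q.asIdeal N).toNat
            rw [Finset.sum_eq_single p]
            · rw [lq_congr p.asIdeal e, lq_quot_self]; simp
            · intro q hq hne; rw [hS q (hTfin.mem_toFinset.1 hq) hne]; simp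
            · intro h; exact absurd (hTfin.mem_toFinset.2 hpT) h
          · rw [hsupp, hmem] at hqN
            have : q = p := le_antisymm ((hmin q hq).2 hpN hqN) hqN
            exact this ▸ hw
      | exact N₁ N₂ N₃ f g hf hg hfg ih1 ih3 =>
        intro hN
        have hN1 := (Module.support_subset_of_injective f hf).trans hN
        have hN3 := (Module.support_subset_of_surjective g hg).trans hN
        obtain ⟨e1, w1⟩ := ih1 hN1
        obtain ⟨e3, w3⟩ := ih3 hN3
        obtain ⟨-, -, -, he⟩ := ses_additive (φ₁ := (0 : N₁ →ₗ[R] N₁)) (ψ₁ := x • LinearMap.id)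
          (φ₂ := (0 : N₂ →ₗ[R] N₂)) (ψ₂ := x • LinearMap.id) (φ₃ := (0 : N₃ →ₗ[R] N₃)) (ψ₃ := x • LinearMap.id)
          ⟨by simp, by simp⟩ ⟨by simp, by simp⟩ (f₁ := f) (g₁ := f) (f₂ := g) (g₂ := g) (by simp)
          (LinearMap.ext fun z => (map_smul f x z).symm) (by simp) (LinearMap.ext fun z => (map_smul g x z).symm)
          hf hf hg hg (LinearMap.exact_iff.1 hfg).symm (LinearMap.exact_iff.1 hfg).symm
          (Or.inr (Or.inl ⟨finCoh_zero_smul h0 hN1, finCoh_zero_smul h0 hN3⟩))
        refine ⟨?_, fun p hp hp2 => ?_⟩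
        · rw [he, e1, e3]
          simp only [S, ← Finset.sum_add_distrib]
          refine Finset.sum_congr rfl fun p hp => ?_
          rw [lq_add p.asIdeal hf hg hfg, toNat_add_int (hlq N₁ hN1 p (hTfin.mem_toFinset.1 hp))
            (hlq N₃ hN3 p (hTfin.mem_toFinset.1 hp))]
          ring
        · rw [Module.support_of_exact hfg hf hg] at hp2
          exact hp2.elim (w1 p hp) (w3 p hp)
    obtain ⟨e, hw⟩ := gen M subset_rfl
    exact ⟨e, fun p hp hpm => hw p ⟨hp, hpm⟩ hp⟩
  obtain ⟨he, hw⟩ := key subset_rfl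
  obtain ⟨hc, ht⟩ := finCoh_zero_smul h0 (L := M) subset_rfl
  have ec : Module.length R (perH (0 : M →ₗ[R] M) (x • LinearMap.id)) = Module.length R (M ⧸ x • (⊤ : Submodule R M)) := by
    rw [perH_length, LinearMap.ker_zero, rl_top]
    refine (Submodule.quotEquivOfEq _ _ ?_).length_eq
    ext z
    simp [Submodule.mem_smul_pointwise_iff_exists, eq_comm]
  have et : Module.length R (perH (x • LinearMap.id : M →ₗ[R] M) 0) = Module.length R (LinearMap.ker (LinearMap.lsmul R M x)) := by
    rw [perH_length, LinearMap.range_zero, rl_bot]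
    rfl
  refine Eq.trans ?_ (congrArg (_ + ·) (finsum_mem_eq_finite_toFinset_sum _ hTfin).symm)
  rw [← ec, ← et]
  have hterm : ∀ p ∈ hTfin.toFinset, w p * lq p.asIdeal M = (((w p).toNat * (lq p.asIdeal M).toNat : ℕ) : ℕ∞) := by
    intro p hp
    have hp' := hTfin.mem_toFinset.1 hp
    rw [Nat.cast_mul, ENat.natCast_toNat (hw p hp'.1 hp'.2), ENat.natCast_toNat (hlq M subset_rfl p hp')]
  rw [Finset.sum_congr rfl hterm, ← Nat.cast_sum, ← ENat.natCast_toNat hc.ne, ← ENat.natCast_toNat ht.ne, ← Nat.cast_add]
  congr 1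
  have := he
  simp only [herbrand, S] at this
  zify
  linarith

end Groth.MilnorKLambda.Per
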