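import Groth.Prelude.Def_GSzMilK
import Mathlib.GroupTheory.Perm.Fin
import Mathlib.LinearAlgebra.PiTensorProduct.Basic

/-!
# Basic facts on Milnor K-groups

Generation by symbols, multilinearity, `{a, -a} = 0`, anticommutativity, the operation
`consK a : K n →+ K (n+1)` (left multiplication by `{a}`).
-/

set_option autoImplicit false

universe u v

namespace Groth.MilnorKLambda

open MilK Function

variable {F : Type u} [Field F]

theorem closure_symbols (n : ℕ) :
    AddSubgroup.closure (Set.range (symbol : (Fin n → Fˣ) → K F n)) = ⊤ := by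
  rw [eq_top_iff]
  intro x _
  obtain ⟨t, rfl⟩ := mk_surjective F n x
  induction t using PiTensorProduct.induction_on with
  | smul_tprod r a =>
    rw [map_zsmul]
    exact AddSubgroup.zsmul_mem _ (AddSubgroup.subset_closure (Set.mem_range.2 ⟨fun i => (a i).toMul, rfl⟩)) r
  | add a b ha hb =>
    rw [map_add]
    exact AddSubgroup.add_mem _ (ha trivial) (hb trivial)

theorem induction_symbol {n : ℕ} {p : K F n → Prop} (x : K F n) (sym : ∀ a, p (symbol a))
    (zero : p 0) (add : ∀ x y, p x → p y → p (x + y)) (neg : ∀ x, p x → p (-x)) : p x := by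
  have hx : x ∈ AddSubgroup.closure (Set.range (symbol : (Fin n → Fˣ) → K F n)) := by
    rw [closure_symbols]; trivial
  induction hx using AddSubgroup.closure_induction with
  | mem y hy => obtain ⟨a, rfl⟩ := hy; exact sym a
  | zero => exact zero
  | add a b _ _ ha hb => exact add a b ha hb
  | neg a _ ha => exact neg a ha

theorem hom_ext {M : Type v} [AddCommGroup M] {n : ℕ} {f g : K F n →+ M}
    (h : ∀ a, f (symbol a) = g (symbol a)) : f = g :=
  AddMonoidHom.eq_of_eqOn_dense (closure_symbols n) (by rintro _ ⟨a, rfl⟩; exact h a)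

theorem mem_of_symbol_mem {n : ℕ} (H : AddSubgroup (K F n)) (h : ∀ a, symbol a ∈ H) (x : K F n) :
    x ∈ H :=
  induction_symbol x h H.zero_mem (fun _ _ => H.add_mem) (fun _ => H.neg_mem)

theorem symbol_update_mul {n : ℕ} (x : Fin n → Fˣ) (i : Fin n) (a b : Fˣ) :
    (symbol (update x i (a * b)) : K F n) = symbol (update x i a) + symbol (update x i b) := by
  have e : ∀ c : Fˣ, (fun j => Additive.ofMul (update x i c j)) =
      update (fun j => Additive.ofMul (x j)) i (Additive.ofMul c) := fun c => by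
    funext j; rcases eq_or_ne j i with rfl | hj <;> simp [*]
  simp only [symbol, e, ofMul_mul]
  rw [(PiTensorProduct.tprod ℤ).map_update_add, map_add]

theorem symbol_update_one {n : ℕ} (x : Fin n → Fˣ) (i : Fin n) :
    (symbol (update x i 1) : K F n) = 0 := by
  simpa using symbol_update_mul x i 1 1

theorem symbol_eq_zero_of_eq_one {n : ℕ} (x : Fin n → Fˣ) (i : Fin n) (h : x i = 1) :
    (symbol x : K F n) = 0 := by
  rw [← update_eq_self i x, h]; exact symbol_update_one x i

theorem symbol_update_inv {n : ℕ} (x : Fin n → Fˣ) (i : Fin n) (a : Fˣ) :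
    (symbol (update x i a⁻¹) : K F n) = -symbol (update x i a) := by
  have h := symbol_update_mul x i a⁻¹ a
  rw [inv_mul_cancel, symbol_update_one] at h
  exact eq_neg_of_add_eq_zero_left h.symm

theorem symbol_eq_zero_of_add_eq_one {n : ℕ} (x : Fin n → Fˣ) {i j : Fin n} (hij : i ≠ j)
    (h : (x i : F) + (x j : F) = 1) : (symbol x : K F n) = 0 := by
  rcases lt_or_gt_of_ne hij with hl | hl
  · exact symbol_eq_zero_of_isSteinberg x ⟨i, j, hl, h⟩
  · exact symbol_eq_zero_of_isSteinberg x ⟨j, i, hl, by rw [add_comm]; exact h⟩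

/-- `{.., a, .., -a, ..} = 0`. -/
theorem symbol_eq_zero_of_eq_neg {n : ℕ} (x : Fin n → Fˣ) {i j : Fin n} (hij : i ≠ j)
    (h : x j = -x i) : (symbol x : K F n) = 0 := by
  obtain ⟨a, ha⟩ : ∃ a, x i = a := ⟨_, rfl⟩
  by_cases h1 : a = 1
  · exact symbol_eq_zero_of_eq_one x i (ha.trans h1)
  have ha1 : (a : F) ≠ 1 := fun e => h1 (Units.ext e)
  have hb1 : (1 : F) - (a : F)⁻¹ ≠ 0 := by
    rw [sub_ne_zero]; exact fun e => ha1 (by simpa using e.symm)
  set b : Fˣ := Units.mk0 _ (sub_ne_zero.2 ha1.symm) with hb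
  set c : Fˣ := Units.mk0 _ hb1 with hc
  have hxj : x j = b * c⁻¹ := by
    rw [h, ha]; ext
    simp only [hb, hc, Units.val_neg, Units.val_mul, Units.val_inv_eq_inv_val, Units.val_mk0]
    rw [eq_comm, ← div_eq_mul_inv, div_eq_iff hb1]
    field_simp
    ring
  rw [← update_eq_self j x, hxj, symbol_update_mul, symbol_update_inv]
  rw [symbol_eq_zero_of_add_eq_one (update x j b) hij (by simp [hij, ha, hb]), zero_add, neg_eq_zero]
  have e : update x j c = update (update x j c) i ((a⁻¹)⁻¹) := by
    rw [inv_inv, ← ha]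
    funext k; rcases eq_or_ne k i with rfl | hk <;> simp [*]
  rw [e, symbol_update_inv, neg_eq_zero]
  apply symbol_eq_zero_of_add_eq_one _ hij
  simp [hij.symm, hc]

theorem symbol_comp_swap {n : ℕ} (x : Fin n → Fˣ) {i j : Fin n} (hij : i ≠ j) :
    (symbol (x ∘ Equiv.swap i j) : K F n) = -symbol x := by
  set g : Fˣ → Fˣ → K F n := fun u w => symbol (update (update x i u) j w) with hg
  have gl : ∀ u u' w, g (u * u') w = g u w + g u' w := fun u u' w => by
    simp only [hg, update_comm hij]; exact symbol_update_mul _ _ _ _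
  have gr : ∀ u w w', g u (w * w') = g u w + g u w' := fun u w w' => symbol_update_mul _ _ _ _
  have gn : ∀ u, g u (-u) = 0 := fun u => symbol_eq_zero_of_eq_neg _ hij (by simp [hij])
  have key : ∀ a b, g a b + g b a = 0 := fun a b => by
    have h0 := gn (a * b)
    rw [gl] at h0
    have h1 : g a (-(a * b)) = g a b := by
      rw [show -(a * b) = (-a) * b by simp, gr, gn, zero_add]
    have h2 : g b (-(a * b)) = g b a := by
      rw [show -(a * b) = a * (-b) by simp, gr, gn, add_zero]
    rw [h1, h2] at h0; exact h0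
  have e1 : x ∘ Equiv.swap i j = update (update x i (x j)) j (x i) := by
    funext k
    rcases eq_or_ne k i with rfl | hk
    · simp [hij]
    rcases eq_or_ne k j with rfl | hk'
    · simp
    · simp [Equiv.swap_apply_of_ne_of_ne hk hk', hk, hk']
  have e2 : x = update (update x i (x i)) j (x j) := by simp
  rw [e1]; conv_rhs => rw [e2]
  exact eq_neg_of_add_eq_zero_left (key (x j) (x i))

theorem symbol_comp_perm {n : ℕ} (x : Fin n → Fˣ) (σ : Equiv.Perm (Fin n)) :
    (symbol (x ∘ σ) : K F n) = (Equiv.Perm.sign σ : ℤ) • symbol x := by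
  induction σ using Equiv.Perm.swap_induction_on generalizing x with
  | one => simp
  | swap_mul f a b hab ih =>
    rw [Equiv.Perm.coe_mul, ← comp_assoc, ih, symbol_comp_swap x hab]
    simp [Equiv.Perm.sign_swap hab]

/-- Left multiplication by `{a}`. -/
noncomputable def consK (n : ℕ) : Additive Fˣ →+ K F n →+ K F (n + 1) :=
  AddMonoidHom.mk' (fun a => (cast F (Nat.add_comm 1 n)).toAddMonoidHom.comp (mul F 1 n ((K1 F).symm a)))
    (fun a b => by simp only [map_add, AddMonoidHom.comp_add])

/-- Left multiplication by `{a}`, for a unit `a`. -/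
noncomputable abbrev cns {n : ℕ} (a : Fˣ) : K F n →+ K F (n + 1) := consK n (Additive.ofMul a)

theorem K1_symm_ofMul (a : Fˣ) : (K1 F).symm (Additive.ofMul a) = symbol ![a] := by
  rw [AddEquiv.symm_apply_eq, K1_symbol]; rfl

theorem cns_eq {n : ℕ} (a : Fˣ) (y : K F n) :
    cns a y = cast F (Nat.add_comm 1 n) (mul F 1 n (symbol ![a]) y) := by
  rw [← K1_symm_ofMul]; rfl

@[simp]
theorem cns_symbol {n : ℕ} (a : Fˣ) (x : Fin n → Fˣ) :
    cns a (symbol x) = symbol (Fin.cons a x) := by
  rw [cns_eq, mul_symbol_symbol, cast_symbol, Fin.append_left_eq_cons]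
  congr 1

theorem cns_mul {n : ℕ} (a b : Fˣ) (y : K F n) : cns (a * b) y = cns a y + cns b y := by
  simp [cns, ofMul_mul]

theorem cns_one {n : ℕ} (y : K F n) : cns (1 : Fˣ) y = 0 := by simp [cns]

theorem cns_inv {n : ℕ} (a : Fˣ) (y : K F n) : cns a⁻¹ y = -cns a y := by simp [cns, ofMul_inv]

theorem cns_div {n : ℕ} (a b : Fˣ) (y : K F n) : cns (a / b) y = cns a y - cns b y := by
  simp [div_eq_mul_inv, cns_mul, cns_inv, sub_eq_add_neg]

theorem cns_zpow {n : ℕ} (a : Fˣ) (i : ℤ) (y : K F n) : cns (a ^ i) y = i • cns a y := by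
  simp [cns, ofMul_zpow]

theorem symbol_cons_mul {n : ℕ} (a b : Fˣ) (x : Fin n → Fˣ) :
    (symbol (Fin.cons (a * b) x) : K F (n + 1)) = symbol (Fin.cons a x) + symbol (Fin.cons b x) := by
  simp [← cns_symbol, cns_mul]

theorem cns_cns_eq_zero_of_add_eq_one {n : ℕ} (a b : Fˣ) (h : (a : F) + (b : F) = 1) (y : K F n) :
    cns a (cns b y) = 0 := by
  refine DFunLike.congr_fun (hom_ext (f := (cns a).comp (cns b)) (g := 0) fun x => ?_) y
  simpa using symbol_eq_zero_of_add_eq_one _ (Fin.succ_ne_zero (0 : Fin (n + 1))).symm (by simpa using h)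

theorem cns_cns_neg {n : ℕ} (a : Fˣ) (y : K F n) : cns a (cns (-a) y) = 0 := by
  refine DFunLike.congr_fun (hom_ext (f := (cns a).comp (cns (-a))) (g := 0) fun x => ?_) y
  simpa using symbol_eq_zero_of_eq_neg _ (Fin.succ_ne_zero (0 : Fin (n + 1))).symm (by simp)

theorem cns_cns_self {n : ℕ} (a : Fˣ) (y : K F n) : cns a (cns a y) = cns a (cns (-1) y) := by
  have h := cns_cns_neg a y
  rw [show -a = (-1) * a by simp, cns_mul, map_add] at h
  have h2 : cns a (cns (-1) y) + cns a (cns (-1) y) = 0 := by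
    rw [← map_add, ← cns_mul]; simp [cns_one]
  rw [← eq_neg_iff_add_eq_zero] at h h2
  rw [h2, h, neg_neg]

theorem cns_comm {n : ℕ} (a b : Fˣ) (y : K F n) : cns a (cns b y) = -cns b (cns a y) := by
  have h0 := cns_cns_neg (a * b) y
  have e1 : cns a (cns (-(a * b)) y) = cns a (cns b y) := by
    rw [show -(a * b) = (-a) * b by simp, cns_mul, map_add, cns_cns_neg, zero_add]
  have e2 : cns b (cns (-(a * b)) y) = cns b (cns a y) := by
    rw [show -(a * b) = a * (-b) by simp, cns_mul, map_add, cns_cns_neg, add_zero]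
  rw [cns_mul, e1, e2] at h0
  exact eq_neg_of_add_eq_zero_left h0

theorem two_nsmul_cns_neg_one {n : ℕ} (y : K F n) : (2 : ℤ) • cns (-1 : Fˣ) y = 0 := by
  rw [← cns_zpow, show ((-1 : Fˣ) ^ (2 : ℤ)) = 1 by simp, cns_one]

theorem even_zsmul_cns_neg_one {n : ℕ} {i : ℤ} (hi : Even i) (y : K F n) :
    i • cns (-1 : Fˣ) y = 0 := by
  rw [← cns_zpow, hi.neg_one_zpow, cns_one]

theorem mem_closure_cns {n : ℕ} (H : AddSubgroup (K F (n + 1))) (h : ∀ a (y : K F n), cns a y ∈ H)
    (x : K F (n + 1)) : x ∈ H :=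
  mem_of_symbol_mem H (fun a => by rw [← Fin.cons_self_tail a, ← cns_symbol]; exact h _ _) x

theorem map_cns {E : Type v} [Field E] (φ : F →+* E) {n : ℕ} (a : Fˣ) (y : K F n) :
    map φ (n + 1) (cns a y) = cns (Units.map (φ : F →* E) a) (map φ n y) := by
  refine DFunLike.congr_fun (hom_ext (f := (map φ (n + 1)).comp (cns a))
    (g := (cns (Units.map (φ : F →* E) a)).comp (map φ n)) fun x => ?_) y
  simp only [AddMonoidHom.comp_apply, cns_symbol, map_symbol]
  congr 1
  funext i; refine Fin.cases ?_ (fun j => ?_) i <;> simp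

theorem map_id (n : ℕ) (x : K F n) : map (RingHom.id F) n x = x :=
  DFunLike.congr_fun (hom_ext (f := map (RingHom.id F) n) (g := AddMonoidHom.id _) fun a => by
    simp only [map_symbol, AddMonoidHom.id_apply]; congr 1) x

theorem map_map {E : Type v} [Field E] {G : Type*} [Field G] (φ : F →+* E) (ψ : E →+* G) (n : ℕ)
    (x : K F n) : map ψ n (map φ n x) = map (ψ.comp φ) n x :=
  DFunLike.congr_fun (hom_ext (f := (map ψ n).comp (map φ n)) (g := map (ψ.comp φ) n) fun a => by
    simp only [AddMonoidHom.comp_apply, map_symbol]; congr 1) x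

theorem finRotate_pow_val (N k : ℕ) (i : Fin N) : (((finRotate N) ^ k) i : ℕ) = (i + k) % N := by
  induction k with
  | zero => simp [Nat.mod_eq_of_lt i.isLt]
  | succ k ih =>
    haveI := i.neZero
    rw [pow_succ', Equiv.Perm.mul_apply, finRotate_apply, Fin.val_add, ih, Fin.val_one', ← add_assoc]
    simp [Nat.add_mod]

theorem symbol_append_comm {n m : ℕ} (a : Fin n → Fˣ) (b : Fin m → Fˣ) :
    (symbol (Fin.append a b) : K F (n + m)) =
      ((-1 : ℤ) ^ (n * m)) • symbol (Fin.append b a ∘ Fin.cast (Nat.add_comm m n).symm) := by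
  set z := Fin.append b a ∘ Fin.cast (Nat.add_comm m n).symm
  have e : Fin.append a b = z ∘ ((finRotate (n + m)) ^ m : Equiv.Perm _) := by
    funext i
    refine Fin.addCases (fun j => ?_) (fun j => ?_) i
    · have hj : Fin.cast (Nat.add_comm m n).symm (((finRotate (n + m)) ^ m) (Fin.castAdd m j)) =
          Fin.natAdd m j := by
        apply Fin.ext
        simp [finRotate_pow_val, Nat.mod_eq_of_lt, Nat.add_comm (j : ℕ) m,
          show m + (j : ℕ) < n + m by omega]
      simp [z, hj]
    · have hj : Fin.cast (Nat.add_comm m n).symm (((finRotate (n + m)) ^ m) (Fin.natAdd n j)) =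
          Fin.castAdd n j := by
        apply Fin.ext
        simp [finRotate_pow_val, show n + (j : ℕ) + m = (j : ℕ) + (n + m) by omega,
          Nat.mod_eq_of_lt (show (j : ℕ) < n + m by omega)]
      simp [z, hj]
  rw [e, symbol_comp_perm, map_pow, sign_finRotate, ← pow_mul]
  push_cast
  congr 1
  apply neg_one_pow_congr
  rcases Nat.eq_zero_or_pos m with rfl | hm
  · simp
  · rw [Nat.even_mul, Nat.even_mul, Nat.even_sub (by omega)]
    simp only [Nat.even_add, Nat.not_even_one, iff_false]
    tauto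

end Groth.MilnorKLambda
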