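import Groth.Prelude.Def_CycDet
import Groth.Agent.MilnorKLambda.FinLen

/-!
# Filtrations by copies of `R/q` at a minimal prime of the support
-/

set_option autoImplicit false
universe u

open CycDet

namespace Groth.MilnorKLambda.Per

variable {R : Type u} [CommRing R] [IsLocalRing R] {M : Type u} [AddCommGroup M] [Module R M]

/-- The successive quotients are `R/q`. -/
def IsQFiltr (q : Ideal R) {l : ℕ} (x : Fin l → M) : Prop :=
  ∀ i : Fin l, Nonempty ((↥(spanBefore R M x (i + 1)) ⧸ (spanBefore R M x i).submoduleOf (spanBefore R M x (i + 1)))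
    ≃ₗ[R] (R ⧸ q))

theorem spanBefore_eq_span_range {l : ℕ} (x : Fin l → M) {i : ℕ} (hi : l ≤ i) :
    spanBefore R M x i = Submodule.span R (Set.range x) := by
  rw [spanBefore, ← Set.image_univ]
  congr 2
  exact Set.eq_univ_of_forall fun j => lt_of_lt_of_le j.2 hi

theorem spanBefore_mono {l : ℕ} (x : Fin l → M) {i j : ℕ} (hij : i ≤ j) : spanBefore R M x i ≤ spanBefore R M x j :=
  Submodule.span_mono (Set.image_mono fun a ha => lt_of_lt_of_le (show (a : ℕ) < i from ha) hij)

variable (q : Ideal R) [q.IsPrime]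

theorem lq_spanBefore {l : ℕ} {x : Fin l → M} (hx : IsQFiltr q x) :
    ∀ i, i ≤ l → lq q (spanBefore R M x i) = i := by
  intro i
  induction i with
  | zero =>
    intro _
    rw [Nat.cast_zero]
    refine lq_eq_zero_of_notMem q ?_
    have : spanBefore R M x 0 = ⊥ := by simp [spanBefore]
    have hs : Subsingleton (spanBefore R M x 0) := by rw [this]; infer_instance
    simp [Module.support_eq_empty]
  | succ i ih =>
    intro hi
    obtain ⟨e⟩ := hx ⟨i, hi⟩
    let P := spanBefore R M x (i + 1)
    let Q := (spanBefore R M x i).submoduleOf P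
    have h := lq_add q (f := Q.subtype) (g := Q.mkQ) Q.injective_subtype Q.mkQ_surjective
      (LinearMap.exact_subtype_mkQ Q)
    rw [lq_congr q (Submodule.submoduleOfEquivOfLe (spanBefore_mono x (Nat.le_succ i))), ih (by omega),
      lq_congr q e, lq_quot_self] at h
    rw [h]; push_cast; rfl

theorem lq_eq_of_filtr {l : ℕ} {x : Fin l → M} (hx : IsQFiltr q x)
    (hq : (⟨q, inferInstance⟩ : PrimeSpectrum R) ∉ Module.support R (M ⧸ Submodule.span R (Set.range x))) :
    lq q M = l := by
  let P := Submodule.span R (Set.range x)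
  have h := lq_add q (f := P.subtype) (g := P.mkQ) P.injective_subtype P.mkQ_surjective
    (LinearMap.exact_subtype_mkQ P)
  rw [lq_eq_zero_of_notMem q hq, add_zero, lq_congr q (LinearEquiv.ofEq _ _ (spanBefore_eq_span_range x le_rfl).symm),
    lq_spanBefore q hx l le_rfl] at h
  exact h

theorem exists_filtr [IsNoetherianRing R] [Module.Finite R M]
    (hq : Minimal (fun p => p ∈ Module.support R M) (⟨q, inferInstance⟩ : PrimeSpectrum R)) :
    ∃ (l : ℕ) (x : Fin l → M),
      (⟨q, inferInstance⟩ : PrimeSpectrum R) ∉ Module.support R (M ⧸ Submodule.span R (Set.range x)) ∧ IsQFiltr q x := by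
  obtain ⟨L, hL⟩ := ENat.ne_top_iff_exists.1 (lq_ne_top q hq)
  suffices ∀ k, k ≤ L → ∃ x : Fin k → M, IsQFiltr q x ∧
      lq q (M ⧸ Submodule.span R (Set.range x)) = ((L - k : ℕ) : ℕ∞) by
    obtain ⟨x, hx, hl⟩ := this L le_rfl
    refine ⟨L, x, fun h => lq_pos_of_mem q h (by rw [hl]; simp), hx⟩
  intro k
  induction k with
  | zero =>
    intro _
    refine ⟨Fin.elim0, fun i => i.elim0, ?_⟩
    rw [lq_congr q (Submodule.quotEquivOfEqBot _ (by simp)), ← hL, Nat.sub_zero]
  | succ k ih =>
    intro hk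
    obtain ⟨x, hx, hl⟩ := ih (by omega)
    set P := Submodule.span R (Set.range x) with hP
    have hmem : (⟨q, inferInstance⟩ : PrimeSpectrum R) ∈ Module.support R (M ⧸ P) :=
      mem_support_of_lq_ne_zero q (by rw [hl, Nat.cast_ne_zero]; omega)
    have hminP : q ∈ (Module.annihilator R (M ⧸ P)).minimalPrimes := by
      refine ⟨⟨inferInstance, ?_⟩, fun Q hQ hQq => ?_⟩
      · have := hmem; rw [Module.support_eq_zeroLocus] at this; exact this
      · exact hq.2 (y := ⟨Q, hQ.1⟩) (Module.support_subset_of_surjective P.mkQ P.mkQ_surjective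
          (by rw [Module.support_eq_zeroLocus]; exact hQ.2)) hQq
    obtain ⟨-, y, hy⟩ := isAssociatedPrime_iff.1
      (Module.associatedPrimes.minimalPrimes_annihilator_subset_associatedPrimes R (M ⧸ P) hminP)
    obtain ⟨z, rfl⟩ := P.mkQ_surjective y
    have hzq : ∀ r, r • z ∈ P ↔ r ∈ q := fun r => by
      rw [hy, Submodule.mem_colon_singleton, Submodule.mem_bot, ← map_smul, ← LinearMap.mem_ker, Submodule.ker_mkQ]
    let x' : Fin (k + 1) → M := Fin.snoc x z
    have hold : ∀ i, i ≤ k → spanBefore R M x' i = spanBefore R M x i := by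
      intro i hi
      refine congrArg (Submodule.span R) ?_
      ext y
      constructor
      · rintro ⟨j, hj, rfl⟩
        have hj' : (j : ℕ) < k := lt_of_lt_of_le hj hi
        exact ⟨⟨j, hj'⟩, hj, (Fin.snoc_castSucc (α := fun _ => M) z x ⟨j, hj'⟩).symm⟩
      · rintro ⟨j, hj, rfl⟩
        exact ⟨j.castSucc, hj, Fin.snoc_castSucc (α := fun _ => M) z x j⟩
    have htop : spanBefore R M x' (k + 1) = P ⊔ Submodule.span R {z} := by
      rw [spanBefore_eq_span_range x' le_rfl, hP, ← Submodule.span_union, Fin.range_snoc, Set.union_singleton]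
    have hPk : spanBefore R M x' k = P := by rw [hold k le_rfl, spanBefore_eq_span_range x le_rfl]
    let P' := P ⊔ Submodule.span R {z}
    let f : R →ₗ[R] (P' ⧸ P.submoduleOf P') :=
      (P.submoduleOf P').mkQ ∘ₗ LinearMap.toSpanSingleton R P' ⟨z, Submodule.mem_sup_right (Submodule.mem_span_singleton_self z)⟩
    have hf : Function.Surjective f := by
      intro w
      obtain ⟨⟨v, hv⟩, rfl⟩ := Submodule.Quotient.mk_surjective _ w
      obtain ⟨a, ha, b, hb, rfl⟩ := Submodule.mem_sup.1 hv
      obtain ⟨r, rfl⟩ := Submodule.mem_span_singleton.1 hb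
      refine ⟨r, (Submodule.Quotient.eq _).2 ?_⟩
      change r • z - (a + r • z) ∈ P
      rw [sub_add_cancel_right]; exact neg_mem ha
    have hfk : LinearMap.ker f = q := by
      ext r
      rw [LinearMap.mem_ker, LinearMap.comp_apply, Submodule.mkQ_apply, Submodule.Quotient.mk_eq_zero]
      exact hzq r
    have hx' : IsQFiltr q x' := by
      intro i
      rcases lt_or_eq_of_le (Nat.lt_succ_iff.1 i.2) with hi | hi
      · rw [hold _ hi, hold _ (le_of_lt hi)]
        exact hx ⟨i, hi⟩
      · rw [hi, htop, hPk]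
        exact ⟨((Submodule.quotEquivOfEq _ _ hfk.symm).trans (f.quotKerEquivOfSurjective hf)).symm⟩
    refine ⟨x', hx', ?_⟩
    set P2 := Submodule.span R (Set.range x') with hP2
    have h2 : P ≤ P2 := by
      rw [← hPk, hP2, ← spanBefore_eq_span_range x' (le_refl (k + 1))]
      exact spanBefore_mono x' (Nat.le_succ k)
    have eP2 : P2 = P' := by rw [hP2, ← spanBefore_eq_span_range x' (le_refl (k + 1)), htop]
    let g : (M ⧸ P) →ₗ[R] (M ⧸ P2) := Submodule.factor h2
    have hker := lq_add q (f := (LinearMap.ker g).subtype) (g := g) (Submodule.injective_subtype _)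
      (Submodule.factor_surjective h2) (LinearMap.exact_subtype_ker_map g)
    let j : P' →ₗ[R] LinearMap.ker g := LinearMap.codRestrict (LinearMap.ker g) (P.mkQ ∘ₗ P'.subtype) fun v =>
      LinearMap.mem_ker.2 ((Submodule.Quotient.mk_eq_zero _).2 (eP2.ge v.2))
    have hjsurj : Function.Surjective j := by
      rintro ⟨w, hw⟩
      obtain ⟨v, rfl⟩ := Submodule.Quotient.mk_surjective _ w
      exact ⟨⟨v, eP2.le ((Submodule.Quotient.mk_eq_zero _).1 (LinearMap.mem_ker.1 hw))⟩, rfl⟩
    have hjker : LinearMap.ker j = P.submoduleOf P' := by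
      rw [LinearMap.ker_codRestrict, LinearMap.ker_comp, Submodule.ker_mkQ]; rfl
    rw [lq_congr q ((j.quotKerEquivOfSurjective hjsurj).symm.trans ((Submodule.quotEquivOfEq _ _ hjker).trans
      ((Submodule.quotEquivOfEq _ _ hfk.symm).trans (f.quotKerEquivOfSurjective hf)).symm)), lq_quot_self, hl] at hker
    obtain ⟨b, hb⟩ := ENat.ne_top_iff_exists.1 (show lq q (M ⧸ P2) ≠ ⊤ from fun h => ENat.natCast_ne_top (L - k) (by rw [hker, h, add_top]))
    rw [← hb] at hker ⊢
    norm_cast at hker ⊢
    omega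

end Groth.MilnorKLambda.Per
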