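import Groth.Agent.MilnorKLambda.LamRep

/-!
# Consequences of the splitting principle
-/

set_option autoImplicit false
universe u v w x

open Finset MvPolynomial LambdaRing

attribute [local instance] BinomialRing.toIsAddTorsionFree Groth.MilnorKLambda.Lam.modelOps

namespace Groth.MilnorKLambda.Lam

section Basic

variable {A : Type u} [CommRing A] [LambdaOps A]

theorem map_gamma' {B : Type v} [CommRing B] [LambdaOps B] (f : A →+* B)
    (hf : ∀ i a, f (LambdaOps.lam i a) = LambdaOps.lam i (f a)) (k : ℕ) (a : A) : f (gamma k a) = gamma k (f a) := by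
  cases k with
  | zero => simp
  | succ k => simp [gamma_succ_eq, map_sum, map_mul, hf]

theorem gamma_zero_arg {k : ℕ} (hk : 1 ≤ k) : gamma k (0 : A) = 0 := by
  rw [← LambdaCore.coeff_gammaSeries, LambdaCore.gammaSeries_zero, PowerSeries.coeff_one, if_neg (by omega)]

theorem intCast_lam (h1 : ∀ k : ℕ, 2 ≤ k → LambdaOps.lam k (1 : A) = 0) (m : ℤ) :
    lamSeries ((m : A)) = (PowerSeries.mk fun k => Ring.choose m k).map (Int.castRingHom A) := by
  have hsucc : ∀ a : ℤ, (PowerSeries.mk fun k => Ring.choose (a + 1) k) =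
      (1 + PowerSeries.X) * PowerSeries.mk fun k => Ring.choose a k := by
    intro a
    ext k
    rw [add_mul, one_mul, map_add]
    cases k with
    | zero => simp [PowerSeries.coeff_zero_X_mul]
    | succ k =>
      rw [PowerSeries.coeff_succ_X_mul, PowerSeries.coeff_mk, PowerSeries.coeff_mk, PowerSeries.coeff_mk,
        Ring.choose_succ_succ]
      ring
  induction m with
  | zero =>
    rw [Int.cast_zero, LambdaCore.lamSeries_zero]
    ext k
    cases k <;> simp [PowerSeries.coeff_one, Ring.choose_zero_succ]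
  | succ a ih =>
    rw [Int.cast_add, Int.cast_one, LambdaCore.lamSeries_add, ih, lamSeries_one_of h1, hsucc, map_mul,
      map_add, map_one, PowerSeries.map_X]
    ring
  | pred a ih =>
    have h2 := hsucc (-(a : ℤ) - 1)
    rw [sub_add_cancel] at h2
    rw [h2, map_mul, map_add, map_one, PowerSeries.map_X] at ih
    refine ((PowerSeries.isUnit_iff_constantCoeff.2 (by simp)) : IsUnit (1 + PowerSeries.X : PowerSeries A)).mul_left_cancel ?_
    rw [← ih, ← lamSeries_one_of h1, ← LambdaCore.lamSeries_add]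
    congr 1
    push_cast; ring

theorem algebraMap_int_choose (h1 : ∀ k : ℕ, 2 ≤ k → LambdaOps.lam k (1 : A) = 0) (c : ℤ) (k : ℕ) :
    algebraMap ℤ A (Ring.choose c k) = LambdaOps.lam k (algebraMap ℤ A c) := by
  have := congrArg (PowerSeries.coeff k) (intCast_lam h1 c)
  simp only [LambdaCore.coeff_lamSeries, PowerSeries.coeff_map, PowerSeries.coeff_mk] at this
  simpa using this.symm

theorem gamma_rank_top (h1 : ∀ k : ℕ, 2 ≤ k → LambdaOps.lam k (1 : A) = 0) {N : A} {d : ℕ}
    (hN : ∀ i : ℕ, d < i → LambdaOps.lam i N = 0) :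
    (-1) ^ d * gamma d (N - d) = ∑ i ∈ range (d + 1), (-1) ^ i * LambdaOps.lam i N := by
  rw [← LambdaCore.coeff_gammaSeries, gammaSeries_sub_rank h1 hN, Polynomial.coeff_coe, Polynomial.finset_sum_coeff,
    Finset.mul_sum]
  refine Finset.sum_congr rfl fun i hi => ?_
  rw [Finset.mem_range] at hi
  rw [Polynomial.coeff_C_mul, Polynomial.coeff_X_pow_mul', if_pos (by omega)]
  have hdeg : (1 - Polynomial.X : Polynomial A).natDegree ≤ 1 :=
    (Polynomial.natDegree_sub_le _ _).trans (by simp [Polynomial.natDegree_X_le])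
  have := Polynomial.coeff_pow_of_natDegree_le (m := d - i) hdeg
  rw [mul_one] at this
  rw [this, Polynomial.coeff_sub, Polynomial.coeff_one, Polynomial.coeff_X, if_neg one_ne_zero, if_pos rfl, zero_sub]
  have hs : (-1 : A) ^ d * (-1) ^ (d - i) = (-1) ^ i := by
    rw [show (-1 : A) ^ d = (-1) ^ i * (-1) ^ (d - i) by rw [← pow_add, Nat.add_sub_cancel' (by omega)], mul_assoc,
      ← mul_pow]
    simp
  rw [← hs]; ring

theorem gamma_rank_vanish (h1 : ∀ k : ℕ, 2 ≤ k → LambdaOps.lam k (1 : A) = 0) {N : A} {d : ℕ}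
    (hN : ∀ i : ℕ, d < i → LambdaOps.lam i N = 0) {k : ℕ} (hk : d < k) : gamma k (N - d) = 0 := by
  rw [← LambdaCore.coeff_gammaSeries, gammaSeries_sub_rank h1 hN, Polynomial.coeff_coe, Polynomial.finset_sum_coeff]
  refine Finset.sum_eq_zero fun i hi => ?_
  rw [Finset.mem_range] at hi
  rw [Polynomial.coeff_C_mul, Polynomial.coeff_X_pow_mul', if_pos (by omega),
    Polynomial.coeff_eq_zero_of_natDegree_lt, mul_zero]
  refine lt_of_le_of_lt (Polynomial.natDegree_pow_le_of_le (d - i)
    ((Polynomial.natDegree_sub_le _ _).trans (by simp [Polynomial.natDegree_X_le] : _ ≤ 1))) (by omega)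

end Basic

section GammaFil

variable {K : Type u} [CommRing K] {A : Type v} [CommRing A] [LambdaOps A] (ε : A →+* K)

theorem gradedFam_gammaFil : GradedFam (gammaFil ε) := by
  refine ⟨Ideal.eq_top_iff_one _ |>.2 (Ideal.subset_span ⟨[], by simp, by simp, by simp⟩),
    fun a b hab => Ideal.span_mono fun y hy => ?_, fun {a b x y} hx hy => ?_⟩
  · obtain ⟨l, h1, h2, h3⟩ := hy; exact ⟨l, h1, hab.trans h2, h3⟩
  · have := Ideal.mul_mem_mul hx hy
    rw [gammaFil, gammaFil, Ideal.span_mul_span'] at this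
    refine Ideal.span_mono ?_ this
    rintro _ ⟨_, ⟨l, h1, h2, rfl⟩, _, ⟨l', h1', h2', rfl⟩, rfl⟩
    exact ⟨l ++ l', fun p hp => (List.mem_append.1 hp).elim (h1 p) (h1' p),
      by rw [List.map_append, List.sum_append]; omega, by simp⟩

theorem gamma_mem_gammaFil {a : A} (ha : ε a = 0) (k : ℕ) : gamma k a ∈ gammaFil ε k :=
  Ideal.subset_span ⟨[(k, a)], by simpa using ha, by simp, by simp⟩

variable {ι : Type w} {φ : MvPolynomial (ι × ℕ) K →+* A}

theorem exists_mem_filU_of_mem_gammaFil (hφ : Function.Surjective φ)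
    (hlift : ∀ a, ε a = 0 → ∀ k, ∃ r, φ (X (r, k)) = gamma (k + 1) a) {m : ℕ} {z : A}
    (hz : z ∈ gammaFil ε m) : ∃ p ∈ filU K ι m, φ p = z := by
  have hle : gammaFil ε m ≤ (filU K ι m).map φ := by
    refine Ideal.span_le.2 ?_
    rintro _ ⟨l, h1, h2, rfl⟩
    have key : ∀ l : List (ℕ × A), (∀ p ∈ l, ε p.2 = 0) →
        ∃ p ∈ filU K ι (l.map Prod.fst).sum, φ p = (l.map fun p => gamma p.1 p.2).prod := by
      intro l
      induction l with
      | nil => exact fun _ => ⟨1, gradedFam_filU.one_mem, map_one φ⟩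
      | cons q l ih =>
        intro h
        obtain ⟨p, hp, hp'⟩ := ih fun x hx => h x (List.mem_cons_of_mem _ hx)
        simp only [List.map_cons, List.prod_cons, List.sum_cons]
        obtain ⟨k, a⟩ := q
        cases k with
        | zero => exact ⟨p, by simpa using hp, by simp [hp']⟩
        | succ k =>
          obtain ⟨r, hr⟩ := hlift a (h _ List.mem_cons_self) k
          refine ⟨X (r, k) * p, gradedFam_filU.mul ?_ hp, by rw [map_mul, hr, hp']⟩
          classical
          refine mem_filU.2 fun d hd => ?_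
          have := Finset.mem_singleton.1 (support_monomial_subset hd : d ∈ ({Finsupp.single (r, k) 1} : Finset _))
          rw [this, Finsupp.weight_single]; simp [wU]
    obtain ⟨p, hp, hp'⟩ := key l h1
    exact hp' ▸ Ideal.mem_map_of_mem φ (gradedFam_filU.antitone h2 hp)
  exact (Ideal.mem_map_iff_of_surjective φ hφ).1 (hle hz)

end GammaFil

section Theta

variable {K : Type u} [CommRing K] [BinomialRing K] {ι : Type v} {R : Type w} [CommRing R] [Algebra ℚ R]
  {f : K →+* R}

theorem theta_mem_pow {m : ℕ} {p : MvPolynomial (ι × ℕ) K} (hp : p ∈ filU K ι m) (n : ι → ℕ) :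
    theta f n p ∈ idealOfVars _ R ^ m :=
  map_mem_of_mem_filU (gradedFam_pow (idealOfVars _ R)) (theta f n) (fun r k => by
    rw [(isTarget_theta f n).var r k]
    refine model_gamma_mem ?_ _
    rw [constantCoeff_theta, constantCoeff_X, map_zero]) hp

omit [BinomialRing K] [Algebra ℚ R] in
theorem exists_eq_X_mul_of_theta (hf : Function.Injective f) (r0 : ι) {d : ℕ} (hd : 1 ≤ d)
    {q : MvPolynomial (ι × ℕ) K} (h : ∀ n : ι → ℕ, n r0 = d - 1 → theta f n q = 0) :
    ∃ q', killU {x | x.1 = r0 ∧ d ≤ x.2} q =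
      X (r0, d - 1) * killU {x : ι × ℕ | x.1 = r0 ∧ d ≤ x.2} q' := by
  classical
  set S : Set (ι × ℕ) := {x | x.1 = r0 ∧ d ≤ x.2}
  refine exists_killU_eq_mul (v := (r0, d - 1)) (fun hv => by simp [S] at hv; omega) ?_
  set p' := killU (insert (r0, d - 1) S) q
  let n : ι → ℕ := fun r => if r = r0 then d - 1 else bnd p'
  refine eq_zero_of_theta f hf (n := n) (fun x hx => ?_) ?_
  · have hns := notMem_vars_killU hx
    by_cases hr : x.1 = r0
    · simp only [n, if_pos hr]
      by_contra hle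
      apply hns
      rcases Nat.lt_or_ge x.2 d with hlt | hge
      · exact Or.inl (Prod.ext hr (show x.2 = d - 1 by omega))
      · exact Or.inr ⟨hr, hge⟩
    · simp only [n, if_neg hr]; exact lt_bnd hx
  · rw [killU_comp (theta f n) fun x hx => ?_, h n (by simp [n])]
    obtain ⟨r, k⟩ := x
    rcases hx with hx | ⟨hx1, hx2⟩
    · cases hx; exact theta_X_eq_zero f (by simp [n])
    · subst hx1; exact theta_X_eq_zero f (by simp [n]; omega)

omit [BinomialRing K] [Algebra ℚ R] in
theorem mem_pow_of_X_mul {V : Type x} {g : MvPolynomial V R} {a : V} {p : ℕ}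
    (h : X a * g ∈ idealOfVars V R ^ p) : g ∈ idealOfVars V R ^ (p - 1) := by
  refine (mem_pow_idealOfVars_iff' _ _).2 fun d hd => ?_
  rw [← coeff_X_mul d a g]
  refine (mem_pow_idealOfVars_iff' _ _).1 h _ ?_
  rw [map_add, Finsupp.degree_single]; omega

omit [BinomialRing K] [Algebra ℚ R] in
theorem mem_pow_of_theta_top_mul {n : ι → ℕ} {r0 : ι} {d : ℕ} (hd : 1 ≤ d) (hn : n r0 = d)
    {g : MvPolynomial (Σ r, Fin (n r)) R} {p : ℕ}
    (h : theta f n (X (r0, d - 1)) * g ∈ idealOfVars _ R ^ p) : g ∈ idealOfVars _ R ^ (p - d) := by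
  classical
  rw [theta_X] at h
  rw [show d - 1 + 1 = (Finset.univ : Finset (Fin (n r0))).card by simp; omega, esymm,
    Finset.powersetCard_self, Finset.sum_singleton, map_prod] at h
  have key : ∀ (s : Finset (Fin (n r0))) (g : MvPolynomial (Σ r, Fin (n r)) R) (p : ℕ),
      (∏ a ∈ s, rename (Sigma.mk r0) (X a : MvPolynomial (Fin (n r0)) R)) * g ∈ idealOfVars _ R ^ p →
        g ∈ idealOfVars _ R ^ (p - s.card) := by
    intro s
    induction s using Finset.induction_on with
    | empty => intro g p hg; simpa using hg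
    | insert a s ha ih =>
      intro g p hg
      rw [Finset.prod_insert ha, rename_X, mul_assoc] at hg
      have := ih g (p - 1) (mem_pow_of_X_mul hg)
      rwa [Finset.card_insert_of_notMem ha, show p - (s.card + 1) = p - 1 - s.card by omega]
  simpa [hn] using key _ g p h

end Theta

/-- `Adams` operations of a `λ`-ring are multiplicative. -/
theorem adamsOp_mul {A : Type u} [CommRing A] [LambdaOps A] (hA : IsSpecial A) {k : ℕ} (hk : 1 ≤ k) (a b : A) :
    adamsOp k (a * b) = adamsOp k a * adamsOp k b := by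
  let φ := phiHom (K := ℤ) (fun i : Bool => if i then a else b)
  have hφ : IsTarget φ := isTarget_phiHom hA (algebraMap_int_choose hA.lam_one_eq_zero) _
  let θ := fun n : Bool → ℕ => theta (ι := Bool) (Int.castRingHom ℚ) n
  have hθ : ∀ n, IsTarget (θ n) := fun n => isTarget_theta _ n
  obtain ⟨q1, e1, e1'⟩ := exists_adams_lift hφ hθ (X (true, 0) * X (false, 0)) hk
  obtain ⟨q2, e2, e2'⟩ := exists_adams_lift hφ hθ (X (true, 0)) hk
  obtain ⟨q3, e3, e3'⟩ := exists_adams_lift hφ hθ (X (false, 0)) hk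
  set D := q1 - q2 * q3
  have hD : D = 0 := by
    refine eq_zero_of_theta (Int.castRingHom ℚ) Int.cast_injective (n := fun _ => bnd D) (fun x hx => lt_bnd hx) ?_
    change θ _ D = 0
    rw [map_sub, map_mul, e1', e2', e3', model_adamsOp hk, model_adamsOp hk, model_adamsOp hk, map_mul, map_mul,
      sub_self]
  have := congrArg φ hD
  rw [map_sub, map_mul, e1, e2, e3, map_zero, sub_eq_zero, map_mul] at this
  simpa [φ] using this

/-- `ψ^k ∘ ψ^l = ψ^{kl}`. -/
theorem adamsOp_comp {A : Type u} [CommRing A] [LambdaOps A] (hA : IsSpecial A) {k l : ℕ} (hk : 1 ≤ k)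
    (hl : 1 ≤ l) (a : A) : adamsOp k (adamsOp l a) = adamsOp (k * l) a := by
  let φ := phiHom (K := ℤ) (fun _ : Unit => a)
  have hφ : IsTarget φ := isTarget_phiHom hA (algebraMap_int_choose hA.lam_one_eq_zero) _
  let θ := fun n : Unit → ℕ => theta (ι := Unit) (Int.castRingHom ℚ) n
  have hθ : ∀ n, IsTarget (θ n) := fun n => isTarget_theta _ n
  obtain ⟨q1, e1, e1'⟩ := exists_adams_lift hφ hθ (X ((), 0)) hl
  obtain ⟨q2, e2, e2'⟩ := exists_adams_lift hφ hθ q1 hk
  obtain ⟨q3, e3, e3'⟩ := exists_adams_lift hφ hθ (X ((), 0)) (Nat.mul_pos hk hl)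
  set D := q2 - q3
  have hD : D = 0 := by
    refine eq_zero_of_theta (Int.castRingHom ℚ) Int.cast_injective (n := fun _ => bnd D) (fun x hx => lt_bnd hx) ?_
    change θ _ D = 0
    rw [map_sub, e2', e1', e3', model_adamsOp hl, model_adamsOp hk, model_adamsOp (Nat.mul_pos hk hl),
      modelPsi_comp, sub_self]
  have := congrArg φ hD
  rw [map_sub, e2, e1, e3, map_zero, sub_eq_zero] at this
  simpa [φ] using this

theorem lam_mul_lamNegOne_dvd {A : Type u} [CommRing A] [LambdaOps A] (hA : IsSpecial A) (d : ℕ) (N : A)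
    (hN : ∀ i, d < i → LambdaOps.lam i N = 0) (p : ℕ) (hp : 1 ≤ p) (a : A) :
    (∑ i ∈ range (d + 1), (-1 : A) ^ i * LambdaOps.lam i N) ∣
      LambdaOps.lam p (a * ∑ i ∈ range (d + 1), (-1 : A) ^ i * LambdaOps.lam i N) := by
  rw [← gamma_rank_top hA.lam_one_eq_zero hN]
  rcases Nat.eq_zero_or_pos d with rfl | hd
  · simp
  let φ := phiHom (K := ℤ) (fun i : Bool => if i then a else N - d)
  have hφ : IsTarget φ := isTarget_phiHom hA (algebraMap_int_choose hA.lam_one_eq_zero) _
  let θ := fun n : Bool → ℕ => theta (ι := Bool) (Int.castRingHom ℚ) n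
  have hθ : ∀ n, IsTarget (θ n) := fun n => isTarget_theta _ n
  obtain ⟨q, e, e'⟩ := exists_lam_lift hφ hθ (C ((-1) ^ d) * X (true, 0) * X (false, d - 1)) p
  obtain ⟨q', hq'⟩ := exists_eq_X_mul_of_theta (f := Int.castRingHom ℚ) Int.cast_injective false hd (q := q)
    fun n hn => by
      change θ n q = 0
      rw [e', map_mul (θ n) _ (X (false, d - 1)), show θ n (X (false, d - 1)) = 0 from theta_X_eq_zero _ hn.le,
        mul_zero, LambdaCore.lam_zero_of_pos hp]
  have hkill : ∀ g, φ (killU {x : Bool × ℕ | x.1 = false ∧ d ≤ x.2} g) = φ g := fun g =>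
    killU_comp φ (fun x hx => by
      simp [φ, hx.1, gamma_rank_vanish hA.lam_one_eq_zero hN (show d < x.2 + 1 by have := hx.2; omega)]) g
  have h2 := congrArg φ hq'
  rw [hkill, e, map_mul φ (X (false, d - 1)), hkill] at h2
  have hXv : φ (X (false, d - 1)) = gamma d (N - d) := by simp [φ, Nat.sub_add_cancel hd]
  rw [hXv, map_mul, hXv, map_mul] at h2
  have h3 : φ (C ((-1) ^ d)) = (-1) ^ d := by simp [φ]
  have h4 : φ (X (true, 0)) = a := by simp [φ]
  rw [h3, h4, mul_assoc, mul_left_comm] at h2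
  refine ⟨(-1) ^ d * φ q', h2.trans ?_⟩
  have : (-1 : A) ^ d * (-1) ^ d = 1 := by rw [← mul_pow]; simp
  linear_combination (-(gamma d (N - d) * φ q')) * this

section Augmented

variable {K : Type u} [CommRing K] [LambdaOps K] [BinomialRing K] {A : Type v} [CommRing A] [LambdaOps A]
  [Algebra K A] (ε : A →ₐ[K] K)

theorem algebraMap_choose (hKb : IsBinomial K) (hε : IsAugLambdaAlg K A ε) (c : K) (k : ℕ) :
    algebraMap K A (Ring.choose c k) = LambdaOps.lam k (algebraMap K A c) := by
  rw [← hKb, hε.isLambdaAlg]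

/-- The indices of the universal parametrisation: kernel elements, and one free slot. -/
abbrev AugIdx : Type v := Option {a : A // ε a = 0}

/-- The parametrisation, the free slot going to `a₀`. -/
noncomputable def augPhi (a0 : A) : MvPolynomial (AugIdx ε × ℕ) K →+* A :=
  phiHom fun r => Option.elim r a0 Subtype.val

theorem augPhi_surjective (a0 : A) : Function.Surjective (augPhi ε a0) := fun z =>
  ⟨C (ε z) + X (some ⟨z - algebraMap K A (ε z), by simp⟩, 0), by simp [augPhi]⟩

theorem augPhi_mem {a0 : A} (ha0 : ε a0 = 0) {m : ℕ} {p : MvPolynomial (AugIdx ε × ℕ) K}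
    (hp : p ∈ filU K _ m) : augPhi ε a0 p ∈ gammaFil (ε : A →+* K) m :=
  map_mem_of_mem_filU (gradedFam_gammaFil _) _ (fun r k => by
    simp only [augPhi, phiHom_X]
    exact gamma_mem_gammaFil _ (by rcases r with _ | ⟨a, ha⟩ <;> simp [*]) _) hp

theorem exists_filU_augPhi (a0 : A) {m : ℕ} {z : A} (hz : z ∈ gammaFil (ε : A →+* K) m) :
    ∃ p ∈ filU K (AugIdx ε) m, augPhi ε a0 p = z :=
  exists_mem_filU_of_mem_gammaFil _ (augPhi_surjective ε a0)
    (fun a ha k => ⟨some ⟨a, ha⟩, by simp [augPhi]⟩) hz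

theorem gamma_sub_mem_gammaFil (hKb : IsBinomial K) (hA : IsSpecial A) (hε : IsAugLambdaAlg K A ε)
    {m : ℕ} (hm : 1 ≤ m) {z : A} (hz : z ∈ gammaFil (ε : A →+* K) m) :
    gamma m z - (-1 : A) ^ (m - 1) * ((m - 1).factorial : A) * z ∈ gammaFil (ε : A →+* K) (m + 1) := by
  letI := qExtAlgebra K
  obtain ⟨p, hp, rfl⟩ := exists_filU_augPhi ε 0 hz
  have hφ : IsTarget (augPhi ε (0 : A)) := isTarget_phiHom hA (algebraMap_choose ε hKb hε) _
  let θ := fun n : AugIdx ε → ℕ => theta (ι := AugIdx ε) (toQExt K) n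
  have hθ : ∀ n, IsTarget (θ n) := fun n => isTarget_theta _ n
  obtain ⟨q, e, e'⟩ := exists_gamma_lift hφ hθ p m
  set D := q - (-1) ^ (m - 1) * ((m - 1).factorial : MvPolynomial (AugIdx ε × ℕ) K) * p
  have hD : D ∈ filU K _ (m + 1) := by
    refine mem_filU_of_theta _ (toQExt_injective K) (n := fun _ => bnd D) (fun x hx => lt_bnd hx) ?_
    change θ _ D ∈ _
    simp only [D, map_sub, map_mul, map_pow, map_neg, map_one, map_natCast, e']
    exact model_gamma_sub_mem hm (theta_mem_pow hp _)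
  have := augPhi_mem ε (map_zero ε) hD
  simpa [D, e] using this

theorem gamma_quot_mem (hKb : IsBinomial K) (hA : IsSpecial A) (hε : IsAugLambdaAlg K A ε)
    {d : ℕ} (hd : 1 ≤ d) {N : A} (hN : ∀ k : ℕ, d < k → LambdaOps.lam k N = 0) (hNε : ε N = (d : K))
    (hnzd : (∑ j ∈ range (d + 1), (-1 : A) ^ j * LambdaOps.lam j N) ∈ nonZeroDivisors A)
    {p : ℕ} (hp : 1 ≤ p) {i : ℕ} {a y : A} (ha : a ∈ gammaFil (ε : A →+* K) i)
    (hy : y * (∑ j ∈ range (d + 1), (-1 : A) ^ j * LambdaOps.lam j N) =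
      gamma p (a * ∑ j ∈ range (d + 1), (-1 : A) ^ j * LambdaOps.lam j N)) :
    y ∈ gammaFil (ε : A →+* K) (p - d) ∧ (p = d + i →
      y - (-1 : A) ^ (p - 1) * ((p - 1).factorial : A) * a ∈ gammaFil (ε : A →+* K) (i + 1)) := by
  letI := qExtAlgebra K
  rw [← gamma_rank_top hA.lam_one_eq_zero hN] at hy hnzd
  set φ := augPhi ε (N - d) with hφdef
  have hφ : IsTarget φ := isTarget_phiHom hA (algebraMap_choose ε hKb hε) _
  have ha0 : ε (N - d) = 0 := by simp [hNε]
  let θ := fun n : AugIdx ε → ℕ => theta (ι := AugIdx ε) (toQExt K) n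
  have hθ : ∀ n, IsTarget (θ n) := fun n => isTarget_theta _ n
  set S : Set (AugIdx ε × ℕ) := {x | x.1 = none ∧ d ≤ x.2}
  obtain ⟨pa, hpa, hpa'⟩ := exists_filU_augPhi ε (N - d) ha
  obtain ⟨q, e, e'⟩ := exists_gamma_lift hφ hθ (C ((-1) ^ d) * pa * X (none, d - 1)) p
  obtain ⟨q', hq'⟩ := exists_eq_X_mul_of_theta (f := toQExt K) (toQExt_injective K) (none : AugIdx ε) hd (q := q)
    fun n hn => by
      change θ n q = 0
      rw [e', map_mul (θ n) _ (X (none, d - 1)), show θ n (X (none, d - 1)) = 0 from theta_X_eq_zero _ hn.le,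
        mul_zero, gamma_zero_arg hp]
  have hkill : ∀ g, φ (killU S g) = φ g := fun g =>
    killU_comp φ (fun x hx => by
      simp [φ, augPhi, hx.1, gamma_rank_vanish hA.lam_one_eq_zero hN (show d < x.2 + 1 by have := hx.2; omega)]) g
  have hkillθ : ∀ n : AugIdx ε → ℕ, n none = d → ∀ g, θ n (killU S g) = θ n g := fun n hn g =>
    killU_comp (θ n) (fun x hx => by
      obtain ⟨r, k⟩ := x
      obtain ⟨rfl, h2⟩ := hx
      exact theta_X_eq_zero _ (hn ▸ h2)) g
  have hXv : φ (X (none, d - 1)) = gamma d (N - d) := by simp [φ, augPhi, Nat.sub_add_cancel hd]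
  have hC : φ (C ((-1) ^ d)) = (-1) ^ d := by simp [φ, augPhi]
  have hsq : (-1 : A) ^ d * (-1) ^ d = 1 := by rw [← mul_pow]; simp
  have h2 := congrArg φ hq'
  rw [hkill, e, map_mul φ (X (none, d - 1)), hkill, hXv, map_mul, map_mul, hC, hXv, hpa',
    show (-1 : A) ^ d * a * gamma d (N - d) = a * ((-1) ^ d * gamma d (N - d)) by ring, ← hy] at h2
  have hyq : (-1) ^ d * y = φ q' := by
    refine (mul_cancel_left_mem_nonZeroDivisors hnzd).1 ?_
    linear_combination (-1 : A) ^ d * h2
  let bound : MvPolynomial (AugIdx ε × ℕ) K → AugIdx ε → ℕ := fun D r => if r = none then d else bnd D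
  have hbound : ∀ g, ∀ x ∈ (killU S g).vars, x.2 < bound (killU S g) x.1 := by
    intro g x hx
    by_cases hr : x.1 = none
    · have := notMem_vars_killU hx
      simp only [bound, if_pos hr]
      by_contra hle
      exact this ⟨hr, by omega⟩
    · simp only [bound, if_neg hr]; exact lt_bnd hx
  have hsign : ∀ (n : AugIdx ε → ℕ), θ n (C ((-1) ^ d)) = (-1) ^ d := fun n => by simp [θ]
  have hθq : ∀ n : AugIdx ε → ℕ, n none = d →
      θ n (X (none, d - 1)) * θ n q' = gamma p (θ n (C ((-1) ^ d) * pa * X (none, d - 1))) := fun n hn => by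
    have := congrArg (θ n) hq'
    rw [hkillθ n hn, e', map_mul (θ n) (X (none, d - 1)), hkillθ n hn] at this
    exact this.symm
  have hconst : ∀ n : AugIdx ε → ℕ,
      constantCoeff (θ n (C ((-1) ^ d) * pa * X (none, d - 1))) = 0 := fun n => by
    rw [constantCoeff_theta, map_mul, constantCoeff_X, mul_zero, map_zero]
  refine ⟨?_, fun hpi => ?_⟩
  · have hmem : killU S q' ∈ filU K _ (p - d) := by
      refine mem_filU_of_theta _ (toQExt_injective K) (hbound q') ?_
      refine mem_pow_of_theta_top_mul (f := toQExt K) (r0 := none) hd (by simp [bound]) ?_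
      change θ _ _ * θ _ _ ∈ _
      rw [hkillθ _ (by simp [bound]), hθq _ (by simp [bound])]
      exact model_gamma_mem (hconst _) p
    have := Ideal.mul_mem_left _ ((-1 : A) ^ d) (augPhi_mem ε ha0 hmem)
    rwa [← hφdef, hkill, ← hyq, ← mul_assoc, hsq, one_mul] at this
  · set cst := (-1) ^ (p - 1) * ((p - 1).factorial : MvPolynomial (AugIdx ε × ℕ) K) with hcst
    set g := q' - cst * (C ((-1) ^ d) * pa) with hg
    have hmem : killU S g ∈ filU K _ (i + 1) := by
      refine mem_filU_of_theta _ (toQExt_injective K) (hbound g) ?_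
      have hn0 : bound (killU S g) none = d := by simp [bound]
      rw [show i + 1 = p + 1 - d by omega]
      refine mem_pow_of_theta_top_mul (f := toQExt K) (r0 := none) hd hn0 ?_
      change θ _ _ * θ _ _ ∈ _
      generalize bound (killU S g) = nn at hn0 ⊢
      rw [hkillθ _ hn0, hg, map_sub, mul_sub, hθq _ hn0]
      have hin : θ nn (C ((-1) ^ d) * pa * X (none, d - 1)) ∈
          idealOfVars _ (QExt K) ^ p := by
        refine theta_mem_pow ?_ _
        rw [hpi, add_comm d]
        refine gradedFam_filU.mul (Ideal.mul_mem_left _ _ hpa) ?_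
        refine mem_filU.2 fun e he => ?_
        classical
        have := Finset.mem_singleton.1 (support_monomial_subset he :
          e ∈ ({Finsupp.single ((none : AugIdx ε), d - 1) 1} : Finset _))
        rw [this, Finsupp.weight_single]; simp [wU]; omega
      have := model_gamma_sub_mem hp hin
      convert this using 2
      simp only [hcst, map_mul, map_pow, map_neg, map_one, map_natCast]
      ring
    have := Ideal.mul_mem_left _ ((-1 : A) ^ d) (augPhi_mem ε ha0 hmem)
    rw [← hφdef, hkill, hg, map_sub, ← hyq, hcst] at this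
    simp only [map_mul, show φ pa = a from hpa', map_pow, map_neg, map_one, map_natCast] at this
    convert this using 1
    linear_combination (-(y - (-1) ^ (p - 1) * ((p - 1).factorial : A) * a)) * hsq

end Augmented

theorem constantCoeff_eq_of_aug {K : Type u} [CommRing K] [LambdaOps K] {A : Type v} [CommRing A] [LambdaOps A]
    [Algebra K A] (ε : A →ₐ[K] K) (hε : ∀ i a, ε (LambdaOps.lam i a) = LambdaOps.lam i (ε a))
    {ι : Type w} (a : ι → A) (ha : ∀ r, ε (a r) = 0) (p : MvPolynomial (ι × ℕ) K) :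
    ε (phiHom a p) = constantCoeff p :=
  constantCoeff_eq ((ε : A →+* K).comp (phiHom a)) (RingHom.id K) (fun c => by simp) (fun x => by
    rw [RingHom.comp_apply, phiHom_X, map_gamma' (ε : A →+* K) hε]
    simp [ha, gamma_zero_arg]) p

/-- If `A` is generated by the `γ^{k}(a_r)`, a graded family containing these in the right degrees
contains the γ-filtration. -/
theorem gammaFil_le {K : Type u} [CommRing K] [LambdaOps K] [BinomialRing K] {A : Type v} [CommRing A]
    [LambdaOps A] [Algebra K A] (ε : A →ₐ[K] K) (hKb : IsBinomial K) (hA : IsSpecial A)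
    (hε : IsAugLambdaAlg K A ε) {ι : Type w} (a : ι → A) (ha : ∀ r, ε (a r) = 0)
    (hgen : Function.Surjective (phiHom (K := K) a)) {F : ℕ → Ideal A} (hF : GradedFam F)
    (h : ∀ r k, gamma (k + 1) (a r) ∈ F (k + 1)) (m : ℕ) : gammaFil (ε : A →+* K) m ≤ F m := by
  letI := qExtAlgebra K
  have hφ : IsTarget (phiHom (K := K) a) := isTarget_phiHom hA (algebraMap_choose ε hKb hε) _
  let θ := fun n : ι → ℕ => theta (ι := ι) (toQExt K) n
  have hθ : ∀ n, IsTarget (θ n) := fun n => isTarget_theta _ n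
  refine Ideal.span_le.2 ?_
  rintro _ ⟨l, h1, h2, rfl⟩
  refine hF.antitone h2 (hF.list_prod _ _ l fun ⟨j, z⟩ hjz => ?_)
  obtain ⟨p, rfl⟩ := hgen z
  have hp : constantCoeff p = 0 := (constantCoeff_eq_of_aug ε hε.map_lam a ha p).symm.trans (h1 _ hjz)
  obtain ⟨q, e, e'⟩ := exists_gamma_lift hφ hθ p j
  have hq : q ∈ filU K ι j := by
    refine mem_filU_of_theta _ (toQExt_injective K) (n := fun _ => bnd q) (fun x hx => lt_bnd hx) ?_
    change θ _ q ∈ _
    rw [e']
    exact model_gamma_mem (by rw [constantCoeff_theta, hp, map_zero]) j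
  rw [← e]
  exact map_mem_of_mem_filU hF _ (fun r k => by rw [phiHom_X]; exact h r k) hq

theorem phiHom_surjective_of_adjoin {K : Type u} [CommRing K] {A : Type v} [CommRing A] [LambdaOps A] [Algebra K A]
    {ι : Type w} (a : ι → A) {S : Set A} (hS : ∀ s ∈ S, ∃ p, phiHom (K := K) a p = s)
    (hgen : Algebra.adjoin K S = ⊤) : Function.Surjective (phiHom (K := K) a) := by
  intro z
  have hle : Algebra.adjoin K S ≤ (aeval fun x : ι × ℕ => gamma (x.2 + 1) (a x.1) :
      MvPolynomial (ι × ℕ) K →ₐ[K] A).range := Algebra.adjoin_le fun s hs => hS s hs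
  exact hle (hgen ▸ Algebra.mem_top)

end Groth.MilnorKLambda.Lam
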