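import Mathlib.Algebra.Polynomial.Derivative
import Mathlib.Algebra.Algebra.Rat
import Mathlib.Tactic

/-!
# The truncated logarithm
-/

set_option autoImplicit false
universe u

open Finset Polynomial

namespace Groth.MilnorKLambda.Lam

theorem log_pow_identity {R : Type u} [CommRing R] [Algebra ℚ R] (j d : ℕ) (x : R) (hx : x ^ (d + 1) = 0) :
    ∑ n ∈ range (d + 1), ((-1 : ℚ) ^ n / ((n : ℚ) + 1)) • ((1 + x) ^ j - 1) ^ (n + 1) =
      (j : ℚ) • ∑ n ∈ range (d + 1), ((-1 : ℚ) ^ n / ((n : ℚ) + 1)) • x ^ (n + 1) := by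
  let L : ℚ[X] := ∑ n ∈ range (d + 1), C ((-1 : ℚ) ^ n / ((n : ℚ) + 1)) * X ^ (n + 1)
  let Y : ℚ[X] := (1 + X) ^ j - 1
  let P : ℚ[X] := L.comp Y - C (j : ℚ) * L
  have hL : derivative L * (1 + X) = 1 - (-X) ^ (d + 1) := by
    have hd : derivative L = ∑ n ∈ range (d + 1), (-X : ℚ[X]) ^ n := by
      simp only [L, derivative_sum, derivative_C_mul, derivative_X_pow, Nat.cast_add, Nat.cast_one,
        Nat.add_sub_cancel]
      refine Finset.sum_congr rfl fun n _ => ?_
      rw [← mul_assoc, ← C_mul, div_mul_cancel₀ _ (by positivity), neg_pow (X : ℚ[X]), map_pow, map_neg, map_one]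
    rw [hd, ← geom_sum_mul_neg (-X : ℚ[X]) (d + 1)]
    ring
  have hY : X ∣ Y := by
    rw [X_dvd_iff, coeff_zero_eq_eval_zero]; simp [Y]
  have hP' : X ^ (d + 1) ∣ derivative P * (1 + X) := by
    have hY' : derivative Y * (1 + X) = C (j : ℚ) * (1 + Y) := by
      cases j with
      | zero => simp [Y]
      | succ j =>
        simp only [Y, derivative_sub, derivative_pow_succ, derivative_add, derivative_one, derivative_X, zero_add,
          mul_one, sub_zero]
        push_cast
        ring
    have hcomp := congrArg (fun p : ℚ[X] => p.comp Y) hL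
    simp only [mul_comp, add_comp, one_comp, X_comp, sub_comp, pow_comp, neg_comp] at hcomp
    have : derivative P * (1 + X) = C (j : ℚ) * ((-X) ^ (d + 1) - (-Y) ^ (d + 1)) := by
      simp only [P, derivative_sub, derivative_comp, derivative_C_mul]
      linear_combination (derivative L).comp Y * hY' + C (j : ℚ) * hcomp - C (j : ℚ) * hL
    rw [this]
    exact Dvd.dvd.mul_left (dvd_sub (pow_dvd_pow_of_dvd (dvd_neg.2 dvd_rfl) _)
      (pow_dvd_pow_of_dvd (dvd_neg.2 hY) _)) _
  have hP'' : X ^ (d + 1) ∣ derivative P := by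
    refine IsCoprime.dvd_of_dvd_mul_right (IsCoprime.pow_left ?_) hP'
    exact ⟨-1, 1, by ring⟩
  have hdvd : X ^ (d + 1) ∣ P := by
    rw [X_pow_dvd_iff] at hP'' ⊢
    intro i hi
    cases i with
    | zero =>
      rw [coeff_zero_eq_eval_zero]
      simp [P, Y, L, eval_comp, eval_finset_sum]
    | succ i =>
      have := hP'' i (by omega)
      rw [coeff_derivative] at this
      exact (mul_eq_zero.1 this).resolve_right (by positivity)
  obtain ⟨g, hg⟩ := hdvd
  have h := congrArg (aeval x) hg
  simp only [P, L, Y, map_sub, map_mul, map_pow, aeval_comp, map_sum, aeval_X, aeval_C, map_add, map_one, hx,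
    zero_mul, sub_eq_zero, ← Algebra.smul_def] at h
  exact h

end Groth.MilnorKLambda.Lam
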