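import Groth.Agent.LambdaCore.Gamma
import Mathlib.Algebra.Polynomial.Reverse

/-!
# Identities valid in a pre-λ-ring with `λ_t(1) = 1 + t`
-/

set_option autoImplicit false
universe u v

open PowerSeries Finset LambdaRing Groth.LambdaCore

namespace Groth.MilnorKLambda.Lam

variable {K : Type u} [CommRing K] [LambdaOps K]

theorem lamSeries_one_of (h1 : ∀ k : ℕ, 2 ≤ k → LambdaOps.lam k (1 : K) = 0) :
    lamSeries (1 : K) = 1 + X := by
  simpa using lamSeries_of_lam_eq_zero h1

theorem lamSeries_natCast_of (h1 : ∀ k : ℕ, 2 ≤ k → LambdaOps.lam k (1 : K) = 0) (n : ℕ) :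
    lamSeries (n : K) = (1 + X) ^ n := by
  rw [← lamSeries_one_of h1, ← lamSeries_nsmul, nsmul_one]

theorem one_sub_X_mul_tDivOneSub : (1 - X) * tDivOneSub K = X := by
  have := (PowerSeries.invOneSubPow K 1).val_inv
  rw [PowerSeries.invOneSubPow_inv_eq_one_sub_pow, pow_one] at this
  rw [tDivOneSub]
  linear_combination X * this

theorem one_sub_X_mul_one_add_tDivOneSub :
    (1 - X : PowerSeries K) * (1 + tDivOneSub K) = 1 := by
  rw [mul_add, one_sub_X_mul_tDivOneSub]; ring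

theorem gammaSeries_natCast (h1 : ∀ k : ℕ, 2 ≤ k → LambdaOps.lam k (1 : K) = 0) (n : ℕ) :
    (1 - X) ^ n * gammaSeries (n : K) = 1 := by
  rw [gammaSeries_eq_subst, lamSeries_natCast_of h1, ← coe_substAlgHom hasSubst_tDivOneSub, map_pow,
    map_add, map_one, substAlgHom_X, ← mul_pow, one_sub_X_mul_one_add_tDivOneSub, one_pow]

theorem gammaSeries_sub_natCast (h1 : ∀ k : ℕ, 2 ≤ k → LambdaOps.lam k (1 : K) = 0) (x : K) (n : ℕ) :
    gammaSeries (x - n) = (1 - X) ^ n * gammaSeries x := by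
  conv_rhs => rw [show x = (x - n) + n by ring, gammaSeries_add]
  rw [mul_left_comm, gammaSeries_natCast h1, mul_one]

theorem gammaSeries_of_lam_eq_zero {y : K} (hy : ∀ j : ℕ, 2 ≤ j → LambdaOps.lam j y = 0) :
    gammaSeries y = 1 + C y * tDivOneSub K := by
  rw [gammaSeries_eq_subst, lamSeries_of_lam_eq_zero hy, ← coe_substAlgHom hasSubst_tDivOneSub, map_add,
    map_one, map_mul, substAlgHom_X, coe_substAlgHom, subst_C]
  rfl

theorem gammaSeries_line_sub_one_of (h1 : ∀ k : ℕ, 2 ≤ k → LambdaOps.lam k (1 : K) = 0) {y : K}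
    (hy : ∀ j : ℕ, 2 ≤ j → LambdaOps.lam j y = 0) :
    gammaSeries (y - 1) = 1 + C (y - 1) * X := by
  have h := gammaSeries_sub_natCast h1 y 1
  rw [Nat.cast_one, pow_one, gammaSeries_of_lam_eq_zero hy] at h
  rw [h, map_sub, map_one]
  linear_combination C y * one_sub_X_mul_tDivOneSub (K := K)

/-- `λ_t(y)` substituted, for `λ^i y = 0`, `i > m`. -/
theorem gammaSeries_sub_rank (h1 : ∀ k : ℕ, 2 ≤ k → LambdaOps.lam k (1 : K) = 0) {y : K} {m : ℕ}
    (hy : ∀ i : ℕ, m < i → LambdaOps.lam i y = 0) :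
    gammaSeries (y - m) =
      ((∑ i ∈ range (m + 1), Polynomial.C (LambdaOps.lam i y) * (Polynomial.X ^ i *
        (1 - Polynomial.X) ^ (m - i)) : Polynomial K) : PowerSeries K) := by
  rw [gammaSeries_sub_natCast h1]
  have hl : lamSeries y = ∑ i ∈ range (m + 1), C (LambdaOps.lam i y) * X ^ i := by
    ext j
    simp only [coeff_lamSeries, map_sum, coeff_C_mul, coeff_X_pow, mul_ite, mul_one, mul_zero,
      Finset.sum_ite_eq, Finset.mem_range]
    split_ifs with h
    · rfl
    · exact hy j (by omega)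
  rw [gammaSeries_eq_subst, hl, ← coe_substAlgHom hasSubst_tDivOneSub, map_sum, Finset.mul_sum,
    ← Polynomial.coeToPowerSeries.ringHom_apply, map_sum]
  refine Finset.sum_congr rfl fun i hi => ?_
  rw [Finset.mem_range] at hi
  simp only [Polynomial.coeToPowerSeries.ringHom_apply, Polynomial.coe_mul, Polynomial.coe_C,
    Polynomial.coe_pow, Polynomial.coe_sub, Polynomial.coe_one, Polynomial.coe_X, map_mul, map_pow, substAlgHom_X]
  rw [coe_substAlgHom, subst_C]
  rw [show (1 - X : PowerSeries K) ^ m = (1 - X) ^ (m - i) * (1 - X) ^ i by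
    rw [← pow_add, Nat.sub_add_cancel (by omega)]]
  change (1 - X) ^ (m - i) * (1 - X) ^ i * (C (LambdaOps.lam i y) * tDivOneSub K ^ i) = _
  calc _ = C (LambdaOps.lam i y) * (((1 - X) * tDivOneSub K) ^ i * (1 - X) ^ (m - i)) := by rw [mul_pow]; ring
    _ = _ := by rw [one_sub_X_mul_tDivOneSub]

end Groth.MilnorKLambda.Lam
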