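import Groth.Agent.MilnorKLambda.LamRat
import Groth.Agent.MilnorKLambda.LamPre
import Mathlib.Algebra.Group.ForwardDiff
import Mathlib.RingTheory.MvPolynomial.Ideal

/-!
# The model `λ`-rings: polynomials in `x_v = L_v - 1`
-/

set_option autoImplicit false
universe u v w

open Finset MvPolynomial LambdaRing

namespace Groth.MilnorKLambda.Lam

theorem coeff_prod_one_add_C_mul_X {R : Type u} [CommRing R] {σ : Type v} (s : Finset σ) (a : σ → R) (k : ℕ) :
    PowerSeries.coeff k (∏ i ∈ s, (1 + PowerSeries.C (a i) * PowerSeries.X)) = (s.val.map a).esymm k := by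
  classical
  induction s using Finset.induction_on generalizing k with
  | empty => cases k <;> simp [Multiset.esymm, Multiset.powersetCard_zero_right]
  | insert x s hx ih =>
    rw [Finset.prod_insert hx, Finset.insert_val_of_notMem hx, Multiset.map_cons]
    cases k with
    | zero =>
      rw [add_mul, one_mul, map_add, ih, mul_assoc, PowerSeries.coeff_C_mul, PowerSeries.coeff_zero_X_mul]
      simp [Multiset.esymm]
    | succ k =>
      rw [add_mul, one_mul, map_add, ih, mul_assoc, PowerSeries.coeff_C_mul, PowerSeries.coeff_succ_X_mul, ih]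
      simp [Multiset.esymm, Multiset.powersetCard_cons, Multiset.map_map, Multiset.sum_map_mul_left]

section Generic

variable {B : Type u} [CommRing B] [LambdaOps B]

/-- If all `ψ^k u = c ψ^k a` and `γ_t(a) = 1 + a t`, then `γ_t(u) = (1 + a t)^c`. -/
theorem gamma_succ_of_adams {u a c : B} (hψ : ∀ k, 1 ≤ k → adamsOp k u = c * adamsOp k a)
    (ha : LambdaCore.gammaSeries a = 1 + PowerSeries.C a * PowerSeries.X) (n : ℕ) :
    ((n : B) + 1) * gamma (n + 1) u = (c - n) * a * gamma n u := by
  have hT : PowerSeries.HasSubst (LambdaCore.tDivOneSub B) := LambdaCore.hasSubst_tDivOneSub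
  have hu := (isExp_lam u).deriv
  have hx := (isExp_lam a).deriv
  change PowerSeries.derivative B (lamSeries u) = lamSeries u * _ at hu
  change PowerSeries.derivative B (lamSeries a) = lamSeries a * _ at hx
  have hp : pSer (fun k => adamsOp k u) = PowerSeries.C c * pSer (fun k => adamsOp k a) := by
    ext i
    rw [PowerSeries.coeff_C_mul]
    simp only [pSer, PowerSeries.coeff_mk, hψ (i + 1) (by omega)]
    ring
  have h : PowerSeries.derivative B (lamSeries u) * lamSeries a =
      PowerSeries.C c * lamSeries u * PowerSeries.derivative B (lamSeries a) := by rw [hu, hp, hx]; ring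
  have h2 := congrArg (fun s => PowerSeries.substAlgHom hT s *
    PowerSeries.derivative B (LambdaCore.tDivOneSub B)) h
  simp only [map_mul, PowerSeries.coe_substAlgHom, ← LambdaCore.gammaSeries_eq_subst] at h2
  rw [PowerSeries.subst_C, show (MvPowerSeries.C c : PowerSeries B) = PowerSeries.C c from rfl] at h2
  have hd : PowerSeries.derivative B (LambdaCore.gammaSeries u) * LambdaCore.gammaSeries a =
      PowerSeries.C c * LambdaCore.gammaSeries u * PowerSeries.derivative B (LambdaCore.gammaSeries a) := by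
    rw [LambdaCore.gammaSeries_eq_subst u, LambdaCore.gammaSeries_eq_subst a, PowerSeries.derivative_subst hT,
      PowerSeries.derivative_subst hT, ← LambdaCore.gammaSeries_eq_subst u, ← LambdaCore.gammaSeries_eq_subst a]
    linear_combination h2
  rw [ha, map_add, Derivation.map_one_eq_zero, zero_add, Derivation.leibniz, PowerSeries.derivative_C,
    PowerSeries.derivative_X] at hd
  simp only [smul_eq_mul, mul_one, mul_zero, add_zero] at hd
  have h3 := congrArg (PowerSeries.coeff n) hd
  rw [mul_add, mul_one, map_add, mul_assoc (PowerSeries.C c), PowerSeries.coeff_C_mul,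
    ← mul_assoc _ (PowerSeries.C a), mul_comm _ (PowerSeries.C a), mul_assoc (PowerSeries.C a),
    PowerSeries.coeff_C_mul, mul_comm (LambdaCore.gammaSeries u), PowerSeries.coeff_C_mul,
    PowerSeries.coeff_derivative, LambdaCore.coeff_gammaSeries, LambdaCore.coeff_gammaSeries] at h3
  cases n with
  | zero =>
    rw [mul_comm _ PowerSeries.X, PowerSeries.coeff_zero_X_mul] at h3
    simp only [Nat.cast_zero] at h3 ⊢
    linear_combination h3
  | succ n =>
    rw [PowerSeries.coeff_succ_mul_X, PowerSeries.coeff_derivative, LambdaCore.coeff_gammaSeries] at h3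
    push_cast at h3 ⊢
    linear_combination h3

end Generic

section Model

variable (R : Type u) [CommRing R] [Algebra ℚ R] (V : Type v)

/-- `ψ^k` of the model. -/
noncomputable def modelPsi (k : ℕ) : MvPolynomial V R →ₐ[R] MvPolynomial V R :=
  aeval fun x => (1 + X x) ^ k - 1

theorem modelPsi_one : modelPsi R V 1 = AlgHom.id R _ := algHom_ext fun x => by simp [modelPsi]

/-- The `λ`-operations of the model. -/
@[reducible] noncomputable def modelOps : LambdaOps (MvPolynomial V R) where
  lam n p := eFun (fun k => modelPsi R V k p) n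
  lam_zero p := eFun_zero _
  lam_one p := by
    rw [eFun, Fin.sum_univ_one]
    simp [eFun_zero, modelPsi_one]
  lam_add k p q := by
    rw [← eFun_add]
    simp only [map_add]

attribute [local instance] modelOps

variable {R V}

theorem model_lam (n : ℕ) (p : MvPolynomial V R) :
    LambdaOps.lam n p = eFun (fun k => modelPsi R V k p) n := rfl

theorem model_adamsOp {k : ℕ} (hk : 1 ≤ k) (p : MvPolynomial V R) : adamsOp k p = modelPsi R V k p :=
  (adamsOp_eq_nwt k p).trans (nwt_eFun (fun k => modelPsi R V k p) hk)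

theorem modelPsi_comp (k l : ℕ) (p : MvPolynomial V R) :
    modelPsi R V k (modelPsi R V l p) = modelPsi R V (k * l) p := by
  have : (modelPsi R V k).comp (modelPsi R V l) = modelPsi R V (k * l) :=
    algHom_ext fun x => by simp [modelPsi, pow_mul]
  exact DFunLike.congr_fun this p

theorem modelPsi_one_add_X (k : ℕ) (x : V) :
    modelPsi R V k (1 + X x) = (1 + X x : MvPolynomial V R) ^ k := by simp [modelPsi]

theorem model_isSpecial : IsSpecial (MvPolynomial V R) := by
  refine isSpecial_of_adams (fun k hk => ?_) (fun k hk p q => ?_) fun k l hk hl p => ?_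
  · rw [model_adamsOp hk, map_one]
  · rw [model_adamsOp hk, model_adamsOp hk, model_adamsOp hk, map_mul]
  · rw [model_adamsOp hl, model_adamsOp hk, model_adamsOp (Nat.mul_pos hk hl), modelPsi_comp]

theorem model_lam_C {K : Type w} [CommRing K] [BinomialRing K] (f : K →+* R) (a : K) (n : ℕ) :
    LambdaOps.lam n (C (f a) : MvPolynomial V R) = C (f (Ring.choose a n)) := by
  rw [model_lam]
  refine Eq.symm (((isExp_choose a).map ((C : R →+* MvPolynomial V R).comp f)).eq_eFun _ n fun k _ _ => ?_)
  simp [modelPsi]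

/-- A line element of the model. -/
def IsModelLine (L : MvPolynomial V R) : Prop :=
  constantCoeff L = 1 ∧ ∀ k, 1 ≤ k → modelPsi R V k L = L ^ k

theorem IsModelLine.lam_eq_zero {L : MvPolynomial V R} (hL : IsModelLine L) {i : ℕ} (hi : 2 ≤ i) :
    LambdaOps.lam i L = 0 := by
  rw [model_lam, eFun_congr i fun k hk _ => hL.2 k hk,
    ← (isExp_line L).eq_eFun _ i fun k _ _ => rfl, if_neg (by omega), if_neg (by omega)]

theorem IsModelLine.gammaSeries_eq {L : MvPolynomial V R} (hL : IsModelLine L) :
    LambdaCore.gammaSeries (L - 1) = 1 + PowerSeries.C (L - 1) * PowerSeries.X :=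
  gammaSeries_line_sub_one_of model_isSpecial.lam_one_eq_zero fun _ hi => hL.lam_eq_zero hi

theorem isModelLine_one_add_X (x : V) : IsModelLine (1 + X x : MvPolynomial V R) :=
  ⟨by simp, fun k _ => modelPsi_one_add_X k x⟩

theorem IsModelLine.mul {L M : MvPolynomial V R} (hL : IsModelLine L) (hM : IsModelLine M) :
    IsModelLine (L * M) :=
  ⟨by rw [map_mul, hL.1, hM.1, one_mul], fun k hk => by rw [map_mul, hL.2 k hk, hM.2 k hk, mul_pow]⟩

theorem model_gamma_succ_X (x : V) : LambdaCore.gammaSeries (X x : MvPolynomial V R) =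
    1 + PowerSeries.C (X x) * PowerSeries.X := by
  simpa using (isModelLine_one_add_X (R := R) x).gammaSeries_eq

theorem model_gamma_block {σ : Type w} [Fintype σ] (e : σ → V) (k : ℕ) :
    gamma k (∑ a, (X (e a) : MvPolynomial V R)) = rename e (esymm σ R k) := by
  rw [← LambdaCore.coeff_gammaSeries, LambdaCore.gammaSeries_sum]
  simp only [model_gamma_succ_X]
  rw [coeff_prod_one_add_C_mul_X, Finset.esymm_map_val, esymm, map_sum]
  simp

theorem mem_of_nsmul_mem {B : Type w} [CommRing B] [Algebra ℚ B] (J : Ideal B) (n : ℕ) {b : B}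
    (h : ((n : B) + 1) * b ∈ J) : b ∈ J := by
  have := J.mul_mem_left (algebraMap ℚ B ((n : ℚ) + 1)⁻¹) h
  rwa [← mul_assoc, show (n : B) + 1 = algebraMap ℚ B ((n : ℚ) + 1) by simp, ← map_mul,
    inv_mul_cancel₀ (by positivity), map_one, one_mul] at this

local notation "𝕀" => idealOfVars V R

theorem mem_idealOfVars_iff {f : MvPolynomial V R} : f ∈ 𝕀 ↔ constantCoeff f = 0 := by
  rw [← pow_one 𝕀, mem_pow_idealOfVars_iff']
  constructor
  · intro h; exact h 0 (by simp)
  · intro h d hd
    have : d = 0 := (Finsupp.degree_eq_zero_iff d).1 (by omega)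
    subst this; exact h

theorem sub_C_constantCoeff_mem (f : MvPolynomial V R) : f - C (constantCoeff f) ∈ 𝕀 := by
  simp [mem_idealOfVars_iff]

theorem gamma_smul_line_mem {L : MvPolynomial V R} (hL : IsModelLine L) (c : R) :
    ∀ n, gamma n (C c * (L - 1)) ∈ 𝕀 ^ n
  | 0 => by simp
  | n + 1 => by
    refine mem_of_nsmul_mem _ n ?_
    rw [gamma_succ_of_adams (c := C c) (fun k hk => ?_) hL.gammaSeries_eq n, pow_succ', mul_assoc]
    · exact Ideal.mul_mem_left _ _ (Ideal.mul_mem_mul (mem_idealOfVars_iff.2 (by simp [hL.1]))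
        (gamma_smul_line_mem hL c n))
    · rw [model_adamsOp hk, model_adamsOp hk, map_mul]
      simp [modelPsi]

theorem model_gamma_mem {f : MvPolynomial V R} (hf : constantCoeff f = 0) (n : ℕ) : gamma n f ∈ 𝕀 ^ n := by
  let P : MvPolynomial V R → Prop := fun g => ∀ n, gamma n (g - C (constantCoeff g)) ∈ 𝕀 ^ n
  have hadd : ∀ g h, P g → P h → P (g + h) := by
    intro g h hg hh n
    rw [map_add, map_add, show g + h - (C (constantCoeff g) + C (constantCoeff h)) =
        (g - C (constantCoeff g)) + (h - C (constantCoeff h)) by ring,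
      ← LambdaCore.coeff_gammaSeries, LambdaCore.gammaSeries_add, LambdaCore.coeff_mul_range]
    refine Ideal.sum_mem _ fun i hi => ?_
    rw [Finset.mem_range] at hi
    have := Ideal.mul_mem_mul (hg i) (hh (n - i))
    rw [← pow_add, Nat.add_sub_cancel' (by omega)] at this
    simpa using this
  have hline : ∀ g : MvPolynomial V R, ∀ L, IsModelLine L → ∀ c : R, P (C c * (g * L)) := by
    intro g
    induction g using MvPolynomial.induction_on with
    | C a =>
      intro L hL c n
      have := gamma_smul_line_mem hL (c * a) n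
      simpa [hL.1, mul_sub, mul_assoc] using this
    | add g h hg hh =>
      intro L hL c
      rw [add_mul, mul_add]
      exact hadd _ _ (hg L hL c) (hh L hL c)
    | mul_X g x hg =>
      intro L hL c
      rw [show C c * (g * X x * L) = C c * (g * ((1 + X x) * L)) + C (-c) * (g * L) by rw [map_neg]; ring]
      exact hadd _ _ (hg _ ((isModelLine_one_add_X x).mul hL) c) (hg L hL (-c))
  have := hline f 1 ⟨map_one _, fun k _ => by simp⟩ 1 n
  simpa [hf] using this

theorem modelPsi_sub_mem (j : ℕ) : ∀ (m : ℕ) {z : MvPolynomial V R}, z ∈ 𝕀 ^ m →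
    modelPsi R V j z - (j : MvPolynomial V R) ^ m * z ∈ 𝕀 ^ (m + 1) := by
  have h0 : ∀ z : MvPolynomial V R, modelPsi R V j z - z ∈ 𝕀 := by
    intro z
    induction z using MvPolynomial.induction_on with
    | C a => simp [modelPsi]
    | add g h hg hh =>
      rw [map_add, show modelPsi R V j g + modelPsi R V j h - (g + h) =
        (modelPsi R V j g - g) + (modelPsi R V j h - h) by ring]
      exact add_mem hg hh
    | mul_X g x hg =>
      refine sub_mem ?_ (Ideal.mul_mem_left _ _ (Ideal.subset_span ⟨x, rfl⟩ : X x ∈ 𝕀))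
      rw [map_mul]
      exact Ideal.mul_mem_left _ _ (mem_idealOfVars_iff.2 (by simp [modelPsi]))
  have h1 : ∀ z ∈ 𝕀, modelPsi R V j z - (j : MvPolynomial V R) * z ∈ 𝕀 ^ 2 := by
    intro z hz
    induction hz using Submodule.span_induction with
    | mem z hz =>
      obtain ⟨x, rfl⟩ := hz
      rw [modelPsi, aeval_X]
      clear h0
      induction j with
      | zero => simp
      | succ j ih =>
        have ha : (1 + X x : MvPolynomial V R) ^ (j + 1) - 1 - ((j + 1 : ℕ) : MvPolynomial V R) * X x =
            ((1 + X x) ^ j - 1 - (j : MvPolynomial V R) * X x) * (1 + X x) + (j : MvPolynomial V R) * (X x * X x) := by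
          push_cast; ring
        rw [ha, sq]
        exact add_mem (Ideal.mul_mem_right _ _ (sq 𝕀 ▸ ih))
          (Ideal.mul_mem_left _ _ (Ideal.mul_mem_mul (Ideal.subset_span ⟨x, rfl⟩ : X x ∈ 𝕀) (Ideal.subset_span ⟨x, rfl⟩ : X x ∈ 𝕀)))
    | zero => simp
    | add a b _ _ ha hb =>
      rw [map_add, show modelPsi R V j a + modelPsi R V j b - (j : MvPolynomial V R) * (a + b) =
        (modelPsi R V j a - j * a) + (modelPsi R V j b - j * b) by ring]
      exact add_mem ha hb
    | smul r a ha' ha =>
      have hb : modelPsi R V j a ∈ 𝕀 := by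
        have := add_mem (Ideal.pow_le_self two_ne_zero ha) (Ideal.mul_mem_left 𝕀 (j : MvPolynomial V R) ha')
        rwa [sub_add_cancel] at this
      rw [smul_eq_mul, map_mul, show modelPsi R V j r * modelPsi R V j a - j * (r * a) =
        (modelPsi R V j r - r) * modelPsi R V j a + r * (modelPsi R V j a - j * a) by ring]
      exact add_mem (sq 𝕀 ▸ Ideal.mul_mem_mul (h0 r) hb) (Ideal.mul_mem_left _ _ ha)
  intro m
  induction m with
  | zero => intro z _; simpa using h0 z
  | succ m ih =>
    intro z hz
    rw [pow_succ] at hz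
    refine Submodule.mul_induction_on hz (fun a ha b hb => ?_) fun a b ha hb => ?_
    · have hb' : modelPsi R V j b ∈ 𝕀 := by
        have := add_mem (Ideal.pow_le_self two_ne_zero (h1 b hb)) (Ideal.mul_mem_left 𝕀 (j : MvPolynomial V R) hb)
        rwa [sub_add_cancel] at this
      rw [map_mul, show modelPsi R V j a * modelPsi R V j b - (j : MvPolynomial V R) ^ (m + 1) * (a * b) =
        (modelPsi R V j a - (j : MvPolynomial V R) ^ m * a) * modelPsi R V j b +
          (j : MvPolynomial V R) ^ m * (a * (modelPsi R V j b - j * b)) by ring]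
      refine add_mem ?_ (Ideal.mul_mem_left _ _ ?_)
      · have := Ideal.mul_mem_mul (ih ha) hb'
        rwa [← pow_succ] at this
      · have := Ideal.mul_mem_mul ha (h1 b hb)
        rwa [← pow_add] at this
    · rw [map_add, show modelPsi R V j a + modelPsi R V j b - (j : MvPolynomial V R) ^ (m + 1) * (a + b) =
        (modelPsi R V j a - (j : MvPolynomial V R) ^ (m + 1) * a) +
          (modelPsi R V j b - (j : MvPolynomial V R) ^ (m + 1) * b) by ring]
      exact add_mem ha hb

theorem sum_choose_neg_one_pow_mul_pow (M : ℕ) :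
    ∑ i ∈ range (M + 1), (-1 : ℤ) ^ i * (M.choose i) * ((i : ℤ) + 1) ^ M = (-1) ^ M * M.factorial := by
  have h := congrFun (fwdDiff_iter_eq_factorial (R := ℤ) (n := M)) 1
  rw [fwdDiff_iter_eq_sum_shift] at h
  simp only [zsmul_eq_mul, Int.cast_eq, nsmul_one, Pi.natCast_apply, Int.cast_id] at h
  rw [← h, Finset.mul_sum]
  refine Finset.sum_congr rfl fun i hi => ?_
  rw [Finset.mem_range] at hi
  have : (-1 : ℤ) ^ M = (-1) ^ (M - i) * (-1) ^ i := by rw [← pow_add, Nat.sub_add_cancel (by omega)]
  rw [this, add_comm (1 : ℤ)]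
  have h1 : ((-1 : ℤ) ^ (M - i)) * (-1) ^ (M - i) = 1 := by rw [← mul_pow]; simp
  linear_combination (-((-1 : ℤ) ^ i * (M.choose i) * ((i : ℤ) + 1) ^ M)) * h1

theorem model_gamma_sub_mem {m : ℕ} (hm : 1 ≤ m) {z : MvPolynomial V R} (hz : z ∈ 𝕀 ^ m) :
    gamma m z - (-1) ^ (m - 1) * ((m - 1).factorial : MvPolynomial V R) * z ∈ 𝕀 ^ (m + 1) := by
  obtain ⟨M, rfl⟩ : ∃ M, m = M + 1 := ⟨m - 1, by omega⟩
  rw [Nat.add_sub_cancel]
  let q : MvPolynomial V R →+* MvPolynomial V R ⧸ 𝕀 ^ (M + 1 + 1) := Ideal.Quotient.mk _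
  rw [← Ideal.Quotient.mk_eq_mk_iff_sub_mem]
  change q _ = q _
  have hψ : ∀ k, q (modelPsi R V k z) = (k : _) ^ (M + 1) * q z := fun k => by
    rw [← map_natCast q, ← map_pow, ← map_mul, Ideal.Quotient.eq]
    exact modelPsi_sub_mem k _ hz
  have hmul : ∀ a b, q (z * a) * q (z * b) = 0 := fun a b => by
    rw [← map_mul, Ideal.Quotient.eq_zero_iff_mem, show z * a * (z * b) = (z * z) * (a * b) by ring]
    refine Ideal.mul_mem_right _ _ (Ideal.pow_le_pow_right (by omega : M + 1 + 1 ≤ (M + 1) + (M + 1)) ?_)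
    rw [pow_add]; exact Ideal.mul_mem_mul hz hz
  have hlam : ∀ j, q (LambdaOps.lam (j + 1) z) = (-1) ^ j * ((j : _) + 1) ^ M * q z := by
    intro j
    induction j using Nat.strong_induction_on with
    | _ j ih =>
      have h := ((isExp_eFun fun k => modelPsi R V k z).map q).coeff j
      simp only [← model_lam] at h
      rw [Finset.sum_range_succ, Nat.sub_self, LambdaOps.lam_zero, map_one, mul_one,
        Finset.sum_eq_zero fun i hi => ?_, zero_add, hψ] at h
      · obtain ⟨u, hu⟩ : IsUnit ((j : MvPolynomial V R ⧸ 𝕀 ^ (M + 1 + 1)) + 1) := by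
          rw [show (j : MvPolynomial V R ⧸ 𝕀 ^ (M + 1 + 1)) + 1 = algebraMap ℚ _ ((j : ℚ) + 1) by simp]
          exact (isUnit_iff_ne_zero.2 (by positivity)).map _
        refine u.isUnit.mul_left_cancel ?_
        rw [hu, h]
        push_cast
        ring
      · rw [Finset.mem_range] at hi
        obtain ⟨l, hl⟩ : ∃ l, j - i = l + 1 := ⟨j - i - 1, by omega⟩
        rw [hl, ih l (by omega), hψ]
        have := hmul 1 1
        rw [mul_one] at this
        linear_combination ((-1) ^ i * ((i + 1 : ℕ) : MvPolynomial V R ⧸ 𝕀 ^ (M + 1 + 1)) ^ (M + 1) *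
          ((-1) ^ l * ((l : MvPolynomial V R ⧸ 𝕀 ^ (M + 1 + 1)) + 1) ^ M)) * this
  rw [gamma, if_neg (Nat.succ_ne_zero M), Finset.sum_range_succ']
  simp only [Nat.add_sub_cancel, Nat.succ_ne_zero, if_false, if_true, mul_zero, add_zero, map_sum,
    map_mul, map_natCast, hlam, map_pow, map_neg, map_one]
  have hid := congrArg (Int.cast : ℤ → MvPolynomial V R ⧸ 𝕀 ^ (M + 1 + 1)) (sum_choose_neg_one_pow_mul_pow M)
  push_cast at hid
  rw [← hid, Finset.sum_mul]
  exact Finset.sum_congr rfl fun i _ => by ring

end Model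

end Groth.MilnorKLambda.Lam
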