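import Groth.Prelude.Def_LambdaSp
import Groth.Agent.LambdaCore.Split
import Mathlib.Algebra.Algebra.Rat
import Mathlib.RingTheory.PowerSeries.Derivative

/-!
# Newton's correspondence between `λ_t` and the Adams operations
-/

set_option autoImplicit false
universe u v w

open PowerSeries Finset

namespace Groth.MilnorKLambda.Lam

variable {R : Type u} [CommRing R] {S : Type v} [CommRing S]

/-- `Σ (-1)^i ψ(i+1) t^i`. -/
def pSer (ψ : ℕ → R) : PowerSeries R := PowerSeries.mk fun i => (-1) ^ i * ψ (i + 1)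

/-- `e` is the exponential of `ψ`: `E' = E · pSer ψ`. -/
structure IsExp (ψ e : ℕ → R) : Prop where
  zero : e 0 = 1
  deriv : PowerSeries.derivative R (PowerSeries.mk e) = PowerSeries.mk e * pSer ψ

theorem IsExp.coeff {ψ e : ℕ → R} (h : IsExp ψ e) (n : ℕ) :
    ((n : R) + 1) * e (n + 1) = ∑ i ∈ range (n + 1), (-1) ^ i * ψ (i + 1) * e (n - i) := by
  have := congrArg (PowerSeries.coeff n) h.deriv
  rw [PowerSeries.coeff_derivative, mul_comm (PowerSeries.mk e), PowerSeries.coeff_mul,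
    Finset.Nat.sum_antidiagonal_eq_sum_range_succ_mk] at this
  simp only [pSer, coeff_mk] at this
  rw [mul_comm]; exact this

theorem isExp_of_coeff {ψ e : ℕ → R} (h0 : e 0 = 1)
    (h : ∀ n : ℕ, ((n : R) + 1) * e (n + 1) = ∑ i ∈ range (n + 1), (-1) ^ i * ψ (i + 1) * e (n - i)) :
    IsExp ψ e := by
  refine ⟨h0, ?_⟩
  ext n
  rw [PowerSeries.coeff_derivative, mul_comm (PowerSeries.mk e), PowerSeries.coeff_mul,
    Finset.Nat.sum_antidiagonal_eq_sum_range_succ_mk]
  simp only [pSer, coeff_mk]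
  rw [mul_comm]; exact h n

theorem IsExp.zero_fun : IsExp (fun _ => (0 : R)) (fun n => if n = 0 then 1 else 0) :=
  isExp_of_coeff rfl fun n => by simp

theorem isExp_add {ψ φ e f : ℕ → R} (he : IsExp ψ e) (hf : IsExp φ f) :
    IsExp (fun k => ψ k + φ k) (fun n => ∑ i ∈ range (n + 1), e i * f (n - i)) := by
  have hmk : PowerSeries.mk (fun n => ∑ i ∈ range (n + 1), e i * f (n - i)) =
      PowerSeries.mk e * PowerSeries.mk f := by
    ext n
    simp [PowerSeries.coeff_mul, Finset.Nat.sum_antidiagonal_eq_sum_range_succ_mk]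
  refine ⟨by simp [he.zero, hf.zero], ?_⟩
  rw [hmk, Derivation.leibniz, he.deriv, hf.deriv,
    show pSer (fun k => ψ k + φ k) = pSer ψ + pSer φ by ext i; simp [pSer, mul_add]]
  simp only [smul_eq_mul]
  ring

theorem isExp_line (a : R) :
    IsExp (fun k => a ^ k) (fun n => if n = 0 then 1 else if n = 1 then a else 0) := by
  refine isExp_of_coeff rfl fun n => ?_
  rw [Finset.sum_range_succ]
  cases n with
  | zero => simp
  | succ n =>
    rw [Finset.sum_eq_single n]
    · simp [pow_succ]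
      ring
    · intro i hi hne
      rw [Finset.mem_range] at hi
      rw [if_neg (by omega), if_neg (by omega), mul_zero]
    · intro h; simp at h

theorem IsExp.congr {ψ ψ' e e' : ℕ → R} (h : IsExp ψ e) (hψ : ∀ k, 1 ≤ k → ψ k = ψ' k) (he : ∀ n, e n = e' n) :
    IsExp ψ' e' := by
  obtain rfl : e = e' := funext he
  refine ⟨h.zero, h.deriv.trans ?_⟩
  congr 1; ext i; simp [pSer, hψ]

theorem isExp_esymm {ι : Type w} (s : Finset ι) (a : ι → R) :
    IsExp (fun k => ∑ i ∈ s, a i ^ k) (fun n => (s.val.map a).esymm n) := by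
  classical
  induction s using Finset.induction_on with
  | empty =>
    refine (IsExp.zero_fun (R := R)).congr (fun k _ => by simp) (fun n => ?_)
    cases n <;> simp [Multiset.esymm, Multiset.powersetCard_zero_right]
  | insert x s hx ih =>
    refine (isExp_add (isExp_line (a x)) ih).congr (fun k _ => by simp [Finset.sum_insert hx]) (fun n => ?_)
    rw [Finset.insert_val_of_notMem hx, Multiset.map_cons]
    cases n with
    | zero => simp [Multiset.esymm]
    | succ n =>
      rw [Finset.sum_range_succ', Finset.sum_range_succ']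
      simp [Multiset.esymm, Multiset.powersetCard_cons, Multiset.map_map, Multiset.sum_map_mul_left]
      exact add_comm _ _

/-- The Adams family of a sequence with constant term `1`. -/
noncomputable def nwt (e : ℕ → R) : ℕ → R
  | 0 => 0
  | k + 1 => (-1) ^ k * PowerSeries.coeff k (PowerSeries.derivative R (PowerSeries.mk e) *
      (PowerSeries.mk e).invOfUnit 1)

theorem isExp_nwt {e : ℕ → R} (h0 : e 0 = 1) : IsExp (nwt e) e := by
  refine ⟨h0, ?_⟩
  have hu := PowerSeries.mul_invOfUnit (PowerSeries.mk e) 1 (by simp [h0])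
  have hp : pSer (nwt e) = PowerSeries.derivative R (PowerSeries.mk e) * (PowerSeries.mk e).invOfUnit 1 := by
    ext i; simp [pSer, nwt, ← mul_assoc, ← mul_pow]
  rw [hp]
  linear_combination (-(PowerSeries.derivative R (PowerSeries.mk e))) * hu

theorem IsExp.eq_nwt {ψ e : ℕ → R} (h : IsExp ψ e) {k : ℕ} (hk : 1 ≤ k) : ψ k = nwt e k := by
  obtain ⟨k, rfl⟩ : ∃ l, k = l + 1 := ⟨k - 1, by omega⟩
  have hu := PowerSeries.mul_invOfUnit (PowerSeries.mk e) 1 (by simp [h.zero])
  simp only [nwt, h.deriv]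
  rw [mul_comm (PowerSeries.mk e), mul_assoc, hu, mul_one]
  simp [pSer, ← mul_assoc, ← mul_pow]

theorem IsExp.map {ψ e : ℕ → R} (h : IsExp ψ e) (f : R →+* S) : IsExp (fun k => f (ψ k)) (fun n => f (e n)) :=
  isExp_of_coeff (by simp [h.zero]) fun n => by simpa using congrArg f (h.coeff n)

theorem nwt_congr {e e' : ℕ → R} (h0 : e 0 = 1) (h0' : e' 0 = 1) :
    ∀ k : ℕ, (∀ i, i ≤ k → e i = e' i) → nwt e k = nwt e' k := by
  intro k
  induction k using Nat.strong_induction_on with
  | _ k ih =>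
    intro h
    cases k with
    | zero => rfl
    | succ k =>
      have h1 := (isExp_nwt h0).coeff k
      have h2 := (isExp_nwt h0').coeff k
      rw [Finset.sum_range_succ, Nat.sub_self, h0, mul_one] at h1
      rw [Finset.sum_range_succ, Nat.sub_self, h0', mul_one, ← h _ le_rfl, h1] at h2
      have h3 : ∑ i ∈ range k, (-1) ^ i * nwt e (i + 1) * e (k - i) =
          ∑ i ∈ range k, (-1) ^ i * nwt e' (i + 1) * e' (k - i) := Finset.sum_congr rfl fun i hi => by
        rw [Finset.mem_range] at hi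
        rw [ih (i + 1) (by omega) fun l hl => h l (by omega), h (k - i) (by omega)]
      rw [h3] at h2
      have hh : (-1 : R) ^ k * (-1 : R) ^ k = 1 := by rw [← mul_pow]; simp
      calc nwt e (k + 1) = (-1) ^ k * ((-1) ^ k * nwt e (k + 1)) := by rw [← mul_assoc, hh, one_mul]
        _ = (-1) ^ k * ((-1) ^ k * nwt e' (k + 1)) := by rw [add_left_cancel h2]
        _ = nwt e' (k + 1) := by rw [← mul_assoc, hh, one_mul]

theorem map_nwt (f : R →+* S) {e : ℕ → R} (h0 : e 0 = 1) {k : ℕ} (hk : 1 ≤ k) :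
    f (nwt e k) = nwt (fun n => f (e n)) k :=
  ((isExp_nwt h0).map f).eq_nwt hk

section Rat

variable [Algebra ℚ R] [Algebra ℚ S]

/-- The exponential of a family over a `ℚ`-algebra. -/
noncomputable def eFun (ψ : ℕ → R) : ℕ → R
  | 0 => 1
  | n + 1 => ((n : ℚ) + 1)⁻¹ • ∑ i : Fin (n + 1), (-1) ^ (i : ℕ) * ψ (i + 1) * eFun ψ (n - i)
termination_by n => n
decreasing_by omega

theorem eFun_zero (ψ : ℕ → R) : eFun ψ 0 = 1 := by rw [eFun]

theorem isExp_eFun (ψ : ℕ → R) : IsExp ψ (eFun ψ) := by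
  refine isExp_of_coeff (eFun_zero ψ) fun n => ?_
  rw [eFun, Fin.sum_univ_eq_sum_range (fun i => (-1) ^ i * ψ (i + 1) * eFun ψ (n - i))]
  rw [show (n : R) + 1 = algebraMap ℚ R ((n : ℚ) + 1) by simp, ← Algebra.smul_def, smul_smul,
    mul_inv_cancel₀ (by positivity), one_smul]

theorem IsExp.eq_eFun {ψ e : ℕ → R} (h : IsExp ψ e) (ψ' : ℕ → R) :
    ∀ n, (∀ k, 1 ≤ k → k ≤ n → ψ k = ψ' k) → e n = eFun ψ' n := by
  intro n
  induction n using Nat.strong_induction_on with
  | _ n ih =>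
    intro hψ
    cases n with
    | zero => rw [h.zero, eFun_zero]
    | succ n =>
      have h1 := h.coeff n
      have h3 : ∑ i ∈ range (n + 1), (-1) ^ i * ψ (i + 1) * e (n - i) =
          ∑ i ∈ range (n + 1), (-1) ^ i * ψ' (i + 1) * eFun ψ' (n - i) := Finset.sum_congr rfl fun i hi => by
        rw [Finset.mem_range] at hi
        rw [hψ (i + 1) (by omega) (by omega), ih (n - i) (by omega) fun k h1 h2 => hψ k h1 (by omega)]
      rw [h3, ← (isExp_eFun ψ').coeff n] at h1
      have hu : IsUnit ((n : R) + 1) := by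
        rw [show (n : R) + 1 = algebraMap ℚ R ((n : ℚ) + 1) by simp]
        exact (isUnit_iff_ne_zero.2 (by positivity)).map _
      exact hu.mul_left_cancel h1

theorem eFun_congr {ψ ψ' : ℕ → R} (n : ℕ) (h : ∀ k, 1 ≤ k → k ≤ n → ψ k = ψ' k) : eFun ψ n = eFun ψ' n :=
  (isExp_eFun ψ).eq_eFun ψ' n h

theorem map_eFun (f : R →+* S) (ψ : ℕ → R) (n : ℕ) : f (eFun ψ n) = eFun (fun k => f (ψ k)) n :=
  ((isExp_eFun ψ).map f).eq_eFun _ n fun _ _ _ => rfl

theorem nwt_eFun (ψ : ℕ → R) {k : ℕ} (hk : 1 ≤ k) : nwt (eFun ψ) k = ψ k :=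
  ((isExp_eFun ψ).eq_nwt hk).symm

theorem eFun_add (ψ φ : ℕ → R) (n : ℕ) :
    eFun (fun k => ψ k + φ k) n = ∑ i ∈ range (n + 1), eFun ψ i * eFun φ (n - i) :=
  ((isExp_add (isExp_eFun ψ) (isExp_eFun φ)).eq_eFun _ n fun _ _ _ => rfl).symm

theorem eFun_esymm {ι : Type w} (s : Finset ι) (a : ι → R) (n : ℕ) :
    eFun (fun k => ∑ i ∈ s, a i ^ k) n = (s.val.map a).esymm n :=
  ((isExp_esymm s a).eq_eFun _ n fun _ _ _ => rfl).symm

end Rat

section Ops

open LambdaRing

variable [LambdaOps R]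

theorem isExp_lam (x : R) : IsExp (fun k => adamsOp k x) (fun n => LambdaOps.lam n x) := by
  refine (isExp_nwt (LambdaOps.lam_zero x)).congr (fun k hk => ?_) (fun _ => rfl)
  obtain ⟨k, rfl⟩ : ∃ l, k = l + 1 := ⟨k - 1, by omega⟩
  rfl

theorem adamsOp_eq_nwt (k : ℕ) (x : R) : adamsOp k x = nwt (fun n => LambdaOps.lam n x) k := by
  cases k <;> rfl

theorem adamsOp_one_arg (x : R) : adamsOp 1 x = x := by
  have h := (isExp_lam x).coeff 0
  simpa [LambdaOps.lam_zero, LambdaOps.lam_one] using h.symm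

theorem adamsOp_add (k : ℕ) (x y : R) : adamsOp k (x + y) = adamsOp k x + adamsOp k y := by
  cases k with
  | zero => simp [adamsOp]
  | succ k =>
    rw [adamsOp_eq_nwt]
    exact (((isExp_add (isExp_lam x) (isExp_lam y)).congr (fun _ _ => rfl)
      (fun n => (LambdaOps.lam_add n x y).symm)).eq_nwt (Nat.succ_pos k)).symm

/-- `ψ^k` as an additive map. -/
noncomputable def adamsOpHom (k : ℕ) : R →+ R := AddMonoidHom.mk' (adamsOp k) (adamsOp_add k)

theorem adamsOp_of_line {x : R} (hx : ∀ i, 2 ≤ i → LambdaOps.lam i x = 0) {k : ℕ} (hk : 1 ≤ k) :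
    adamsOp k x = x ^ k := by
  rw [adamsOp_eq_nwt, ← ((isExp_line x).congr (fun _ _ => rfl) (fun n => ?_)).eq_nwt hk]
  match n with
  | 0 => simp [LambdaOps.lam_zero]
  | 1 => simp [LambdaOps.lam_one]
  | n + 2 => simp [hx (n + 2) (by omega)]

theorem lam_eq_eFun [Algebra ℚ R] (n : ℕ) (x : R) :
    LambdaOps.lam n x = eFun (fun k => adamsOp k x) n :=
  (isExp_lam x).eq_eFun _ n fun _ _ _ => rfl

variable [LambdaOps S]

theorem map_adamsOp {f : R →+* S} (hf : ∀ i x, f (LambdaOps.lam i x) = LambdaOps.lam i (f x)) (k : ℕ) (x : R) :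
    f (adamsOp k x) = adamsOp k (f x) := by
  cases k with
  | zero => simp [adamsOp]
  | succ k => rw [adamsOp_eq_nwt, map_nwt f (LambdaOps.lam_zero x) (Nat.succ_pos k), adamsOp_eq_nwt]; simp [hf]

end Ops

end Groth.MilnorKLambda.Lam
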