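import Groth.Agent.MilnorKLambda.LamSym

/-!
# The universal polynomials exist
-/

set_option autoImplicit false
universe u v w x

open Finset MvPolynomial

namespace Groth.MilnorKLambda.Lam

theorem map_multiset_esymm {R : Type u} {S : Type v} [CommSemiring R] [CommSemiring S] (f : R →+* S)
    {ι : Type w} (s : Finset ι) (a : ι → R) (k : ℕ) :
    f ((s.val.map a).esymm k) = (s.val.map fun i => f (a i)).esymm k := by
  simp [Finset.esymm_map_val]

theorem esymm_map_perm {R : Type u} [CommSemiring R] {ι : Type w} [Fintype ι] (e : ι ≃ ι) (a : ι → R) (k : ℕ) :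
    (((Finset.univ : Finset ι).val.map fun i => a (e i)).esymm k) = ((Finset.univ : Finset ι).val.map a).esymm k := by
  conv_rhs => rw [← Finset.map_univ_equiv e, Finset.map_val, Multiset.map_map]
  rfl

theorem isWeightedHomogeneous_multiset_esymm {R : Type u} [CommSemiring R] {τ : Type v} {M : Type x}
    [AddCommMonoid M] (wτ : τ → M) {ι : Type w} (s : Finset ι) (a : ι → MvPolynomial τ R) (c : M)
    (h : ∀ i ∈ s, IsWeightedHomogeneous wτ (a i) c) (k : ℕ) :
    IsWeightedHomogeneous wτ ((s.val.map a).esymm k) (k • c) := by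
  classical
  rw [Finset.esymm_map_val]
  refine IsWeightedHomogeneous.sum _ _ _ fun t ht => ?_
  have ht' := Finset.mem_powersetCard.1 ht
  have := IsWeightedHomogeneous.prod (w := wτ) t a (fun _ => c) fun i hi => h i (ht'.1 hi)
  rwa [Finset.sum_const, ht'.2] at this

theorem compGen_isSymmetric (N i j : ℕ) : (LambdaRing.compGen N i j).IsSymmetric := by
  intro σ
  classical
  change (rename σ : MvPolynomial (Fin N) ℤ →ₐ[ℤ] _).toRingHom (LambdaRing.compGen N i j) = _
  rw [LambdaRing.compGen, map_multiset_esymm]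
  congr 1
  have hmap : (powersetCard i (univ : Finset (Fin N))).map (Finset.mapEmbedding σ.toEmbedding).toEmbedding =
      powersetCard i univ := by
    rw [← Finset.powersetCard_map, Finset.map_univ_equiv]
  conv_rhs => rw [← hmap]
  rw [Finset.map_val, Multiset.map_map]
  refine Multiset.map_congr rfl fun s _ => ?_
  change rename σ (∏ a ∈ s, X a) = ∏ a ∈ s.map σ.toEmbedding, X a
  rw [map_prod, Finset.prod_map]
  simp

theorem exists_isCompPoly (i j : ℕ) : ∃ Q, LambdaRing.IsCompPoly i j Q := by
  obtain ⟨Q, hQ⟩ := (esymmAlgHom_fin_bijective ℤ (i * j)).2 ⟨_, compGen_isSymmetric (i * j) i j⟩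
  have hQ' := congrArg Subtype.val hQ
  rw [esymmAlgHom_apply] at hQ'
  refine ⟨weightedHomogeneousComponent (fun k : Fin (i * j) => (k : ℕ) + 1) (i * j) Q, ?_,
    weightedHomogeneousComponent_isWeightedHomogeneous _ Q⟩
  rw [← component_aeval (wτ := fun _ : Fin (i * j) => 1) (fun k => ?_), hQ', weightedHomogeneousComponent_of_mem
    (n := i * j) ?_, if_pos rfl]
  · have h : IsWeightedHomogeneous (fun _ : Fin (i * j) => 1)
        (LambdaRing.compGen (i * j) i j) (j • i) := by
      refine isWeightedHomogeneous_multiset_esymm _ _ _ i (fun s hs => ?_) j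
      have := IsWeightedHomogeneous.prod (w := fun _ : Fin (i * j) => 1) s
        (fun a => (X a : MvPolynomial (Fin (i * j)) ℤ)) (fun _ => 1) fun a _ => isWeightedHomogeneous_X ℤ _ a
      simpa [(Finset.mem_powersetCard.1 hs).2] using this
    simpa [mul_comm i j] using h
  · have := isWeightedHomogeneous_esymm (R := ℤ) (fun _ : Fin (i * j) => 1) (id : Fin (i * j) → Fin (i * j)) 1
      (fun _ => rfl) ((k : ℕ) + 1)
    simpa [rename_id_apply] using this

theorem exists_isMulPoly (n : ℕ) : ∃ P, LambdaRing.IsMulPoly n P := by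
  classical
  let e : Fin n ⊕ Fin n ≃ Σ _ : Bool, Fin n := (Equiv.sumCongr (Equiv.refl _) (Equiv.refl _)).trans
    { toFun := Sum.elim (fun a => ⟨false, a⟩) (fun a => ⟨true, a⟩)
      invFun := fun x => if x.1 then Sum.inr x.2 else Sum.inl x.2
      left_inv := by rintro (a | a) <;> rfl
      right_inv := by rintro ⟨(_ | _), a⟩ <;> rfl }
  have hsym : ∀ b, SymAt (n := fun _ : Bool => n) b (rename e (LambdaRing.mulGen n n)) := by
    intro b σ
    rw [rename_rename]
    change (rename _ : MvPolynomial _ ℤ →ₐ[ℤ] _).toRingHom _ = (rename e : MvPolynomial _ ℤ →ₐ[ℤ] _).toRingHom _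
    rw [LambdaRing.mulGen, map_multiset_esymm, map_multiset_esymm]
    cases b
    · conv_rhs => rw [← esymm_map_perm (Equiv.prodCongr σ (Equiv.refl _))]
      congr 1
      refine Multiset.map_congr rfl fun ab _ => ?_
      simp [e, blockPerm_mk (n := fun _ : Bool => n), blockPerm_ne (n := fun _ : Bool => n)]
    · conv_rhs => rw [← esymm_map_perm (Equiv.prodCongr (Equiv.refl _) σ)]
      congr 1
      refine Multiset.map_congr rfl fun ab _ => ?_
      simp [e, blockPerm_mk (n := fun _ : Bool => n), blockPerm_ne (n := fun _ : Bool => n)]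
  obtain ⟨q, hq⟩ := exists_blockAll_eq hsym
  let f : Fin n ⊕ Fin n → MvPolynomial (Fin n ⊕ Fin n) ℤ :=
    Sum.elim (fun k : Fin n => rename Sum.inl (esymm (Fin n) ℤ ((k : ℕ) + 1)))
      (fun k : Fin n => rename Sum.inr (esymm (Fin n) ℤ ((k : ℕ) + 1)))
  have hf : aeval f (rename e.symm q) = LambdaRing.mulGen n n := by
    have h1 : (aeval f).comp (rename e.symm) =
        (rename e.symm).comp (blockAll ℤ (fun _ : Bool => n)) := by
      refine algHom_ext fun x => ?_
      obtain ⟨(_ | _), k⟩ := x <;>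
        simp [f, e, blockAll, blockEsymm, rename_rename, Function.comp_def]
    rw [← AlgHom.comp_apply, h1, AlgHom.comp_apply, hq, rename_rename, e.symm_comp_self, rename_id_apply]
  let wτ : Fin n ⊕ Fin n → ℕ × ℕ := Sum.elim (fun _ => (1, 0)) (fun _ => (0, 1))
  refine ⟨weightedHomogeneousComponent _ ((n, n) : ℕ × ℕ) (rename e.symm q), ?_,
    weightedHomogeneousComponent_isWeightedHomogeneous _ _⟩
  change aeval f _ = _
  rw [← component_aeval (wτ := wτ) (fun k => ?_), hf, weightedHomogeneousComponent_of_mem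
    (n := ((n, n) : ℕ × ℕ)) ?_, if_pos rfl]
  · have h : IsWeightedHomogeneous wτ (LambdaRing.mulGen n n) (n • ((1, 1) : ℕ × ℕ)) := by
      refine isWeightedHomogeneous_multiset_esymm _ _ _ _ (fun ab _ => ?_) n
      exact (isWeightedHomogeneous_X ℤ wτ (Sum.inl ab.1)).mul (isWeightedHomogeneous_X ℤ wτ (Sum.inr ab.2))
    simpa using h
  · rcases k with k | k
    · simpa [f, wτ] using isWeightedHomogeneous_esymm (R := ℤ) wτ (Sum.inl : Fin n → Fin n ⊕ Fin n) (1, 0)
        (fun _ => rfl) ((k : ℕ) + 1)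
    · simpa [f, wτ] using isWeightedHomogeneous_esymm (R := ℤ) wτ (Sum.inr : Fin n → Fin n ⊕ Fin n) (0, 1)
        (fun _ => rfl) ((k : ℕ) + 1)

end Groth.MilnorKLambda.Lam
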