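import Groth.Prelude.Def_W4bkmilneecrracsp2Inv
import Groth.Agent.MilnorKLambda.LamConseq
import Groth.Agent.LambdaCore.Congruence
import Mathlib.RingTheory.TensorProduct.Basic
import Mathlib.LinearAlgebra.Eigenspace.Basic

/-!
# `λ`-rings with positive structure: rational eigenspaces, involutions
-/

set_option autoImplicit false
universe u v

open Finset LambdaRing TensorProduct

namespace Groth.MilnorKLambda.Lam

section Linear

variable {V : Type u} [AddCommGroup V] [Module ℚ V] (Q : ℕ → Submodule ℚ V) (T : V →ₗ[ℚ] V) (c : ℕ → ℚ) (d : ℕ)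
  (hanti : Antitone Q) (hbot : Q (d + 1) = ⊥) (hc : Function.Injective c)
  (hT : ∀ n, ∀ v ∈ Q n, T v - c n • v ∈ Q (n + 1))

include hanti hbot hc hT

theorem eigen_inf_succ (m : ℕ) : Module.End.eigenspace T (c m) ⊓ Q (m + 1) = ⊥ := by
  rw [eq_bot_iff]
  rintro v ⟨hv, hv'⟩
  rw [SetLike.mem_coe, Module.End.mem_eigenspace_iff] at hv
  have h : ∀ k, v ∈ Q (m + 1 + k) := by
    intro k
    induction k with
    | zero => exact hv'
    | succ k ih =>
      have := hT _ v ih
      rw [hv, ← sub_smul] at this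
      exact (Submodule.smul_mem_iff _ (sub_ne_zero.2 fun h => by have := hc h; omega)).1 this
  have := hanti (show d + 1 ≤ m + 1 + d by omega) (h d)
  rwa [hbot] at this

omit hbot in
theorem eigen_le (h0 : Q 0 = ⊤) (m : ℕ) : Module.End.eigenspace T (c m) ≤ Q m := by
  intro v hv
  rw [Module.End.mem_eigenspace_iff] at hv
  have h : ∀ k, k ≤ m → v ∈ Q k := by
    intro k
    induction k with
    | zero => intro _; rw [h0]; trivial
    | succ k ih =>
      intro hk
      have := hT _ v (ih (by omega))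
      rw [hv, ← sub_smul] at this
      exact (Submodule.smul_mem_iff _ (sub_ne_zero.2 fun h => by have := hc h; omega)).1 this
  exact h m le_rfl

theorem exists_preimage {k m : ℕ} (hkm : k < m) {y : V} (hy : y ∈ Q m) : ∃ z ∈ Q m, T z - c k • z = y := by
  generalize hn : d + 1 - m = n
  induction n generalizing m y with
  | zero =>
    have := hanti (show d + 1 ≤ m by omega) hy
    rw [hbot] at this
    exact ⟨0, zero_mem _, by simp [(Submodule.mem_bot ℚ).1 this]⟩
  | succ n ih =>
    have hne : c m - c k ≠ 0 := sub_ne_zero.2 fun h => by have := hc h; omega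
    set z0 := (c m - c k)⁻¹ • y
    have hz0 : z0 ∈ Q m := (Q m).smul_mem _ hy
    obtain ⟨z1, hz1, hz1'⟩ := ih (show k < m + 1 by omega) (hT m z0 hz0) (by omega)
    refine ⟨z0 - z1, sub_mem hz0 (hanti (Nat.le_succ m) hz1), ?_⟩
    have hy' : (c m - c k) • z0 = y := by rw [smul_smul, mul_inv_cancel₀ hne, one_smul]
    rw [map_sub, smul_sub, show T z0 - T z1 - (c k • z0 - c k • z1) = (T z0 - c k • z0) - (T z1 - c k • z1) by abel,
      hz1', ← hy', sub_smul]
    abel

theorem eigen_sup_succ (h0 : Q 0 = ⊤) (m : ℕ) : Module.End.eigenspace T (c m) ⊔ Q (m + 1) = Q m := by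
  refine le_antisymm (sup_le (eigen_le Q T c hanti hc hT h0 m) (hanti (Nat.le_succ m))) fun x hx => ?_
  obtain ⟨z, hz, hz'⟩ := exists_preimage Q T c d hanti hbot hc hT (Nat.lt_succ_self m) (hT m x hx)
  refine Submodule.mem_sup.2 ⟨x - z, ?_, z, hz, sub_add_cancel x z⟩
  rw [Module.End.mem_eigenspace_iff, map_sub, smul_sub, ← sub_eq_zero,
    show T x - T z - (c m • x - c m • z) = (T x - c m • x) - (T z - c m • z) by abel, hz', sub_self]

theorem iSup_eigen (h0 : Q 0 = ⊤) : (⨆ m ∈ range (d + 1), Module.End.eigenspace T (c m)) = ⊤ := by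
  set W := ⨆ m ∈ range (d + 1), Module.End.eigenspace T (c m)
  have : ∀ n, Q (d + 1 - n) ≤ W := by
    intro n
    induction n with
    | zero => rw [Nat.sub_zero, hbot]; exact bot_le
    | succ n ih =>
      by_cases hn : n ≤ d
      · rw [show d + 1 - n = d - n + 1 by omega] at ih
        rw [show d + 1 - (n + 1) = d - n by omega, ← eigen_sup_succ Q T c d hanti hbot hc hT h0]
        exact sup_le (le_iSup₂_of_le (d - n) (Finset.mem_range.2 (by omega)) le_rfl) ih
      · rwa [show d + 1 - (n + 1) = d + 1 - n by omega]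
  have h := this (d + 1)
  rw [Nat.sub_self, h0, top_le_iff] at h
  exact h

omit hanti hc in
theorem eigen_le_eigen_of_commute (h0 : Q 0 = ⊤) {S : V →ₗ[ℚ] V} (hanti : Antitone Q) (hc : Function.Injective c)
    {e : ℕ → ℚ} (hS : ∀ n, ∀ v ∈ Q n, S v - e n • v ∈ Q (n + 1)) (hcomm : ∀ v, T (S v) = S (T v)) (m : ℕ) :
    Module.End.eigenspace T (c m) ≤ Module.End.eigenspace S (e m) := by
  intro v hv
  have hQ := eigen_le Q T c hanti hc hT h0 m hv
  rw [Module.End.mem_eigenspace_iff] at hv ⊢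
  have hw : S v - e m • v ∈ Module.End.eigenspace T (c m) ⊓ Q (m + 1) := by
    refine ⟨?_, hS m v hQ⟩
    rw [SetLike.mem_coe, Module.End.mem_eigenspace_iff, map_sub, map_smul, hcomm, hv, map_smul, smul_sub, smul_comm]
  rw [eigen_inf_succ Q T c d hanti hbot hc hT] at hw
  exact sub_eq_zero.1 ((Submodule.mem_bot ℚ).1 hw)

end Linear

section Rational

variable {K : Type u} [CommRing K] [LambdaOps K] {P : PosStructure K}

theorem smul_tmul_one {M : Type v} [AddCommGroup M] (q : ℚ) (x : M) : q ⊗ₜ[ℤ] x = q • ((1 : ℚ) ⊗ₜ[ℤ] x) := by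
  rw [TensorProduct.smul_tmul', smul_eq_mul, mul_one]

theorem ratLinear_ext {M : Type v} [AddCommGroup M] {W : Type u} [AddCommGroup W] [Module ℚ W]
    {f g : ℚ ⊗[ℤ] M →ₗ[ℚ] W} (h : ∀ x : M, f (1 ⊗ₜ x) = g (1 ⊗ₜ x)) (v : ℚ ⊗[ℤ] M) : f v = g v := by
  induction v using TensorProduct.induction_on with
  | zero => rw [map_zero, map_zero]
  | tmul q x => rw [smul_tmul_one, map_smul, map_smul, h]
  | add a b ha hb => rw [map_add, map_add, ha, hb]

variable (P) in
/-- The `ℚ`-span of a step of the γ-filtration. -/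
noncomputable def ratFil (n : ℕ) : Submodule ℚ (ℚ ⊗[ℤ] K) :=
  Submodule.span ℚ ((fun x : K => (1 : ℚ) ⊗ₜ[ℤ] x) '' (gammaFiltration P n : Set K))

theorem one_tmul_mem_ratFil {n : ℕ} {x : K} (hx : x ∈ gammaFiltration P n) : (1 : ℚ) ⊗ₜ[ℤ] x ∈ ratFil P n :=
  Submodule.subset_span ⟨x, hx, rfl⟩

theorem ratFil_zero : ratFil P 0 = ⊤ := by
  rw [eq_top_iff]
  intro v hv
  clear hv
  induction v using TensorProduct.induction_on with
  | zero => exact zero_mem _
  | tmul q x => rw [smul_tmul_one]; exact Submodule.smul_mem _ _ (one_tmul_mem_ratFil (by simp))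
  | add a b ha hb => exact add_mem ha hb

theorem ratFil_antitone : Antitone (ratFil P) := fun _ _ h =>
  Submodule.span_mono (Set.image_mono (LambdaCore.gammaFiltration_antitone h))

theorem ratFil_eq_bot {n : ℕ} (h : gammaFiltration P n = ⊥) : ratFil P n = ⊥ := by
  rw [ratFil, h, Submodule.span_eq_bot]
  rintro _ ⟨x, hx, rfl⟩
  rw [AddSubgroup.coe_bot, Set.mem_singleton_iff] at hx
  simp [hx]

variable {j : ℕ} {Ψ : ℚ ⊗[ℤ] K →ₗ[ℚ] ℚ ⊗[ℤ] K}
  (hΨ : ∀ x : K, Ψ (1 ⊗ₜ[ℤ] x) = 1 ⊗ₜ[ℤ] adams P j x)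
include hΨ

theorem psi_sub_mem_ratFil (hK : HasSplitting K P) (n : ℕ) (v : ℚ ⊗[ℤ] K) (hv : v ∈ ratFil P n) :
    Ψ v - ((j : ℚ) ^ n) • v ∈ ratFil P (n + 1) := by
  induction hv using Submodule.span_induction with
  | mem v hv =>
    obtain ⟨x, hx, rfl⟩ := hv
    have := one_tmul_mem_ratFil (LambdaCore.adams_sub_pow_mul_mem hK j hx)
    rw [TensorProduct.tmul_sub, ← Nat.cast_pow, ← nsmul_eq_mul, TensorProduct.tmul_smul] at this
    rw [hΨ, ← Nat.cast_pow, Nat.cast_smul_eq_nsmul]
    exact this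
  | zero => simp
  | add a b _ _ ha hb =>
    rw [map_add, smul_add, show Ψ a + Ψ b - ((j : ℚ) ^ n • a + (j : ℚ) ^ n • b) =
      (Ψ a - (j : ℚ) ^ n • a) + (Ψ b - (j : ℚ) ^ n • b) by abel]
    exact add_mem ha hb
  | smul q a _ ha =>
    rw [map_smul, smul_comm, ← smul_sub]
    exact Submodule.smul_mem _ _ ha

omit hΨ in
theorem adams_comm (hK : HasSplitting K P) (i l : ℕ) (x : K) :
    adams P i (adams P l x) = adams P l (adams P i x) := by
  suffices h : ∀ e ∈ P.pos, adams P i (adams P l e) = adams P l (adams P i e) by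
    obtain ⟨e, e', he, he', rfl⟩ := P.exists_sub x
    have hsub : ∀ (i : ℕ) (a b : K), adams P i (a - b) = adams P i a - adams P i b := fun i a b =>
      map_sub (LambdaCore.adamsHom hK i) a b
    rw [hsub, hsub, hsub, hsub, h e he, h e' he']
  intro e he
  obtain ⟨L, f, hf, hL, w, hw, hfe⟩ := LambdaCore.exists_split hK he
  apply hf.injective
  have hpow : ∀ a b : ℕ, adams L.posStr a (adams L.posStr b (∑ k, w k)) = ∑ k, w k ^ (b * a) := by
    intro a b
    rw [LambdaCore.adams_sum_lines hw]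
    change LambdaCore.adamsHom hL a _ = _
    rw [map_sum]
    refine Finset.sum_congr rfl fun k _ => ?_
    rw [map_pow]
    change (adams L.posStr a (w k)) ^ b = _
    rw [LambdaCore.adams_line (hw k), ← pow_mul, mul_comm]
  rw [LambdaCore.map_adams hf, LambdaCore.map_adams hf, LambdaCore.map_adams hf, LambdaCore.map_adams hf, hfe,
    hpow, hpow, mul_comm]

end Rational

theorem pow_nat_injective {j : ℕ} (hj : 2 ≤ j) : Function.Injective fun n : ℕ => (j : ℚ) ^ n := fun a b h => by
  simp only at h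
  have h' : j ^ a = j ^ b := by exact_mod_cast h
  exact Nat.pow_right_injective hj h'

section Pos

variable {K : Type u} [CommRing K] [LambdaOps K] (P : PosStructure K)

theorem lam_one_eq_zero_of_pos (P : PosStructure K) {k : ℕ} (hk : 2 ≤ k) : LambdaOps.lam k (1 : K) = 0 :=
  P.lam_eq_zero 1 (by simpa using P.natCast_mem 1 one_pos) k (by rw [map_one]; omega)

theorem natCast_aug {e : K} (he : e ∈ P.pos) : ((P.aug e).toNat : ℤ) = P.aug e :=
  Int.toNat_of_nonneg (P.aug_pos e he).le

theorem lam_eq_zero_of_lt {e : K} (he : e ∈ P.pos) {i : ℕ} (hi : (P.aug e).toNat < i) :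
    LambdaOps.lam i e = 0 :=
  P.lam_eq_zero e he i (by have := natCast_aug P he; omega)

theorem aug_lam_top {K : Type u} [CommRing K] [LambdaOps K] {P : PosStructure K} (hK : HasSplitting K P)
    {e : K} (he : e ∈ P.pos) : P.aug (LambdaOps.lam (P.aug e).toNat e) = 1 := by
  obtain ⟨L, f, hf, -, w, hw, hfe⟩ := LambdaCore.exists_split hK he
  rw [← hf.aug_comp, hf.isLambdaHom, hfe, LambdaCore.lam_sum_lines hw, Finset.esymm_map_val]
  rw [show Finset.powersetCard (P.aug e).toNat (Finset.univ : Finset (Fin (P.aug e).toNat)) = {Finset.univ} by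
    simpa using Finset.powersetCard_self (Finset.univ : Finset (Fin (P.aug e).toNat)),
    Finset.sum_singleton, map_prod]
  exact Finset.prod_eq_one fun i _ => (hw i).2

variable {P} {inv : K → K}

theorem exists_inv_split (hV : IsInvolution P inv) (hS : HasInvSplitting P inv) {e : K} (he : e ∈ P.pos) :
    ∃ (L : PosLambdaRing.{u}) (f : K →+* L.carrier) (ι : Type u) (_ : Fintype ι) (w w' : ι → L.carrier),
      IsExtension P L.posStr f ∧ Fintype.card ι = (P.aug e).toNat ∧ (∀ a, L.posStr.IsLine (w a)) ∧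
        (∀ a, L.posStr.IsLine (w' a)) ∧ (∀ a, w' a * w a = 1) ∧ f e = ∑ a, w a ∧ f (inv e) = ∑ a, w' a := by
  classical
  obtain ⟨L, inv', f, hf, hI, hc, s, hs, hse⟩ := hS e he
  let w : s.ToType → L.carrier := fun a => a.1
  have hw : ∀ a, L.posStr.IsLine (w a) := fun a => hs _ Multiset.coe_mem
  have hsum : f e = ∑ a, w a := by
    rw [← hse, Finset.sum_eq_multiset_sum, Multiset.map_univ_coe]
  have hinv : ∀ t : Finset s.ToType, inv' (∑ a ∈ t, w a) = ∑ a ∈ t, inv' (w a) := by
    intro t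
    induction t using Finset.induction_on with
    | empty =>
      have := hI.map_add 0 0
      rw [add_zero] at this
      simpa using this
    | insert a t ha ih => rw [Finset.sum_insert ha, Finset.sum_insert ha, hI.map_add, ih]
  refine ⟨L, f, s.ToType, inferInstance, w, fun a => inv' (w a), hf, ?_, hw, fun a => hI.inv_line _ (hw a),
    fun a => hI.inv_mul_self _ (hw a), hsum, by rw [hc, hsum, hinv]⟩
  rw [← hf.aug_comp e, hsum, LambdaCore.aug_sum_lines hw, Int.toNat_natCast]

theorem esymm_inv_mul_prod {R : Type v} [CommRing R] {ι : Type u} [Fintype ι] {w w' : ι → R}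
    (h : ∀ a, w' a * w a = 1) {i : ℕ} (hi : i ≤ Fintype.card ι) :
    (Finset.univ.val.map w').esymm (Fintype.card ι - i) * ∏ a, w a = (Finset.univ.val.map w).esymm i := by
  classical
  rw [Finset.esymm_map_val, Finset.esymm_map_val, Finset.sum_mul]
  refine Finset.sum_nbij' (fun t => tᶜ) (fun t => tᶜ) (fun t ht => ?_) (fun t ht => ?_)
    (fun t _ => compl_compl t) (fun t _ => compl_compl t) fun t ht => ?_
  · simp only [Finset.mem_coe, Finset.mem_powersetCard_univ] at ht ⊢; rw [Finset.card_compl, ht]; omega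
  · simp only [Finset.mem_coe, Finset.mem_powersetCard_univ] at ht ⊢; rw [Finset.card_compl, ht]
  · rw [← Finset.prod_mul_prod_compl t w, ← mul_assoc, ← Finset.prod_mul_distrib]
    simp [h]

theorem lam_eq_lam_inv_mul (hV : IsInvolution P inv) (hS : HasInvSplitting P inv) {e : K} (he : e ∈ P.pos) {i : ℕ}
    (hi : i ≤ (P.aug e).toNat) :
    LambdaOps.lam i e = LambdaOps.lam ((P.aug e).toNat - i) (inv e) * LambdaOps.lam (P.aug e).toNat e := by
  obtain ⟨L, f, ι, hι, w, w', hf, hcard, hw, hw', hww, he1, he2⟩ := exists_inv_split hV hS he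
  apply hf.injective
  rw [map_mul, hf.isLambdaHom, hf.isLambdaHom, hf.isLambdaHom, he1, he2, LambdaCore.lam_sum_lines hw,
    LambdaCore.lam_sum_lines hw', LambdaCore.lam_sum_lines hw, ← hcard]
  conv_rhs => arg 2; rw [Finset.esymm_map_val, show Fintype.card ι = (Finset.univ : Finset ι).card from rfl,
    Finset.powersetCard_self, Finset.sum_singleton]
  exact (esymm_inv_mul_prod hww (hcard ▸ hi)).symm

theorem lam_inv_eq_zero (hV : IsInvolution P inv) (hS : HasInvSplitting P inv) {e : K} (he : e ∈ P.pos) {i : ℕ}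
    (hi : (P.aug e).toNat < i) : LambdaOps.lam i (inv e) = 0 := by
  obtain ⟨L, f, ι, hι, w, w', hf, hcard, hw, hw', hww, he1, he2⟩ := exists_inv_split hV hS he
  apply hf.injective
  rw [map_zero, hf.isLambdaHom, he2, LambdaCore.lam_sum_lines hw', Finset.esymm_map_val,
    Finset.powersetCard_eq_empty.2 (by simpa using hcard ▸ hi), Finset.sum_empty]

theorem gamma_top_eq (hV : IsInvolution P inv) (hS : HasInvSplitting P inv) {e : K} (he : e ∈ P.pos) :
    gamma (P.aug e).toNat (e - ((P.aug e).toNat : K)) =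
      (∑ i ∈ range ((P.aug e).toNat + 1), (-1 : K) ^ i * LambdaOps.lam i (inv e)) *
        LambdaOps.lam (P.aug e).toNat e := by
  set m := (P.aug e).toNat with hm
  have h := gamma_rank_top (N := e) (d := m) (fun k hk => lam_one_eq_zero_of_pos P hk)
    fun i hi => lam_eq_zero_of_lt P he hi
  have hsq : (-1 : K) ^ m * (-1) ^ m = 1 := by rw [← mul_pow]; simp
  conv_lhs => rw [← one_mul (gamma m (e - (m : K))), ← hsq, mul_assoc, h]
  rw [Finset.mul_sum, Finset.sum_mul, ← Finset.sum_range_reflect]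
  refine Finset.sum_congr rfl fun i hi => ?_
  rw [Finset.mem_range] at hi
  rw [show m + 1 - 1 - i = m - i by omega, lam_eq_lam_inv_mul hV hS he (show m - i ≤ m by omega), ← hm,
    Nat.sub_sub_self (by omega : i ≤ m)]
  have : (-1 : K) ^ m * (-1) ^ (m - i) = (-1) ^ i := by
    rw [show (-1 : K) ^ m = (-1) ^ i * (-1) ^ (m - i) by rw [← pow_add, Nat.add_sub_cancel' (by omega)],
      mul_assoc, ← mul_pow]
    simp
  rw [← this]; ring

end Pos

end Groth.MilnorKLambda.Lam
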