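import Groth.Agent.MilnorKLambda.LamSym
import Mathlib.RingTheory.Localization.FractionRing

/-!
# Recognising `λ`-rings through Adams operations; binomial rings
-/

set_option autoImplicit false
universe u v w

open Finset MvPolynomial LambdaRing

attribute [local instance] BinomialRing.toIsAddTorsionFree

namespace Groth.MilnorKLambda.Lam

section Ident

variable {R : Type u} [CommRing R] [Algebra ℚ R]

theorem eFun_mul_eq (n : ℕ) (P : MvPolynomial (Fin n ⊕ Fin n) ℤ) (hP : IsMulPoly n P) (p q : ℕ → R) :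
    eFun (fun k => p k * q k) n =
      aeval (Sum.elim (fun k : Fin n => eFun p ((k : ℕ) + 1)) (fun k : Fin n => eFun q ((k : ℕ) + 1))) P := by
  classical
  let V := Σ _ : Bool, Fin n
  let pv : Bool → ℕ → MvPolynomial V ℚ := fun b k => if h : k - 1 < n then X ⟨b, ⟨k - 1, h⟩⟩ else 0
  let g : MvPolynomial V ℚ →ₐ[ℚ] R := aeval fun x => if x.1 then q ((x.2 : ℕ) + 1) else p ((x.2 : ℕ) + 1)
  have hpv : ∀ b k, 1 ≤ k → k ≤ n → g (pv b k) = if b then q k else p k := fun b k h1 h2 => by
    simp only [pv, dif_pos (show k - 1 < n by omega), g, aeval_X, Nat.sub_add_cancel h1]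
  suffices H : eFun (fun k => pv false k * pv true k) n = aeval (Sum.elim
      (fun k : Fin n => eFun (pv false) ((k : ℕ) + 1)) (fun k : Fin n => eFun (pv true) ((k : ℕ) + 1))) P by
    have := congrArg g.toRingHom H
    rw [map_eFun] at this
    refine ((eFun_congr n fun k h1 h2 => ?_).trans this).trans ?_
    · simp [hpv _ k h1 h2]
    · rw [AlgHom.toRingHom_eq_coe, RingHom.coe_coe, ← AlgHom.restrictScalars_apply ℤ, comp_aeval_apply]
      congr 2
      funext x
      rcases x with k | k
      · refine (map_eFun (g : MvPolynomial V ℚ →+* R) _ _).trans (eFun_congr _ fun l h1 h2 => ?_)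
        simp [hpv _ l h1 (by omega)]
      · refine (map_eFun (g : MvPolynomial V ℚ →+* R) _ _).trans (eFun_congr _ fun l h1 h2 => ?_)
        simp [hpv _ l h1 (by omega)]
  apply blockPsum_injective
  let T : Bool → Fin n → MvPolynomial V ℚ := fun b a => X ⟨b, a⟩
  let Φ : MvPolynomial V ℚ →ₐ[ℚ] MvPolynomial V ℚ := blockPsum
  change Φ.toRingHom _ = Φ.toRingHom _
  have hΦ : ∀ b k, 1 ≤ k → k ≤ n → Φ (pv b k) = ∑ a, T b a ^ k := fun b k h1 h2 => by
    simp only [pv, dif_pos (show k - 1 < n by omega), Φ, blockPsum, aeval_X, Nat.sub_add_cancel h1, T]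
  have hl : Φ.toRingHom (eFun (fun k => pv false k * pv true k) n) =
      ((Finset.univ : Finset (Fin n × Fin n)).val.map fun ab => T false ab.1 * T true ab.2).esymm n := by
    rw [map_eFun, ← eFun_esymm]
    refine eFun_congr n fun k h1 h2 => ?_
    simp only [map_mul, AlgHom.toRingHom_eq_coe, RingHom.coe_coe, hΦ _ k h1 h2, mul_pow,
      ← Finset.univ_product_univ, Finset.sum_product, Finset.sum_mul_sum]
  have hr : ∀ b (k : Fin n), Φ.toRingHom (eFun (pv b) ((k : ℕ) + 1)) =
      ((Finset.univ : Finset (Fin n)).val.map (T b)).esymm ((k : ℕ) + 1) := fun b k => by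
    rw [map_eFun, ← eFun_esymm]
    exact eFun_congr _ fun l h1 h2 => hΦ b l h1 (by omega)
  let ι' : MvPolynomial (Fin n ⊕ Fin n) ℤ →ₐ[ℤ] MvPolynomial V ℚ :=
    aeval (Sum.elim (T false) (T true))
  rw [hl, AlgHom.toRingHom_eq_coe, RingHom.coe_coe, ← AlgHom.restrictScalars_apply ℤ, comp_aeval_apply]
  have h2 := congrArg ι'.toRingHom hP.1
  rw [LambdaRing.mulGen, Finset.esymm_map_val, map_sum] at h2
  simp only [map_prod, AlgHom.toRingHom_eq_coe, RingHom.coe_coe, map_mul, ι', aeval_X, Sum.elim_inl,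
    Sum.elim_inr] at h2
  rw [Finset.esymm_map_val, ← h2, comp_aeval_apply]
  congr 2
  funext x
  rcases x with k | k <;>
    simp only [Sum.elim_inl, Sum.elim_inr, aeval_rename, Sum.elim_comp_inl, Sum.elim_comp_inr]
  · exact (aeval_esymm_eq_multiset_esymm (Fin n) ℤ _ _).trans (hr false k).symm
  · exact (aeval_esymm_eq_multiset_esymm (Fin n) ℤ _ _).trans (hr true k).symm

theorem eFun_comp_eq (i j : ℕ) (Q : MvPolynomial (Fin (i * j)) ℤ) (hQ : IsCompPoly i j Q) (p : ℕ → R) :
    eFun (fun m => eFun (fun k => p (m * k)) i) j =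
      aeval (fun k : Fin (i * j) => eFun p ((k : ℕ) + 1)) Q := by
  classical
  let V := Σ _ : Unit, Fin (i * j)
  let pv : ℕ → MvPolynomial V ℚ := fun k => if h : k - 1 < i * j then X ⟨(), ⟨k - 1, h⟩⟩ else 0
  let g : MvPolynomial V ℚ →ₐ[ℚ] R := aeval fun x => p ((x.2 : ℕ) + 1)
  have hpv : ∀ k, 1 ≤ k → k ≤ i * j → g (pv k) = p k := fun k h1 h2 => by
    simp only [pv, dif_pos (show k - 1 < i * j by omega), g, aeval_X, Nat.sub_add_cancel h1]
  have hle : ∀ m k, m ≤ j → k ≤ i → m * k ≤ i * j := fun m k hm hk =>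
    (Nat.mul_le_mul hm hk).trans (Nat.mul_comm j i).le
  suffices H : eFun (fun m => eFun (fun k => pv (m * k)) i) j =
      aeval (fun k : Fin (i * j) => eFun pv ((k : ℕ) + 1)) Q by
    have := congrArg g.toRingHom H
    rw [map_eFun] at this
    refine ((eFun_congr j fun m h1 h2 => ?_).trans this).trans ?_
    · rw [map_eFun]
      exact eFun_congr i fun k h3 h4 => (hpv _ (Nat.mul_pos h1 h3) (hle m k h2 h4)).symm
    · rw [AlgHom.toRingHom_eq_coe, RingHom.coe_coe, ← AlgHom.restrictScalars_apply ℤ, comp_aeval_apply]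
      congr 2
      funext k
      refine (map_eFun (g : MvPolynomial V ℚ →+* R) _ _).trans (eFun_congr _ fun l h1 h2 => ?_)
      exact hpv l h1 (by omega)
  apply blockPsum_injective
  let T : Fin (i * j) → MvPolynomial V ℚ := fun a => X ⟨(), a⟩
  let Φ : MvPolynomial V ℚ →ₐ[ℚ] MvPolynomial V ℚ := blockPsum
  change Φ.toRingHom _ = Φ.toRingHom _
  have hΦ : ∀ k, 1 ≤ k → k ≤ i * j → Φ (pv k) = ∑ a, T a ^ k := fun k h1 h2 => by
    simp only [pv, dif_pos (show k - 1 < i * j by omega), Φ, blockPsum, aeval_X, Nat.sub_add_cancel h1, T]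
  have hl : Φ.toRingHom (eFun (fun m => eFun (fun k => pv (m * k)) i) j) =
      (((Finset.univ : Finset (Fin (i * j))).powersetCard i).val.map fun s => ∏ a ∈ s, T a).esymm j := by
    rw [map_eFun, ← eFun_esymm]
    refine eFun_congr j fun m h1 h2 => ?_
    rw [map_eFun]
    have : eFun (fun k => ∑ a, (T a ^ m) ^ k) i =
        ∑ s ∈ (Finset.univ : Finset (Fin (i * j))).powersetCard i, (∏ a ∈ s, T a) ^ m := by
      rw [eFun_esymm, Finset.esymm_map_val]
      simp [Finset.prod_pow]
    rw [← this]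
    exact eFun_congr i fun k h3 h4 => (hΦ _ (Nat.mul_pos h1 h3) (hle m k h2 h4)).trans (by simp [pow_mul])
  let ι' : MvPolynomial (Fin (i * j)) ℤ →ₐ[ℤ] MvPolynomial V ℚ := aeval T
  rw [hl, AlgHom.toRingHom_eq_coe, RingHom.coe_coe, ← AlgHom.restrictScalars_apply ℤ, comp_aeval_apply]
  have h2 := congrArg ι'.toRingHom hQ.1
  rw [LambdaRing.compGen, Finset.esymm_map_val, map_sum] at h2
  simp only [map_prod, AlgHom.toRingHom_eq_coe, RingHom.coe_coe, ι', aeval_X] at h2
  rw [Finset.esymm_map_val, ← h2, comp_aeval_apply]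
  congr 2
  funext k
  refine (aeval_esymm_eq_multiset_esymm (Fin (i * j)) ℤ _ _).trans ?_
  change _ = Φ.toRingHom _
  rw [map_eFun, ← eFun_esymm]
  exact (eFun_congr _ fun l h1 h2 => hΦ l h1 (by omega)).symm

end Ident

variable {K : Type u} [CommRing K] [LambdaOps K]

theorem isSpecial_of_adams [Algebra ℚ K]
    (h1 : ∀ k : ℕ, 1 ≤ k → adamsOp k (1 : K) = 1)
    (hmul : ∀ k : ℕ, 1 ≤ k → ∀ x y : K, adamsOp k (x * y) = adamsOp k x * adamsOp k y)
    (hcomp : ∀ k k' : ℕ, 1 ≤ k → 1 ≤ k' → ∀ x : K, adamsOp k (adamsOp k' x) = adamsOp (k * k') x) :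
    IsSpecial K := by
  let Ψ : ∀ k, 1 ≤ k → K →+* K := fun k hk =>
    { toFun := adamsOp k, map_one' := h1 k hk, map_mul' := hmul k hk,
      map_zero' := (adamsOpHom k).map_zero, map_add' := adamsOp_add k }
  refine ⟨fun n hn => ?_, fun n P hP x y => ?_, fun i j Q hQ x => ?_⟩
  · rw [lam_eq_eFun, ← ((isExp_line (1 : K)).eq_eFun _ n fun k hk _ => by simp [h1 k hk]), if_neg (by omega),
      if_neg (by omega)]
  · rw [lam_eq_eFun, eFun_congr (ψ' := fun k => adamsOp k x * adamsOp k y) n fun k hk _ => hmul k hk x y,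
      eFun_mul_eq n P hP]
    simp only [← lam_eq_eFun]
  · rw [lam_eq_eFun, eFun_congr (ψ' := fun m => eFun (fun k => adamsOp (m * k) x) i) j fun m hm _ => ?_,
      eFun_comp_eq i j Q hQ (fun k => adamsOp k x)]
    · simp only [← lam_eq_eFun]
    · rw [lam_eq_eFun]
      exact (map_eFun (Ψ m hm) _ i).trans (eFun_congr i fun k hk _ => hcomp m k hm hk x)

theorem isSpecial_of_injective {L : Type v} [CommRing L] [LambdaOps L] (f : K →+* L)
    (hf : Function.Injective f) (hl : ∀ i x, f (LambdaOps.lam i x) = LambdaOps.lam i (f x))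
    (hL : IsSpecial L) : IsSpecial K := by
  refine ⟨fun n hn => hf ?_, fun n P hP x y => hf ?_, fun i j Q hQ x => hf ?_⟩
  · rw [hl, map_one, map_zero, hL.lam_one_eq_zero n hn]
  · rw [hl, map_mul, hL.lam_mul n P hP]
    refine Eq.trans ?_ (comp_aeval_apply _ f.toIntAlgHom P).symm
    congr 2
    funext x
    rcases x with k | k <;> simp [hl]
  · rw [hl, hl, hL.lam_lam i j Q hQ]
    refine Eq.trans ?_ (comp_aeval_apply _ f.toIntAlgHom Q).symm
    simp [hl]

/-- The `λ`-structure with all `ψ^k = id`. -/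
@[reducible] noncomputable def trivialOps (L : Type u) [CommRing L] [Algebra ℚ L] : LambdaOps L where
  lam n x := eFun (fun _ => x) n
  lam_zero x := eFun_zero _
  lam_one x := by rw [eFun, Fin.sum_univ_one]; simp [eFun_zero]
  lam_add k x y := eFun_add (fun _ => x) (fun _ => y) k

theorem adamsOp_trivialOps {L : Type u} [CommRing L] [Algebra ℚ L] {k : ℕ} (hk : 1 ≤ k) (x : L) :
    letI := trivialOps L; adamsOp k x = x := by
  let ops := trivialOps L
  exact (adamsOp_eq_nwt k x).trans (nwt_eFun (fun _ => x) hk)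

theorem isSpecial_trivialOps (L : Type u) [CommRing L] [Algebra ℚ L] :
    letI := trivialOps L; IsSpecial L := by
  letI := trivialOps L
  refine isSpecial_of_adams (fun k hk => adamsOp_trivialOps hk 1) (fun k hk x y => ?_) fun k k' hk hk' x => ?_
  · rw [adamsOp_trivialOps hk, adamsOp_trivialOps hk, adamsOp_trivialOps hk]
  · rw [adamsOp_trivialOps hk', adamsOp_trivialOps hk, adamsOp_trivialOps (Nat.mul_pos hk hk')]

theorem succ_mul_choose {K : Type u} [CommRing K] [BinomialRing K] (x : K) (n : ℕ) :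
    ((n : K) + 1) * Ring.choose x (n + 1) = (x - n) * Ring.choose x n := by
  apply nsmul_right_injective (Nat.factorial_ne_zero n)
  have h1 := Ring.descPochhammer_eq_factorial_smul_choose x (n + 1)
  have h2 := Ring.descPochhammer_eq_factorial_smul_choose x n
  rw [descPochhammer_succ_right, Polynomial.smeval_mul, Polynomial.smeval_sub, Polynomial.smeval_X,
    Polynomial.smeval_natCast, h2, Nat.factorial_succ] at h1
  simp only [nsmul_eq_mul, pow_one, pow_zero, mul_one, Nat.cast_mul, Nat.cast_add, Nat.cast_one] at h1 ⊢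
  linear_combination -h1

theorem isExp_choose {K : Type u} [CommRing K] [BinomialRing K] (x : K) :
    IsExp (fun _ => x) (fun n => Ring.choose x n) := by
  refine isExp_of_coeff (Ring.choose_zero_right x) fun n => ?_
  induction n with
  | zero => simp
  | succ n ih =>
    rw [Finset.sum_range_succ']
    simp only [Nat.add_sub_add_right, pow_succ, mul_neg, mul_one, neg_mul, Finset.sum_neg_distrib,
      pow_zero, one_mul, Nat.sub_zero]
    rw [← ih, succ_mul_choose x (n + 1)]
    push_cast
    ring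

theorem isSpecial_of_binomial (K : Type u) [CommRing K] [LambdaOps K] [BinomialRing K]
    (hKb : IsBinomial K) : IsSpecial K := by
  let M : Submonoid K := (nonZeroDivisors ℕ).map (Nat.castRingHom K)
  have hM : M ≤ nonZeroDivisors K := by
    rintro _ ⟨m, hm, rfl⟩
    refine mem_nonZeroDivisors_iff_right.2 fun x hx => ?_
    have h : m • x = m • (0 : K) := by simpa [nsmul_eq_mul, mul_comm] using hx
    exact nsmul_right_injective (nonZeroDivisors.ne_zero hm) h
  let L := Localization M
  have hu : ∀ z : nonZeroDivisors ℤ, IsUnit (Int.castRingHom L z) := by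
    intro z
    have hz := nonZeroDivisors.ne_zero z.2
    have : IsUnit (algebraMap K L ((z : ℤ).natAbs : K)) :=
      IsLocalization.map_units L (⟨_, (z : ℤ).natAbs, mem_nonZeroDivisors_of_ne_zero
        (Int.natAbs_ne_zero.2 hz), rfl⟩ : M)
    rcases Int.natAbs_eq (z : ℤ) with h | h <;> rw [h] <;> simpa using this
  letI : Algebra ℚ L := (IsLocalization.lift hu : ℚ →+* L).toAlgebra
  letI := trivialOps L
  refine isSpecial_of_injective (algebraMap K L) (IsLocalization.injective L hM) (fun i x => ?_)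
    (isSpecial_trivialOps L)
  rw [hKb i x]
  exact ((isExp_choose x).map (algebraMap K L)).eq_eFun _ i fun _ _ _ => rfl

end Groth.MilnorKLambda.Lam
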