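import Groth.Agent.MilnorKLambda.LamWeight
import Groth.Agent.MilnorKLambda.LamPQ

/-!
# Lifting the `λ`-operations to `K[Y_{r,k}]` (splitting principle)
-/

set_option autoImplicit false
universe u v w x y

open Finset MvPolynomial LambdaRing

attribute [local instance] BinomialRing.toIsAddTorsionFree

namespace Groth.MilnorKLambda.Lam

section QExt

variable (K : Type u) [CommRing K] [BinomialRing K]

/-- Nonzero natural numbers in `K`. -/
def natSubmonoid : Submonoid K := (nonZeroDivisors ℕ).map (Nat.castRingHom K)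

/-- `K ⊗ ℚ`. -/
abbrev QExt : Type u := Localization (natSubmonoid K)

theorem natSubmonoid_le : natSubmonoid K ≤ nonZeroDivisors K := by
  rintro _ ⟨m, hm, rfl⟩
  refine mem_nonZeroDivisors_iff_right.2 fun x hx => ?_
  have h : m • x = m • (0 : K) := by simpa [nsmul_eq_mul, mul_comm] using hx
  exact nsmul_right_injective (nonZeroDivisors.ne_zero hm) h

theorem isUnit_intCast_qExt (z : nonZeroDivisors ℤ) : IsUnit (Int.castRingHom (QExt K) z) := by
  have hz := nonZeroDivisors.ne_zero z.2
  have : IsUnit (algebraMap K (QExt K) ((z : ℤ).natAbs : K)) :=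
    IsLocalization.map_units (QExt K) (⟨_, (z : ℤ).natAbs, mem_nonZeroDivisors_of_ne_zero
      (Int.natAbs_ne_zero.2 hz), rfl⟩ : natSubmonoid K)
  rcases Int.natAbs_eq (z : ℤ) with h | h <;> rw [h] <;> simpa using this

/-- `K ⊗ ℚ` is a `ℚ`-algebra. -/
@[reducible] noncomputable def qExtAlgebra : Algebra ℚ (QExt K) :=
  (IsLocalization.lift (isUnit_intCast_qExt K) : ℚ →+* QExt K).toAlgebra

/-- The embedding `K → K ⊗ ℚ`. -/
noncomputable def toQExt : K →+* QExt K := algebraMap K (QExt K)

theorem toQExt_injective : Function.Injective (toQExt K) :=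
  IsLocalization.injective (QExt K) (natSubmonoid_le K)

end QExt

section Target

variable {K : Type u} [CommRing K] [BinomialRing K] {ι : Type v}

/-- A map from `K[Y_{r,k}]` to a `λ`-ring which is `γ^{k+1}` of the value at `Y_{r,0}` on `Y_{r,k}`. -/
structure IsTarget {B : Type w} [CommRing B] [LambdaOps B] (h : MvPolynomial (ι × ℕ) K →+* B) : Prop where
  special : IsSpecial B
  const : ∀ (a : K) (k : ℕ), h (C (Ring.choose a k)) = LambdaOps.lam k (h (C a))
  var : ∀ (r : ι) (k : ℕ), h (X (r, k)) = gamma (k + 1) (h (X (r, 0)))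

variable {B : Type w} [CommRing B] [LambdaOps B] {h : MvPolynomial (ι × ℕ) K →+* B}

theorem gamma_succ_eq (k : ℕ) (b : B) :
    gamma (k + 1) b = ∑ j ∈ range (k + 1), (k.choose j : B) * LambdaOps.lam (j + 1) b := by
  rw [gamma, if_neg (Nat.succ_ne_zero k), Finset.sum_range_succ']
  simp

/-- Witnesses for `λ^k(-p)`. -/
noncomputable def negW (q : ℕ → MvPolynomial (ι × ℕ) K) : ℕ → MvPolynomial (ι × ℕ) K
  | 0 => 1
  | k + 1 => -∑ i : Fin (k + 1), q (i + 1) * negW q (k - i)
termination_by k => k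
decreasing_by omega

/-- Witnesses for `λ^k(Y_{r,0})`. -/
noncomputable def varW (r : ι) : ℕ → MvPolynomial (ι × ℕ) K
  | 0 => 1
  | k + 1 => X (r, k) - ∑ j : Fin k, C ((k.choose j : K)) * varW r (j + 1)
termination_by k => k
decreasing_by omega

theorem step_add {p p' : MvPolynomial (ι × ℕ) K} {q q' : ℕ → MvPolynomial (ι × ℕ) K}
    (hq : ∀ i, h (q i) = LambdaOps.lam i (h p)) (hq' : ∀ i, h (q' i) = LambdaOps.lam i (h p')) (k : ℕ) :
    h (∑ i ∈ range (k + 1), q i * q' (k - i)) = LambdaOps.lam k (h (p + p')) := by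
  simp [map_add, LambdaOps.lam_add, map_sum, map_mul, hq, hq']

theorem step_neg {p : MvPolynomial (ι × ℕ) K} {q : ℕ → MvPolynomial (ι × ℕ) K}
    (hq : ∀ i, h (q i) = LambdaOps.lam i (h p)) (k : ℕ) : h (negW q k) = LambdaOps.lam k (h (-p)) := by
  induction k using Nat.strong_induction_on with
  | _ k ih =>
    cases k with
    | zero => rw [negW, map_one, LambdaOps.lam_zero]
    | succ k =>
      rw [negW, map_neg, Fin.sum_univ_eq_sum_range (fun i => q (i + 1) * negW q (k - i)), map_sum]
      have := LambdaOps.lam_add (k + 1) (h p) (h (-p))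
      rw [map_neg h p, add_neg_cancel, LambdaCore.lam_zero_of_pos (by omega), Finset.sum_range_succ',
        LambdaOps.lam_zero, one_mul] at this
      rw [map_neg h p, neg_eq_iff_add_eq_zero]
      refine Eq.trans ?_ this.symm
      refine congr_arg₂ (· + ·) (Finset.sum_congr rfl fun i hi => ?_) rfl
      rw [map_mul, hq, ih (k - i) (by omega), map_neg, Nat.add_sub_add_right]

theorem step_mul (hh : IsTarget h) {p p' : MvPolynomial (ι × ℕ) K} {q q' : ℕ → MvPolynomial (ι × ℕ) K}
    (hq : ∀ i, h (q i) = LambdaOps.lam i (h p)) (hq' : ∀ i, h (q' i) = LambdaOps.lam i (h p'))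
    {k : ℕ} {P : MvPolynomial (Fin k ⊕ Fin k) ℤ} (hP : IsMulPoly k P) :
    h (aeval (Sum.elim (fun i : Fin k => q (i + 1)) (fun i : Fin k => q' (i + 1))) P) =
      LambdaOps.lam k (h (p * p')) := by
  rw [map_mul, hh.special.lam_mul k P hP]
  refine (comp_aeval_apply _ h.toIntAlgHom P).trans ?_
  congr 2
  funext x
  rcases x with i | i <;> simp [hq, hq']

theorem step_lam (hh : IsTarget h) {p : MvPolynomial (ι × ℕ) K} {q : ℕ → MvPolynomial (ι × ℕ) K}
    (hq : ∀ i, h (q i) = LambdaOps.lam i (h p)) {i k : ℕ} {Q : MvPolynomial (Fin (i * k)) ℤ}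
    (hQ : IsCompPoly i k Q) :
    h (aeval (fun l : Fin (i * k) => q (l + 1)) Q) = LambdaOps.lam k (h (q i)) := by
  rw [hq i, hh.special.lam_lam i k Q hQ]
  refine (comp_aeval_apply _ h.toIntAlgHom Q).trans ?_
  simp [hq]

theorem step_var (hh : IsTarget h) (r : ι) (k : ℕ) :
    h (varW r k) = LambdaOps.lam k (h (X (r, 0))) := by
  induction k using Nat.strong_induction_on with
  | _ k ih =>
    cases k with
    | zero => rw [varW, map_one, LambdaOps.lam_zero]
    | succ k =>
      rw [varW, map_sub, hh.var, gamma_succ_eq, Finset.sum_range_succ, Nat.choose_self,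
        Fin.sum_univ_eq_sum_range (fun j => C ((k.choose j : K)) * varW r (j + 1)), map_sum,
        Nat.cast_one, one_mul, show ∑ j ∈ range k, h (C ((k.choose j : K)) * varW r (j + 1)) =
            ∑ j ∈ range k, (k.choose j : B) * LambdaOps.lam (j + 1) (h (X (r, 0))) from
          Finset.sum_congr rfl fun j hj => by
            rw [map_mul, map_natCast, map_natCast, ih (j + 1) (by rw [Finset.mem_range] at hj; omega)],
        add_sub_cancel_left]

theorem X_eq_combination (hh : IsTarget h) (r : ι) (k : ℕ) :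
    h (X (r, k)) = h (∑ j ∈ range (k + 1), C ((k.choose j : K)) * varW r (j + 1)) := by
  rw [hh.var, gamma_succ_eq, map_sum]
  exact Finset.sum_congr rfl fun j _ => by rw [map_mul, map_natCast, map_natCast, step_var hh]

end Target

section Lift

variable {K : Type u} [CommRing K] [BinomialRing K] {ι : Type v}
  {A : Type w} [CommRing A] [LambdaOps A] {τ : Type x} {M : τ → Type y} [∀ t, CommRing (M t)]
  [∀ t, LambdaOps (M t)]
  {φ : MvPolynomial (ι × ℕ) K →+* A} {θ : ∀ t, MvPolynomial (ι × ℕ) K →+* M t}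

/-- `p` has liftable `λ`-operations along `φ` and all `θ t`. -/
def Good (φ : MvPolynomial (ι × ℕ) K →+* A) (θ : ∀ t, MvPolynomial (ι × ℕ) K →+* M t)
    (p : MvPolynomial (ι × ℕ) K) : Prop :=
  ∃ q : ℕ → MvPolynomial (ι × ℕ) K,
    (∀ k, φ (q k) = LambdaOps.lam k (φ p)) ∧ ∀ t k, θ t (q k) = LambdaOps.lam k (θ t p)

variable (hφ : IsTarget φ) (hθ : ∀ t, IsTarget (θ t))
include hφ hθ

theorem good_C (a : K) : Good φ θ (C a) :=
  ⟨fun k => C (Ring.choose a k), hφ.const a, fun t => (hθ t).const a⟩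

omit hφ hθ in
theorem good_add {p p' : MvPolynomial (ι × ℕ) K} (hp : Good φ θ p) (hp' : Good φ θ p') : Good φ θ (p + p') := by
  obtain ⟨q, h1, h2⟩ := hp
  obtain ⟨q', h1', h2'⟩ := hp'
  exact ⟨fun k => ∑ i ∈ range (k + 1), q i * q' (k - i), step_add h1 h1', fun t => step_add (h2 t) (h2' t)⟩

theorem good_mul {p p' : MvPolynomial (ι × ℕ) K} (hp : Good φ θ p) (hp' : Good φ θ p') : Good φ θ (p * p') := by
  obtain ⟨q, h1, h2⟩ := hp
  obtain ⟨q', h1', h2'⟩ := hp'
  choose P hP using exists_isMulPoly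
  exact ⟨fun k => aeval (Sum.elim (fun i : Fin k => q (i + 1)) (fun i : Fin k => q' (i + 1))) (P k),
    fun k => step_mul hφ h1 h1' (hP k), fun t k => step_mul (hθ t) (h2 t) (h2' t) (hP k)⟩

theorem good_lam {p : MvPolynomial (ι × ℕ) K} {q : ℕ → MvPolynomial (ι × ℕ) K}
    (h1 : ∀ k, φ (q k) = LambdaOps.lam k (φ p)) (h2 : ∀ t k, θ t (q k) = LambdaOps.lam k (θ t p)) (i : ℕ) :
    Good φ θ (q i) := by
  choose Q hQ using exists_isCompPoly i
  exact ⟨fun k => aeval (fun l : Fin (i * k) => q (l + 1)) (Q k),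
    fun k => step_lam hφ h1 (hQ k), fun t k => step_lam (hθ t) (h2 t) (hQ k)⟩

omit hφ hθ in
theorem good_congr {p p' : MvPolynomial (ι × ℕ) K} (hp : Good φ θ p) (e : φ p = φ p')
    (e' : ∀ t, θ t p = θ t p') : Good φ θ p' := by
  obtain ⟨q, h1, h2⟩ := hp
  exact ⟨q, fun k => e ▸ h1 k, fun t k => e' t ▸ h2 t k⟩

theorem good_X (r : ι) (k : ℕ) : Good φ θ (X (r, k)) := by
  refine good_congr (p := ∑ j ∈ range (k + 1), C ((k.choose j : K)) * varW r (j + 1)) ?_
    (X_eq_combination hφ r k).symm fun t => (X_eq_combination (hθ t) r k).symm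
  induction range (k + 1) using Finset.induction_on with
  | empty => rw [Finset.sum_empty, ← C_0]; exact good_C hφ hθ 0
  | insert j s hj ih =>
    rw [Finset.sum_insert hj]
    refine good_add (good_mul hφ hθ (good_C hφ hθ _) ?_) ih
    exact good_lam hφ hθ (step_var hφ r) (fun t => step_var (hθ t) r) (j + 1)

/-- Every polynomial has liftable `λ`-operations. -/
theorem good (p : MvPolynomial (ι × ℕ) K) : Good φ θ p := by
  induction p using MvPolynomial.induction_on with
  | C a => exact good_C hφ hθ a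
  | add p q hp hq => exact good_add hp hq
  | mul_X p x hp => exact good_mul hφ hθ hp (good_X hφ hθ x.1 x.2)

theorem exists_lam_lift (p : MvPolynomial (ι × ℕ) K) (k : ℕ) :
    ∃ q, φ q = LambdaOps.lam k (φ p) ∧ ∀ t, θ t q = LambdaOps.lam k (θ t p) :=
  let ⟨q, h1, h2⟩ := good hφ hθ p; ⟨q k, h1 k, fun t => h2 t k⟩

theorem exists_gamma_lift (p : MvPolynomial (ι × ℕ) K) (k : ℕ) :
    ∃ q, φ q = gamma k (φ p) ∧ ∀ t, θ t q = gamma k (θ t p) := by
  obtain ⟨q, h1, h2⟩ := good hφ hθ p
  cases k with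
  | zero => exact ⟨1, by simp, fun t => by simp⟩
  | succ k =>
    refine ⟨∑ j ∈ range (k + 1), C ((k.choose j : K)) * q (j + 1), ?_, fun t => ?_⟩ <;>
      simp [gamma_succ_eq, map_sum, map_mul, h1, h2]

theorem exists_adams_lift (p : MvPolynomial (ι × ℕ) K) {k : ℕ} (hk : 1 ≤ k) :
    ∃ q, φ q = adamsOp k (φ p) ∧ ∀ t, θ t q = adamsOp k (θ t p) := by
  obtain ⟨q, h1, h2⟩ := good hφ hθ p
  refine ⟨nwt (fun i => if i = 0 then 1 else q i) k, ?_, fun t => ?_⟩ <;>
    rw [map_nwt _ (by simp) hk, adamsOp_eq_nwt] <;> congr 1 <;> funext i <;> split_ifs with hi <;>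
    first
      | (subst hi; simp [LambdaOps.lam_zero])
      | exact h1 i
      | exact h2 t i

end Lift

section Maps

variable {K : Type u} [CommRing K] {ι : Type v}

/-- Set the variables in `S` to zero. -/
noncomputable def killU (S : Set (ι × ℕ)) : MvPolynomial (ι × ℕ) K →ₐ[K] MvPolynomial (ι × ℕ) K :=
  open Classical in aeval fun x => if x ∈ S then 0 else X x

theorem killU_X_of_mem {S : Set (ι × ℕ)} {x : ι × ℕ} (hx : x ∈ S) :
    killU S (X x : MvPolynomial (ι × ℕ) K) = 0 := by simp [killU, hx]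

theorem killU_X_of_notMem {S : Set (ι × ℕ)} {x : ι × ℕ} (hx : x ∉ S) :
    killU S (X x : MvPolynomial (ι × ℕ) K) = X x := by simp [killU, hx]

theorem killU_C (S : Set (ι × ℕ)) (a : K) : killU S (C a : MvPolynomial (ι × ℕ) K) = C a := by simp [killU]

theorem killU_comp {B : Type w} [CommRing B] (h : MvPolynomial (ι × ℕ) K →+* B) {S : Set (ι × ℕ)}
    (hS : ∀ x ∈ S, h (X x) = 0) (p : MvPolynomial (ι × ℕ) K) : h (killU S p) = h p := by
  have : h.comp (killU (K := K) S).toRingHom = h := by
    refine MvPolynomial.ringHom_ext (fun a => by simp [killU]) fun x => ?_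
    by_cases hx : x ∈ S
    · simp [killU_X_of_mem hx, hS x hx]
    · simp [killU_X_of_notMem hx]
  exact DFunLike.congr_fun this p

theorem notMem_vars_killU {S : Set (ι × ℕ)} {p : MvPolynomial (ι × ℕ) K} {x : ι × ℕ}
    (hx : x ∈ (killU S p).vars) : x ∉ S := by
  classical
  rw [killU, aeval_eq_bind₁] at hx
  obtain ⟨y, _, hy⟩ := mem_vars_bind₁ _ _ hx
  split_ifs at hy with h
  · simp at hy
  · by_cases hn : Nontrivial K
    · rw [vars_X, Finset.mem_singleton] at hy; exact hy ▸ h
    · rw [not_nontrivial_iff_subsingleton] at hn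
      rw [Subsingleton.elim (X y) (0 : MvPolynomial (ι × ℕ) K)] at hy
      simp at hy

theorem sub_killU_mem (S : Set (ι × ℕ)) (p : MvPolynomial (ι × ℕ) K) :
    p - killU S p ∈ Ideal.span (X '' S : Set (MvPolynomial (ι × ℕ) K)) := by
  induction p using MvPolynomial.induction_on with
  | C a => simp [killU]
  | add g h hg hh =>
    rw [map_add, show g + h - (killU S g + killU S h) = (g - killU S g) + (h - killU S h) by ring]
    exact add_mem hg hh
  | mul_X g x hg =>
    rw [map_mul]
    by_cases hx : x ∈ S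
    · rw [killU_X_of_mem hx, mul_zero, sub_zero]
      exact Ideal.mul_mem_left _ _ (Ideal.subset_span ⟨x, hx, rfl⟩)
    · rw [killU_X_of_notMem hx, ← sub_mul]
      exact Ideal.mul_mem_right _ _ hg

theorem exists_killU_eq_mul {S : Set (ι × ℕ)} {v : ι × ℕ} (hv : v ∉ S) {q : MvPolynomial (ι × ℕ) K}
    (h : killU (insert v S) q = 0) : ∃ q', killU S q = X v * killU S q' := by
  have h1 := Ideal.mem_map_of_mem (killU (K := K) S) (sub_killU_mem (insert v S) q)
  rw [h, sub_zero, Ideal.map_span] at h1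
  have h2 : killU S q ∈ Ideal.span {(X v : MvPolynomial (ι × ℕ) K)} := by
    refine Ideal.span_le.2 ?_ h1
    rintro _ ⟨_, ⟨x, hx, rfl⟩, rfl⟩
    rcases hx with rfl | hx
    · rw [killU_X_of_notMem hv]; exact Ideal.mem_span_singleton_self _
    · rw [killU_X_of_mem hx]; exact zero_mem _
  obtain ⟨c, hc⟩ := Ideal.mem_span_singleton'.1 h2
  refine ⟨c, ?_⟩
  have hidem : ∀ p, killU S (killU (K := K) S p) = killU S p := fun p =>
    killU_comp (killU (K := K) S).toRingHom (fun x hx => killU_X_of_mem hx) p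
  have := congrArg (killU S) hc
  rw [map_mul, killU_X_of_notMem hv, hidem, mul_comm] at this
  exact this.symm

/-- A bound for the second indices of the variables. -/
noncomputable def bnd (p : MvPolynomial (ι × ℕ) K) : ℕ := p.vars.sup fun x => x.2 + 1

theorem lt_bnd {p : MvPolynomial (ι × ℕ) K} {x : ι × ℕ} (hx : x ∈ p.vars) : x.2 < bnd p :=
  Finset.le_sup (f := fun x : ι × ℕ => x.2 + 1) hx

theorem mem_filU_one {p : MvPolynomial (ι × ℕ) K} (hp : constantCoeff p = 0) : p ∈ filU K ι 1 := by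
  refine mem_filU.2 fun d hd => Nat.one_le_iff_ne_zero.2 fun h => ?_
  have : d = 0 := by
    by_contra hne
    obtain ⟨x, hx⟩ : ∃ x, d x ≠ 0 := not_forall.1 fun h => hne (Finsupp.ext h)
    have := Finsupp.le_weight (wU ι) (s := x) (by simp [wU]) d
    rw [h] at this
    omega
  subst this
  exact mem_support_iff.1 hd hp

theorem constantCoeff_eq {B : Type w} [CommRing B] (h : MvPolynomial (ι × ℕ) K →+* B) (j : K →+* B)
    (hC : ∀ a, h (C a) = j a) (hX : ∀ x, h (X x) = 0) (p : MvPolynomial (ι × ℕ) K) :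
    h p = j (constantCoeff p) := by
  have : h = j.comp constantCoeff := MvPolynomial.ringHom_ext (fun a => by simp [hC]) fun x => by simp [hX]
  exact DFunLike.congr_fun this p

end Maps

section Models

variable {K : Type u} [CommRing K] [BinomialRing K] {ι : Type v} {R : Type w} [CommRing R] [Algebra ℚ R]
  (f : K →+* R)

attribute [local instance] modelOps

theorem isTarget_theta (n : ι → ℕ) : IsTarget (theta f n) where
  special := model_isSpecial
  const a k := by rw [theta_C, theta_C, model_lam_C]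
  var r k := by
    have h0 : theta f n (X (r, 0)) = ∑ a, X (⟨r, a⟩ : Σ r : ι, Fin (n r)) := by
      rw [theta_X, esymm_one, map_sum]; simp
    rw [h0, model_gamma_block (fun a => (⟨r, a⟩ : Σ r : ι, Fin (n r))), theta_X]

omit [BinomialRing K] [Algebra ℚ R] in
theorem constantCoeff_theta (n : ι → ℕ) (p : MvPolynomial (ι × ℕ) K) :
    constantCoeff (theta f n p) = f (constantCoeff p) := by
  refine constantCoeff_eq ((constantCoeff).comp (theta f n)) f (fun a => by simp) (fun x => ?_) p
  rw [RingHom.comp_apply, theta_X, constantCoeff_rename, esymm, map_sum]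
  refine Finset.sum_eq_zero fun t ht => ?_
  rw [map_prod]
  obtain ⟨a, ha⟩ := Finset.card_pos.1 (by rw [(Finset.mem_powersetCard.1 ht).2]; omega : 0 < t.card)
  exact Finset.prod_eq_zero ha (by simp)

end Models

section Phi

variable {K : Type u} [CommRing K] {ι : Type v} {A : Type w} [CommRing A] [LambdaOps A] [Algebra K A]

/-- `Y_{r,k} ↦ γ^{k+1}(a_r)`. -/
noncomputable def phiHom (a : ι → A) : MvPolynomial (ι × ℕ) K →+* A :=
  (aeval fun x : ι × ℕ => gamma (x.2 + 1) (a x.1) : MvPolynomial (ι × ℕ) K →ₐ[K] A).toRingHom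

@[simp] theorem phiHom_X (a : ι → A) (x : ι × ℕ) :
    phiHom (K := K) a (X x) = gamma (x.2 + 1) (a x.1) := by simp [phiHom]

@[simp] theorem phiHom_C (a : ι → A) (c : K) : phiHom a (C c) = algebraMap K A c := by simp [phiHom]

theorem isTarget_phiHom [BinomialRing K] (hA : IsSpecial A)
    (hC : ∀ (c : K) (k : ℕ), algebraMap K A (Ring.choose c k) = LambdaOps.lam k (algebraMap K A c))
    (a : ι → A) : IsTarget (phiHom (K := K) a) where
  special := hA
  const c k := by simp [hC]
  var r k := by simp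

end Phi

end Groth.MilnorKLambda.Lam
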