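import Groth.Agent.MilnorKLambda.LamNewton
import Mathlib.RingTheory.MvPolynomial.Symmetric.FundamentalTheorem
import Mathlib.RingTheory.MvPolynomial.WeightedHomogeneous

/-!
# Block-symmetric polynomials
-/

set_option autoImplicit false
universe u v w x

open Finset MvPolynomial

namespace Groth.MilnorKLambda.Lam

/-! ### Weighted homogeneity under substitution -/

section Weights

variable {R : Type u} [CommRing R] {σ : Type v} {τ : Type w} {M : Type x} [AddCommMonoid M]
  {wσ : σ → M} {wτ : τ → M} {f : σ → MvPolynomial τ R}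

theorem isWeightedHomogeneous_aeval (hf : ∀ i, IsWeightedHomogeneous wτ (f i) (wσ i))
    {p : MvPolynomial σ R} {m : M} (hp : IsWeightedHomogeneous wσ p m) :
    IsWeightedHomogeneous wτ (aeval f p) m := by
  rw [p.as_sum, map_sum]
  refine IsWeightedHomogeneous.sum _ _ _ fun d hd => ?_
  rw [aeval_monomial, ← hp (mem_support_iff.1 hd), algebraMap_eq, Finsupp.weight_apply]
  have h2 := (IsWeightedHomogeneous.prod d.support (fun i => f i ^ d i) (fun i => d i • wσ i)
    fun i _ => (hf i).pow (d i))
  have := (isWeightedHomogeneous_C wτ (coeff d p)).mul h2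
  rwa [zero_add] at this

theorem component_aeval (hf : ∀ i, IsWeightedHomogeneous wτ (f i) (wσ i)) (p : MvPolynomial σ R) (m : M) :
    weightedHomogeneousComponent wτ m (aeval f p) = aeval f (weightedHomogeneousComponent wσ m p) := by
  classical
  induction p using MvPolynomial.induction_on' with
  | monomial d a =>
    have h := isWeightedHomogeneous_monomial wσ d a (rfl : Finsupp.weight wσ d = _)
    have h2 := isWeightedHomogeneous_aeval hf h
    rw [weightedHomogeneousComponent_of_mem h2, weightedHomogeneousComponent_of_mem h]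
    split_ifs <;> simp
  | add p q hp hq => rw [map_add, map_add, map_add, map_add, hp, hq]

end Weights

variable (R : Type u) [CommRing R] {ι : Type v} (n : ι → ℕ)

local notation "Σv" => (Σ r : ι, Fin (n r))

/-- The `(k+1)`st elementary symmetric polynomial of the block `r`. -/
noncomputable def blockEsymm (x : Σv) : MvPolynomial (Σv) R :=
  rename (Sigma.mk x.1) (esymm (Fin (n x.1)) R ((x.2 : ℕ) + 1))

open Classical in
/-- Elementary symmetric substitution on the blocks in `s`. -/
noncomputable def blockHom (s : Finset ι) : MvPolynomial (Σv) R →ₐ[R] MvPolynomial (Σv) R :=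
  aeval fun x => if x.1 ∈ s then blockEsymm R n x else X x

/-- Elementary symmetric substitution on all blocks. -/
noncomputable def blockAll : MvPolynomial (Σv) R →ₐ[R] MvPolynomial (Σv) R := aeval (blockEsymm R n)

variable {R n}

theorem blockHom_rename_mk {s : Finset ι} {a : ι} (ha : a ∉ s) (p : MvPolynomial (Fin (n a)) R) :
    blockHom R n s (rename (Sigma.mk a) p) = rename (Sigma.mk a) p := by
  have : (blockHom R n s).comp (rename (@Sigma.mk ι (fun r => Fin (n r)) a)) =
      rename (@Sigma.mk ι (fun r => Fin (n r)) a) :=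
    algHom_ext fun k => by simp [blockHom, rename_X, ha]
  exact DFunLike.congr_fun this p

theorem blockHom_insert [DecidableEq ι] {s : Finset ι} {a : ι} (ha : a ∉ s) :
    blockHom R n (insert a s) = (blockHom R n s).comp (blockHom R n {a}) := by
  classical
  refine algHom_ext fun x => ?_
  simp only [AlgHom.comp_apply, blockHom, aeval_X, Finset.mem_insert, Finset.mem_singleton]
  by_cases hx : x.1 = a
  · rw [if_pos (Or.inl hx), if_pos hx, blockEsymm]
    obtain ⟨r, k⟩ := x
    cases hx
    exact (blockHom_rename_mk ha _).symm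
  · simp [hx]

open Classical in
/-- Split off one block. -/
noncomputable def splitBlock (a : ι) : Σv ≃ Fin (n a) ⊕ {x : Σv // ¬ x.1 = a} :=
  (Equiv.sumCompl fun x : Σv => x.1 = a).symm.trans
    (Equiv.sumCongr (Equiv.sigmaSubtype a) (Equiv.refl _))

theorem splitBlock_symm_inl (a : ι) (k : Fin (n a)) : (splitBlock (n := n) a).symm (Sum.inl k) = ⟨a, k⟩ := rfl

theorem splitBlock_mk (a : ι) (k : Fin (n a)) : splitBlock (n := n) a ⟨a, k⟩ = Sum.inl k := by
  rw [← Equiv.eq_symm_apply, splitBlock_symm_inl]

theorem splitBlock_ne {a : ι} {x : Σv} (hx : ¬ x.1 = a) : splitBlock (n := n) a x = Sum.inr ⟨x, hx⟩ := by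
  rw [← Equiv.eq_symm_apply]; rfl

/-- The iterated polynomial ring at a block. -/
noncomputable def iterEquiv (a : ι) : MvPolynomial (Σv) R ≃ₐ[R]
    MvPolynomial (Fin (n a)) (MvPolynomial {x : Σv // ¬ x.1 = a} R) :=
  (renameEquiv R (splitBlock a)).trans (sumAlgEquiv R _ _)

theorem iterEquiv_X_mk (a : ι) (k : Fin (n a)) : iterEquiv (R := R) a (X ⟨a, k⟩) = X k := by
  simp [iterEquiv, splitBlock_mk]

theorem iterEquiv_X_ne {a : ι} {x : Σv} (hx : ¬ x.1 = a) :
    iterEquiv (R := R) a (X x) = C (X ⟨x, hx⟩) := by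
  simp [iterEquiv, splitBlock_ne hx]

theorem iterEquiv_blockHom (a : ι) (p : MvPolynomial (Σv) R) :
    iterEquiv a (blockHom R n {a} p) =
      aeval (fun i : Fin (n a) => esymm (Fin (n a)) (MvPolynomial {x : Σv // ¬ x.1 = a} R) ((i : ℕ) + 1))
        (iterEquiv a p) := by
  have : (iterEquiv (R := R) (n := n) a).toAlgHom.comp (blockHom R n {a}) =
      ((aeval fun i : Fin (n a) => esymm (Fin (n a)) (MvPolynomial {x : Σv // ¬ x.1 = a} R) ((i : ℕ) + 1)).restrictScalars R).comp
        (iterEquiv (R := R) a).toAlgHom := by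
    refine algHom_ext fun x => ?_
    simp only [AlgHom.comp_apply, AlgEquiv.coe_toAlgHom, blockHom, aeval_X, AlgHom.restrictScalars_apply,
      Finset.mem_singleton]
    by_cases hx : x.1 = a
    · obtain ⟨r, k⟩ := x
      cases hx
      rw [if_pos (Finset.mem_singleton_self _), iterEquiv_X_mk, aeval_X, blockEsymm]
      simp only [esymm, map_sum, map_prod, rename_X, iterEquiv_X_mk]
    · rw [if_neg (by simpa using hx), iterEquiv_X_ne hx, aeval_C, algebraMap_eq]
  exact DFunLike.congr_fun this p

theorem blockHom_singleton_injective (a : ι) : Function.Injective (blockHom R n {a}) := by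
  intro p q h
  have h' := congrArg (iterEquiv a) h
  rw [iterEquiv_blockHom, iterEquiv_blockHom, ← esymmAlgHom_apply, ← esymmAlgHom_apply] at h'
  exact (iterEquiv a).injective (esymmAlgHom_fin_injective _ le_rfl (Subtype.ext h'))

theorem blockHom_injective (s : Finset ι) : Function.Injective (blockHom R n s) := by
  classical
  induction s using Finset.induction_on with
  | empty =>
    have : blockHom R n ∅ = AlgHom.id R _ := algHom_ext fun x => by simp [blockHom]
    rw [this]; exact Function.injective_id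
  | insert a s ha ih =>
    rw [blockHom_insert ha, AlgHom.coe_comp]
    exact ih.comp (blockHom_singleton_injective a)

theorem blockAll_eq_blockHom {s : Finset ι} {p : MvPolynomial (Σv) R} (hp : ∀ x ∈ p.vars, x.1 ∈ s) :
    blockAll R n p = blockHom R n s p := by
  classical
  refine hom_congr_vars (f₁ := (blockAll R n).toRingHom)
    (f₂ := (blockHom R n s).toRingHom) ?_ (fun x hx _ => ?_) rfl
  · ext r; simp
  · simp [blockAll, blockHom, hp x hx]

theorem blockAll_injective : Function.Injective (blockAll R n) := by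
  classical
  intro p q h
  set s := (p.vars ∪ q.vars).image Sigma.fst with hs
  have hm : ∀ x, x ∈ p.vars ∨ x ∈ q.vars → x.1 ∈ s := fun x hx =>
    Finset.mem_image_of_mem _ (Finset.mem_union.2 hx)
  rw [blockAll_eq_blockHom fun x hx => hm x (Or.inl hx),
    blockAll_eq_blockHom fun x hx => hm x (Or.inr hx)] at h
  exact blockHom_injective s h

/-- Permutation of one block. -/
noncomputable def blockPerm (a : ι) (σ : Equiv.Perm (Fin (n a))) : Equiv.Perm Σv :=
  (splitBlock a).trans ((Equiv.sumCongr σ (Equiv.refl _)).trans (splitBlock a).symm)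

theorem blockPerm_mk (a : ι) (σ : Equiv.Perm (Fin (n a))) (k : Fin (n a)) :
    blockPerm a σ ⟨a, k⟩ = ⟨a, σ k⟩ := by
  simp [blockPerm, splitBlock_mk, splitBlock_symm_inl]

theorem blockPerm_ne (a : ι) (σ : Equiv.Perm (Fin (n a))) {x : Σv} (hx : ¬ x.1 = a) :
    blockPerm a σ x = x := by
  simp [blockPerm, splitBlock_ne hx]
  rw [Equiv.symm_apply_eq, splitBlock_ne hx]

/-- Symmetric in the block `a`. -/
def SymAt (a : ι) (p : MvPolynomial (Σv) R) : Prop := ∀ σ, rename (blockPerm (n := n) a σ) p = p

theorem exists_blockHom_singleton_eq {a : ι} {p : MvPolynomial (Σv) R} (hp : SymAt a p) :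
    ∃ q, blockHom R n {a} q = p := by
  have hsym : (iterEquiv a p).IsSymmetric := by
    intro σ
    have : ((rename (R := MvPolynomial {x : Σv // ¬ x.1 = a} R) σ).restrictScalars R).comp (iterEquiv (R := R) a).toAlgHom =
        (iterEquiv (R := R) a).toAlgHom.comp (rename (blockPerm (n := n) a σ)) := by
      refine algHom_ext fun x => ?_
      simp only [AlgHom.comp_apply, AlgEquiv.coe_toAlgHom, AlgHom.restrictScalars_apply, rename_X]
      by_cases hx : x.1 = a
      · obtain ⟨r, k⟩ := x
        cases hx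
        rw [blockPerm_mk, iterEquiv_X_mk, iterEquiv_X_mk, rename_X]
      · rw [blockPerm_ne a σ hx, iterEquiv_X_ne hx, rename_C]
    exact (DFunLike.congr_fun this p).trans (congrArg (iterEquiv a) (hp σ))
  obtain ⟨q, hq⟩ := (esymmAlgHom_fin_bijective (MvPolynomial {x : Σv // ¬ x.1 = a} R) (n a)).2 ⟨_, hsym⟩
  refine ⟨(iterEquiv a).symm q, (iterEquiv a).injective ?_⟩
  rw [iterEquiv_blockHom, AlgEquiv.apply_symm_apply, ← esymmAlgHom_apply, hq]

theorem rename_blockPerm_blockHom {s : Finset ι} {r : ι} (hr : r ∉ s) (σ : Equiv.Perm (Fin (n r)))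
    (q : MvPolynomial (Σv) R) :
    blockHom R n s (rename (blockPerm r σ) q) = rename (blockPerm r σ) (blockHom R n s q) := by
  classical
  have : (blockHom R n s).comp (rename (blockPerm (n := n) r σ)) =
      (rename (blockPerm (n := n) r σ)).comp (blockHom R n s) := by
    refine algHom_ext fun x => ?_
    simp only [AlgHom.comp_apply, rename_X, blockHom, aeval_X]
    by_cases hx : x.1 = r
    · obtain ⟨r', k⟩ := x
      cases hx
      rw [blockPerm_mk, if_neg hr, if_neg hr, rename_X, blockPerm_mk]
    · rw [blockPerm_ne r σ hx]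
      split_ifs with hs
      · rw [blockEsymm, rename_rename]
        congr 2
        funext k
        rw [Function.comp_apply, blockPerm_ne r σ (show ¬ (⟨x.1, k⟩ : Σv).1 = r from hx)]
      · rw [rename_X, blockPerm_ne r σ hx]
  exact DFunLike.congr_fun this q

theorem exists_blockHom_eq {p : MvPolynomial (Σv) R} (hp : ∀ a, SymAt a p) (s : Finset ι) :
    ∃ q, blockHom R n s q = p ∧ ∀ r ∉ s, SymAt r q := by
  classical
  induction s using Finset.induction_on with
  | empty =>
    have : blockHom R n ∅ = AlgHom.id R _ := algHom_ext fun x => by simp [blockHom]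
    exact ⟨p, by rw [this]; rfl, fun r _ => hp r⟩
  | insert a s ha ih =>
    obtain ⟨q, hq, hqs⟩ := ih
    obtain ⟨q', hq'⟩ := exists_blockHom_singleton_eq (hqs a ha)
    refine ⟨q', by rw [blockHom_insert ha, AlgHom.comp_apply, hq', hq], fun r hr σ => ?_⟩
    rw [Finset.mem_insert, not_or] at hr
    apply blockHom_singleton_injective a
    rw [rename_blockPerm_blockHom (by simpa using hr.1), hq', hqs r hr.2 σ]

theorem exists_blockAll_eq {p : MvPolynomial (Σv) R} (hp : ∀ a, SymAt a p) :
    ∃ q, blockAll R n q = p := by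
  classical
  set s := p.vars.image Sigma.fst with hs
  obtain ⟨q, hq, -⟩ := exists_blockHom_eq hp s
  let kill : MvPolynomial (Σv) R →ₐ[R] MvPolynomial (Σv) R := aeval fun x => if x.1 ∈ s then X x else 0
  refine ⟨kill q, ?_⟩
  have h1 : (blockAll R n).comp kill = kill.comp (blockHom R n s) := by
    refine algHom_ext fun x => ?_
    simp only [AlgHom.comp_apply, kill, blockAll, blockHom, aeval_X]
    by_cases hx : x.1 ∈ s
    · rw [if_pos hx, if_pos hx, aeval_X, blockEsymm, aeval_rename,
        show ((fun y : Σv => if y.1 ∈ s then (X y : MvPolynomial (Σv) R) else 0) ∘ (@Sigma.mk ι (fun r => Fin (n r)) x.1)) =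
          fun k => X (⟨x.1, k⟩ : Σv) from funext fun k => by simp [hx]]
      exact DFunLike.congr_fun (algHom_ext fun k => by simp) _
    · rw [if_neg hx, if_neg hx, map_zero, aeval_X, if_neg hx]
  have h2 : kill p = p := by
    have := hom_congr_vars (f₁ := (kill : MvPolynomial (Σv) R →+* _)) (f₂ := RingHom.id _) (p₁ := p) (p₂ := p)
      (by ext r; simp [kill]) (fun x hx _ => by
        have : x.1 ∈ s := Finset.mem_image_of_mem Sigma.fst hx
        simp [kill, this]) rfl
    simpa using this
  rw [← AlgHom.comp_apply, h1, AlgHom.comp_apply, hq, h2]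

theorem isWeightedHomogeneous_esymm {σ : Type w} [Fintype σ] {τ : Type x} {M : Type*} [AddCommMonoid M]
    (wτ : τ → M) (f : σ → τ) (c : M) (hc : ∀ i, wτ (f i) = c) (k : ℕ) :
    IsWeightedHomogeneous wτ (rename f (esymm σ R k)) (k • c) := by
  classical
  rw [esymm, map_sum]
  refine IsWeightedHomogeneous.sum _ _ _ fun t ht => ?_
  rw [map_prod]
  have := IsWeightedHomogeneous.prod (w := wτ) t (fun i => (rename f (X i) : MvPolynomial τ R)) (fun _ => c)
    fun i _ => by rw [rename_X]; exact hc i ▸ isWeightedHomogeneous_X R wτ (f i)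
  rwa [Finset.sum_const, (Finset.mem_powersetCard.1 ht).2] at this

/-! ### Power sums -/

/-- `X ↦` Newton polynomial in the block. -/
noncomputable def blockNwt : MvPolynomial (Σv) R →ₐ[R] MvPolynomial (Σv) R :=
  aeval fun x => nwt (fun i => if i = 0 then 1 else
    if h : i - 1 < n x.1 then X ⟨x.1, ⟨i - 1, h⟩⟩ else 0) ((x.2 : ℕ) + 1)

/-- Power sums in the blocks. -/
noncomputable def blockPsum : MvPolynomial (Σv) R →ₐ[R] MvPolynomial (Σv) R :=
  aeval fun x => ∑ a : Fin (n x.1), (X ⟨x.1, a⟩) ^ ((x.2 : ℕ) + 1)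

theorem esymm_rename_eq (r : ι) (k : ℕ) :
    rename (Sigma.mk r) (esymm (Fin (n r)) R k) =
      ((Finset.univ : Finset (Fin (n r))).val.map fun a => (X ⟨r, a⟩ : MvPolynomial (Σv) R)).esymm k := by
  rw [Finset.esymm_map_val, esymm, map_sum]
  simp

theorem blockPsum_eq : (blockPsum : MvPolynomial (Σv) R →ₐ[R] _) = (blockAll R n).comp blockNwt := by
  refine algHom_ext fun x => ?_
  simp only [AlgHom.comp_apply, blockPsum, blockNwt, aeval_X]
  change _ = (blockAll R n).toRingHom _
  rw [map_nwt _ (by simp) (Nat.succ_pos _)]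
  refine ((isExp_esymm Finset.univ fun a => (X ⟨x.1, a⟩ : MvPolynomial (Σv) R)).congr (fun _ _ => rfl)
    fun i => ?_).eq_nwt (Nat.succ_pos _)
  rw [← esymm_rename_eq]
  by_cases hi : i = 0
  · subst hi; simp
  rw [if_neg hi]
  split_ifs with h
  · simp [blockAll, blockEsymm, Nat.sub_add_cancel (Nat.pos_of_ne_zero hi)]
  · rw [map_zero, esymm, Finset.powersetCard_eq_empty.2 (by simp; omega)]; simp

theorem blockPsum_injective [Algebra ℚ R] : Function.Injective (blockPsum : MvPolynomial (Σv) R →ₐ[R] _) := by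
  rw [blockPsum_eq, AlgHom.coe_comp]
  refine blockAll_injective.comp ?_
  let bE : MvPolynomial (Σv) R →ₐ[R] MvPolynomial (Σv) R := aeval fun x =>
    eFun (fun i => if h : i - 1 < n x.1 then X ⟨x.1, ⟨i - 1, h⟩⟩ else 0) ((x.2 : ℕ) + 1)
  have : bE.comp blockNwt = AlgHom.id R (MvPolynomial (Σv) R) := by
    refine algHom_ext fun x => ?_
    simp only [AlgHom.comp_apply, blockNwt, aeval_X, AlgHom.id_apply]
    change bE.toRingHom _ = _
    rw [map_nwt _ (by simp) (Nat.succ_pos _)]
    set p : ℕ → MvPolynomial (Σv) R := fun i => if h : i - 1 < n x.1 then X ⟨x.1, ⟨i - 1, h⟩⟩ else 0 with hp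
    rw [nwt_congr (e' := eFun p) (by simp) (eFun_zero p) _ (fun i hi => ?_), nwt_eFun p (Nat.succ_pos _)]
    · simp [hp]
    · by_cases h0 : i = 0
      · subst h0; simp [eFun_zero]
      · rw [if_neg h0, dif_pos (show i - 1 < n x.1 by omega)]
        simp [bE, hp, Nat.sub_add_cancel (Nat.pos_of_ne_zero h0)]
  exact Function.LeftInverse.injective (g := bE) fun p => DFunLike.congr_fun this p

end Groth.MilnorKLambda.Lam
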