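import Groth.Agent.MilnorKLambda.LamModel

/-!
# The weight filtration of `K[Y_{r,k}]` and graded families of ideals
-/

set_option autoImplicit false
universe u v w x

open Finset MvPolynomial LambdaRing

namespace Groth.MilnorKLambda.Lam

/-- A decreasing multiplicative family of ideals starting at the whole ring. -/
structure GradedFam {A : Type u} [CommRing A] (F : ℕ → Ideal A) : Prop where
  zero : F 0 = ⊤
  antitone : Antitone F
  mul : ∀ {a b : ℕ} {x y : A}, x ∈ F a → y ∈ F b → x * y ∈ F (a + b)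

namespace GradedFam

variable {A : Type u} [CommRing A] {F : ℕ → Ideal A}

theorem one_mem (hF : GradedFam F) : (1 : A) ∈ F 0 := by rw [hF.zero]; trivial

theorem pow (hF : GradedFam F) {a : ℕ} {x : A} (hx : x ∈ F a) : ∀ e : ℕ, x ^ e ∈ F (e * a)
  | 0 => by simpa using hF.one_mem
  | e + 1 => by rw [pow_succ, Nat.succ_mul]; exact hF.mul (hF.pow hx e) hx

theorem prod (hF : GradedFam F) {σ : Type v} (s : Finset σ) (f : σ → A) (a : σ → ℕ)
    (h : ∀ i ∈ s, f i ∈ F (a i)) : ∏ i ∈ s, f i ∈ F (∑ i ∈ s, a i) := by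
  classical
  induction s using Finset.induction_on with
  | empty => simpa using hF.one_mem
  | insert i s hi ih =>
    rw [Finset.prod_insert hi, Finset.sum_insert hi]
    exact hF.mul (h i (Finset.mem_insert_self _ _)) (ih fun j hj => h j (Finset.mem_insert_of_mem hj))

theorem list_prod (hF : GradedFam F) {σ : Type v} (f : σ → A) (a : σ → ℕ) :
    ∀ l : List σ, (∀ i ∈ l, f i ∈ F (a i)) → (l.map f).prod ∈ F (l.map a).sum
  | [], _ => by simpa using hF.one_mem
  | i :: l, h => by
    simp only [List.map_cons, List.prod_cons, List.sum_cons]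
    exact hF.mul (h i List.mem_cons_self) (hF.list_prod f a l fun j hj => h j (List.mem_cons_of_mem _ hj))

end GradedFam

theorem gradedFam_pow {A : Type u} [CommRing A] (J : Ideal A) : GradedFam fun n => J ^ n :=
  ⟨by simp, fun _ _ h => Ideal.pow_le_pow_right h, fun hx hy => by rw [pow_add]; exact Ideal.mul_mem_mul hx hy⟩

section Weight

variable (K : Type u) [CommRing K] (ι : Type v)

/-- The weight of `Y_{r,k}` is `k + 1`. -/
def wU : ι × ℕ → ℕ := fun x => x.2 + 1

/-- The weight filtration. -/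
noncomputable def filU (m : ℕ) : Ideal (MvPolynomial (ι × ℕ) K) :=
  Ideal.span ((fun d => monomial d (1 : K)) '' {d | m ≤ Finsupp.weight (wU ι) d})

variable {K ι}

theorem weight_wU_mono {d e : ι × ℕ →₀ ℕ} (h : d ≤ e) : Finsupp.weight (wU ι) d ≤ Finsupp.weight (wU ι) e := by
  obtain ⟨c, rfl⟩ := exists_add_of_le h
  rw [map_add]; exact Nat.le_add_right _ _

theorem mem_filU {m : ℕ} {p : MvPolynomial (ι × ℕ) K} :
    p ∈ filU K ι m ↔ ∀ d ∈ p.support, m ≤ Finsupp.weight (wU ι) d := by
  rw [filU, mem_ideal_span_monomial_image]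
  exact ⟨fun h d hd => let ⟨e, he, hle⟩ := h d hd; he.trans (weight_wU_mono hle),
    fun h d hd => ⟨d, h d hd, le_rfl⟩⟩

theorem gradedFam_filU : GradedFam (filU K ι) := by
  refine ⟨Ideal.eq_top_iff_one _ |>.2 (mem_filU.2 fun _ _ => Nat.zero_le _),
    fun a b hab => Ideal.span_mono (Set.image_mono fun d hd => le_trans hab hd), fun {a b p q} hp hq => ?_⟩
  classical
  refine mem_filU.2 fun d hd => ?_
  obtain ⟨d1, h1, d2, h2, rfl⟩ := Finset.mem_add.1 (support_mul p q hd)
  rw [map_add]
  exact add_le_add (mem_filU.1 hp d1 h1) (mem_filU.1 hq d2 h2)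

theorem map_mem_of_mem_filU {A : Type w} [CommRing A] {F : ℕ → Ideal A} (hF : GradedFam F)
    (φ : MvPolynomial (ι × ℕ) K →+* A) (h : ∀ r k, φ (X (r, k)) ∈ F (k + 1)) {m : ℕ}
    {p : MvPolynomial (ι × ℕ) K} (hp : p ∈ filU K ι m) : φ p ∈ F m := by
  have hle : filU K ι m ≤ (F m).comap φ := by
    refine Ideal.span_le.2 ?_
    rintro _ ⟨d, hd, rfl⟩
    simp only [SetLike.mem_coe, Ideal.mem_comap]
    rw [monomial_eq, map_one, one_mul, Finsupp.prod, map_prod]
    refine hF.antitone hd ?_
    rw [Finsupp.weight_apply, Finsupp.sum]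
    refine hF.prod _ _ _ fun i _ => ?_
    rw [map_pow, smul_eq_mul]
    exact hF.pow (h i.1 i.2) _
  exact hle hp

variable {R : Type w} [CommRing R] (f : K →+* R)

/-- The splitting map: `Y_{r,k}` goes to `e_{k+1}` of the `r`th block. -/
noncomputable def theta (n : ι → ℕ) : MvPolynomial (ι × ℕ) K →+* MvPolynomial (Σ r : ι, Fin (n r)) R :=
  eval₂Hom ((C : R →+* _).comp f) fun x => rename (Sigma.mk x.1) (esymm (Fin (n x.1)) R (x.2 + 1))

@[simp] theorem theta_C (n : ι → ℕ) (a : K) : theta f n (C a) = C (f a) := by simp [theta]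

@[simp] theorem theta_X (n : ι → ℕ) (x : ι × ℕ) :
    theta f n (X x) = rename (Sigma.mk x.1) (esymm (Fin (n x.1)) R (x.2 + 1)) := by simp [theta]

theorem theta_X_eq_zero {n : ι → ℕ} {r : ι} {k : ℕ} (h : n r ≤ k) :
    theta f n (X (r, k)) = 0 := by
  simp only [theta_X]
  rw [esymm, Finset.powersetCard_eq_empty.2 (by simp; omega), Finset.sum_empty, map_zero]

/-- Variables in bound. -/
def emb (n : ι → ℕ) : (Σ r : ι, Fin (n r)) → ι × ℕ := fun x => (x.1, x.2)

theorem emb_injective (n : ι → ℕ) : Function.Injective (emb (ι := ι) n) := by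
  rintro ⟨r, k⟩ ⟨r', k'⟩ h
  simp only [emb, Prod.mk.injEq] at h
  obtain ⟨rfl, h⟩ := h
  rw [Fin.ext h]

theorem theta_rename (n : ι → ℕ) (p : MvPolynomial (Σ r : ι, Fin (n r)) K) :
    theta f n (rename (emb n) p) = blockAll R n (map f p) := by
  have : (theta f n).comp (rename (emb n)).toRingHom = (blockAll R n).toRingHom.comp (map f) := by
    refine MvPolynomial.ringHom_ext (fun a => ?_) fun x => ?_ <;>
      simp [blockAll, blockEsymm, emb]
  exact DFunLike.congr_fun this p

theorem exists_rename_emb {n : ι → ℕ} {p : MvPolynomial (ι × ℕ) K} (hp : ∀ x ∈ p.vars, x.2 < n x.1) :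
    ∃ q, rename (emb n) q = p :=
  exists_rename_eq_of_vars_subset_range p _ (emb_injective n) fun x hx => ⟨⟨x.1, ⟨x.2, hp x hx⟩⟩, rfl⟩

theorem mem_filU_of_theta (hf : Function.Injective f) {n : ι → ℕ} {p : MvPolynomial (ι × ℕ) K}
    (hp : ∀ x ∈ p.vars, x.2 < n x.1) {m : ℕ} (h : theta f n p ∈ idealOfVars _ R ^ m) : p ∈ filU K ι m := by
  classical
  obtain ⟨q, rfl⟩ := exists_rename_emb hp
  rw [theta_rename] at h
  refine mem_filU.2 fun d hd => ?_
  rw [support_rename_of_injective (emb_injective n), Finset.mem_image] at hd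
  obtain ⟨d, hd, rfl⟩ := hd
  rw [← support_map_of_injective q hf] at hd
  set wσ : (Σ r : ι, Fin (n r)) → ℕ := fun x => (x.2 : ℕ) + 1
  have hw : Finsupp.weight (wU ι) (Finsupp.mapDomain (emb n) d) = Finsupp.weight wσ d := by
    simp only [Finsupp.weight_apply]
    rw [Finsupp.sum_mapDomain_index (by simp) (by intros; simp [add_mul])]
    rfl
  rw [hw]
  by_contra hlt
  have hz : weightedHomogeneousComponent (fun _ => 1) (Finsupp.weight wσ d) (blockAll R n (map f q)) = 0 := by
    ext e
    rw [coeff_weightedHomogeneousComponent, coeff_zero]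
    split_ifs with he
    · refine (mem_pow_idealOfVars_iff' m _).1 h e ?_
      have : Finsupp.degree e = Finsupp.weight (fun _ => 1) e := by rw [Finsupp.degree_eq_weight_one]
      omega
    · rfl
  rw [blockAll, component_aeval (wσ := wσ) fun x => ?_] at hz
  · have hz' := blockAll_injective (n := n) (hz.trans (map_zero (blockAll R n)).symm)
    have := congrArg (coeff d) hz'
    rw [coeff_weightedHomogeneousComponent, if_pos rfl, coeff_zero] at this
    exact mem_support_iff.1 hd this
  · have := isWeightedHomogeneous_esymm (R := R) (fun _ : (Σ r : ι, Fin (n r)) => (1 : ℕ))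
      (Sigma.mk x.1) 1 (fun _ => rfl) ((x.2 : ℕ) + 1)
    rw [smul_eq_mul, mul_one] at this
    exact this

theorem eq_zero_of_theta (hf : Function.Injective f) {n : ι → ℕ} {p : MvPolynomial (ι × ℕ) K}
    (hp : ∀ x ∈ p.vars, x.2 < n x.1) (h : theta f n p = 0) : p = 0 := by
  obtain ⟨q, rfl⟩ := exists_rename_emb hp
  rw [theta_rename] at h
  have := blockAll_injective (n := n) (h.trans (map_zero (blockAll R n)).symm)
  rw [map_injective f hf (this.trans (map_zero (map f)).symm), map_zero]

end Weight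

end Groth.MilnorKLambda.Lam
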