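import Groth.Prelude.Def_CycAlg
import Groth.Agent.MilnorKLambda.RelLen

/-!
# Periodic complexes: additivity of the Herbrand quotient
-/

set_option autoImplicit false
universe u v

open CycAlg LinearMap Submodule

namespace Groth.MilnorKLambda.Per

variable {R : Type u} [CommRing R]

theorem perH_length {M N : Type v} [AddCommGroup M] [Module R M] [AddCommGroup N] [Module R N]
    (φ : M →ₗ[R] N) (ψ : N →ₗ[R] M) :
    Module.length R (perH φ ψ) = rl (LinearMap.ker φ) (LinearMap.range ψ) := rfl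

theorem periodic_le {M N : Type v} [AddCommGroup M] [Module R M] [AddCommGroup N] [Module R N]
    {φ : M →ₗ[R] N} {ψ : N →ₗ[R] M} (h : φ ∘ₗ ψ = 0) : LinearMap.range ψ ≤ LinearMap.ker φ :=
  LinearMap.range_le_ker_iff.2 h

theorem finCoh_of_finite {M N : Type v} [AddCommGroup M] [Module R M] [AddCommGroup N] [Module R N]
    {φ : M →ₗ[R] N} {ψ : N →ₗ[R] M} (h : IsPeriodic φ ψ) (hM : Module.length R M < ⊤)
    (hN : Module.length R N < ⊤) :
    FinCoh R φ ψ ∧ herbrand R φ ψ = ((Module.length R M).toNat : ℤ) - ((Module.length R N).toNat : ℤ) := by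
  have hsub : ∀ {L : Type v} [AddCommGroup L] [Module R L], Module.length R L < ⊤ →
      ∀ P : Submodule R L, Module.length R P ≠ ⊤ := fun hL P =>
    ne_top_of_le_ne_top hL.ne (Module.length_le_of_injective P.subtype P.injective_subtype)
  have key : ∀ {A B : Type v} [AddCommGroup A] [Module R A] [AddCommGroup B] [Module R B]
      (f : A →ₗ[R] B) (g : B →ₗ[R] A), f ∘ₗ g = 0 → Module.length R A < ⊤ →
      rl (LinearMap.ker f) (LinearMap.range g) ≠ ⊤ ∧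
        ((Module.length R A).toNat : ℤ) = (rl (LinearMap.ker f) (LinearMap.range g)).toNat +
          (Module.length R (LinearMap.range g)).toNat + (Module.length R (LinearMap.range f)).toNat ∧
        ((Module.length R A).toNat : ℤ) = (Module.length R (LinearMap.ker f)).toNat +
          (Module.length R (LinearMap.range f)).toNat := by
    intro A B _ _ _ _ f g hfg hA
    have e1 : Module.length R (LinearMap.ker f) =
        Module.length R (LinearMap.range g) + rl (LinearMap.ker f) (LinearMap.range g) := by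
      rw [← rl_bot, ← rl_bot, rl_add bot_le (periodic_le hfg)]
    have e2 : Module.length R A = Module.length R (LinearMap.ker f) + Module.length R (LinearMap.range f) := by
      rw [length_submodule_add (LinearMap.ker f), f.quotKerEquivRange.length_eq]
    have hk := hsub hA (LinearMap.ker f)
    have hr : Module.length R (LinearMap.range f) ≠ ⊤ := fun hh => hA.ne (by rw [e2, hh, add_top])
    rw [e1, add_ne_top_iff'] at hk
    refine ⟨hk.2, ?_, ?_⟩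
    · rw [e2, toNat_add_int (hsub hA _) hr, e1, toNat_add_int hk.1 hk.2]; ring
    · rw [e2, toNat_add_int (hsub hA _) hr]
  obtain ⟨f1, a1, -⟩ := key φ ψ h.1 hM
  obtain ⟨f2, a2, -⟩ := key ψ φ h.2 hN
  refine ⟨⟨f1.lt_top, f2.lt_top⟩, ?_⟩
  rw [herbrand, perH_length, perH_length]
  linarith

section SES

variable {M₁ N₁ M₂ N₂ M₃ N₃ : Type v} [AddCommGroup M₁] [Module R M₁] [AddCommGroup N₁] [Module R N₁]
  [AddCommGroup M₂] [Module R M₂] [AddCommGroup N₂] [Module R N₂] [AddCommGroup M₃] [Module R M₃]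
  [AddCommGroup N₃] [Module R N₃]
  {φ₁ : M₁ →ₗ[R] N₁} {ψ₁ : N₁ →ₗ[R] M₁} {φ₂ : M₂ →ₗ[R] N₂} {ψ₂ : N₂ →ₗ[R] M₂}
  {φ₃ : M₃ →ₗ[R] N₃} {ψ₃ : N₃ →ₗ[R] M₃}
  {f₁ : M₁ →ₗ[R] M₂} {g₁ : N₁ →ₗ[R] N₂} {f₂ : M₂ →ₗ[R] M₃} {g₂ : N₂ →ₗ[R] N₃}

/-- The cokernel of `H⁰₂ → H⁰₃`, i.e. the kernel of `H¹₁ → H¹₂`. -/
noncomputable def connLen (φ₂ : M₂ →ₗ[R] N₂) (f₁ : M₁ →ₗ[R] M₂) (g₁ : N₁ →ₗ[R] N₂) : ℕ∞ :=
  rl ((LinearMap.range g₁).comap φ₂) (LinearMap.ker φ₂ ⊔ LinearMap.range f₁)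

theorem ses_half (h₁ : φ₁ ∘ₗ ψ₁ = 0) (h₂ : φ₂ ∘ₗ ψ₂ = 0)
    (cφ₁ : φ₂ ∘ₗ f₁ = g₁ ∘ₗ φ₁) (cψ₁ : ψ₂ ∘ₗ g₁ = f₁ ∘ₗ ψ₁) (cφ₂ : φ₃ ∘ₗ f₂ = g₂ ∘ₗ φ₂)
    (cψ₂ : ψ₃ ∘ₗ g₂ = f₂ ∘ₗ ψ₂) (hf₁ : Function.Injective f₁) (hg₁ : Function.Injective g₁)
    (hf₂ : Function.Surjective f₂) (hg₂ : Function.Surjective g₂)
    (hM : LinearMap.range f₁ = LinearMap.ker f₂) (hN : LinearMap.range g₁ = LinearMap.ker g₂) :
    ∃ a b : ℕ∞, Module.length R (perH φ₁ ψ₁) = connLen ψ₂ g₁ f₁ + a ∧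
      Module.length R (perH φ₂ ψ₂) = a + b ∧
      Module.length R (perH φ₃ ψ₃) = b + connLen φ₂ f₁ g₁ := by
  set F := LinearMap.range f₁
  set G := LinearMap.range g₁
  set K := LinearMap.ker φ₂
  set I := LinearMap.range ψ₂
  have hIK : I ≤ K := periodic_le h₂
  refine ⟨rl (F ⊓ K ⊔ I) I, rl K (I ⊔ F ⊓ K), ?_, ?_, ?_⟩
  · have hk : (LinearMap.ker φ₁).map f₁ = F ⊓ K := by
      ext y
      constructor
      · rintro ⟨x, hx, rfl⟩
        refine ⟨⟨x, rfl⟩, ?_⟩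
        rw [SetLike.mem_coe, LinearMap.mem_ker, ← LinearMap.comp_apply, cφ₁, LinearMap.comp_apply,
          LinearMap.mem_ker.1 hx, map_zero]
      · rintro ⟨⟨x, rfl⟩, hy⟩
        refine ⟨x, hg₁ ?_, rfl⟩
        rw [map_zero, ← LinearMap.comp_apply, ← cφ₁]
        exact hy
    have hi : (LinearMap.range ψ₁).map f₁ = G.map ψ₂ := by
      rw [← LinearMap.range_comp, ← cψ₁, LinearMap.range_comp]
    rw [perH_length, ← rl_map_of_injective f₁ hf₁ (periodic_le h₁), hk, hi]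
    have hGF : G.map ψ₂ ≤ F ⊓ I := by
      refine le_inf ?_ (LinearMap.map_le_range)
      rw [← hi]; exact LinearMap.map_le_range
    rw [rl_add hGF (inf_le_inf_left F hIK)]
    congr 1
    · rw [show connLen ψ₂ g₁ f₁ = rl (F.comap ψ₂) (LinearMap.ker ψ₂ ⊔ G) from rfl]
      have hle : LinearMap.ker ψ₂ ⊔ G ≤ F.comap ψ₂ := sup_le (fun x hx => by simp [LinearMap.mem_ker.1 hx])
        (Submodule.map_le_iff_le_comap.1 (hGF.trans inf_le_left))
      have := rl_map ψ₂ hle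
      rw [Submodule.map_comap_eq, Submodule.map_sup, (LinearMap.le_ker_iff_map).1 le_rfl, bot_sup_eq,
        sup_eq_left.2 (le_sup_of_le_left inf_le_left), inf_comm] at this
      exact this
    · rw [rl_sup, ← rl_inf _ I, show F ⊓ K ⊓ I = F ⊓ I by rw [inf_assoc, inf_eq_right.2 hIK]]
  · rw [perH_length]
    rw [rl_add (le_sup_right : I ≤ F ⊓ K ⊔ I) (sup_le inf_le_right hIK), sup_comm (F ⊓ K)]
  · have hT : (LinearMap.ker φ₃).comap f₂ = G.comap φ₂ := by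
      rw [← LinearMap.ker_comp, cφ₂, LinearMap.ker_comp, hN]
    have hk : (G.comap φ₂).map f₂ = LinearMap.ker φ₃ := by
      rw [← hT, Submodule.map_comap_eq_of_surjective hf₂]
    have hi : I.map f₂ = LinearMap.range ψ₃ := by
      rw [← LinearMap.range_comp, ← cψ₂, LinearMap.range_comp, LinearMap.range_eq_top.2 hg₂, Submodule.map_top]
    have hIT : I ≤ G.comap φ₂ := hIK.trans fun x hx => by simp [LinearMap.mem_ker.1 hx]
    have hFT : F ≤ G.comap φ₂ := by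
      rintro _ ⟨x, rfl⟩
      exact ⟨φ₁ x, (DFunLike.congr_fun cφ₁ x).symm⟩
    have hKT : K ≤ G.comap φ₂ := fun x hx => by simp [LinearMap.mem_ker.1 hx]
    rw [perH_length, ← hk, ← hi, rl_map f₂ hIT, ← hM, inf_eq_left.2 hFT,
      rl_add (sup_le_sup_right hIK F) (sup_le hKT hFT)]
    congr 1
    rw [show K ⊔ F = K ⊔ (I ⊔ F) by rw [← sup_assoc, sup_eq_left.2 hIK], rl_sup, ← rl_inf, inf_comm,
      ← sup_inf_assoc_of_le F hIK]

theorem ses_additive (h₁ : IsPeriodic φ₁ ψ₁) (h₂ : IsPeriodic φ₂ ψ₂)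
    (cφ₁ : φ₂ ∘ₗ f₁ = g₁ ∘ₗ φ₁) (cψ₁ : ψ₂ ∘ₗ g₁ = f₁ ∘ₗ ψ₁) (cφ₂ : φ₃ ∘ₗ f₂ = g₂ ∘ₗ φ₂)
    (cψ₂ : ψ₃ ∘ₗ g₂ = f₂ ∘ₗ ψ₂) (hf₁ : Function.Injective f₁) (hg₁ : Function.Injective g₁)
    (hf₂ : Function.Surjective f₂) (hg₂ : Function.Surjective g₂)
    (hM : LinearMap.range f₁ = LinearMap.ker f₂) (hN : LinearMap.range g₁ = LinearMap.ker g₂)
    (htwo : (FinCoh R φ₁ ψ₁ ∧ FinCoh R φ₂ ψ₂) ∨ (FinCoh R φ₁ ψ₁ ∧ FinCoh R φ₃ ψ₃) ∨
      (FinCoh R φ₂ ψ₂ ∧ FinCoh R φ₃ ψ₃)) :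
    FinCoh R φ₁ ψ₁ ∧ FinCoh R φ₂ ψ₂ ∧ FinCoh R φ₃ ψ₃ ∧
      herbrand R φ₂ ψ₂ = herbrand R φ₁ ψ₁ + herbrand R φ₃ ψ₃ := by
  obtain ⟨a, b, e1, e2, e3⟩ := ses_half h₁.1 h₂.1 cφ₁ cψ₁ cφ₂ cψ₂ hf₁ hg₁ hf₂ hg₂ hM hN
  obtain ⟨c, d, e4, e5, e6⟩ := ses_half h₁.2 h₂.2 cψ₁ cφ₁ cψ₂ cφ₂ hg₁ hf₁ hg₂ hf₂ hN hM
  set k := connLen φ₂ f₁ g₁
  set k' := connLen ψ₂ g₁ f₁
  have hfin : a ≠ ⊤ ∧ b ≠ ⊤ ∧ c ≠ ⊤ ∧ d ≠ ⊤ ∧ k ≠ ⊤ ∧ k' ≠ ⊤ := by
    simp only [FinCoh, e1, e2, e3, e4, e5, e6, lt_top_iff_ne_top, ne_eq, ENat.add_eq_top, not_or] at htwo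
    rcases htwo with h | h | h <;> exact ⟨by tauto, by tauto, by tauto, by tauto, by tauto, by tauto⟩
  obtain ⟨ha, hb, hc, hd, hk, hk'⟩ := hfin
  refine ⟨?_, ?_, ?_, ?_⟩ <;> try simp [FinCoh, e1, e2, e3, e4, e5, e6, lt_top_iff_ne_top, *]
  simp only [herbrand, e1, e2, e3, e4, e5, e6, toNat_add_int, ne_eq, not_false_eq_true, ha, hb, hc, hd, hk, hk']
  ring

end SES

theorem herbrand_eq_of_finite_ker_coker {M M' : Type v} [AddCommGroup M] [Module R M] [AddCommGroup M']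
    [Module R M'] {φ ψ : M →ₗ[R] M} {φ' ψ' : M' →ₗ[R] M'} (h : IsPeriodic φ ψ) (h' : IsPeriodic φ' ψ')
    (f : M →ₗ[R] M') (cφ : φ' ∘ₗ f = f ∘ₗ φ) (cψ : ψ' ∘ₗ f = f ∘ₗ ψ)
    (hker : Module.length R (LinearMap.ker f) < ⊤) (hcoker : Module.length R (M' ⧸ LinearMap.range f) < ⊤)
    (hfin : FinCoh R φ ψ) : FinCoh R φ' ψ' ∧ herbrand R φ ψ = herbrand R φ' ψ' := by
  set K := LinearMap.ker f
  set I := LinearMap.range f
  have hK : ∀ (α : M →ₗ[R] M) (α' : M' →ₗ[R] M'), α' ∘ₗ f = f ∘ₗ α → ∀ x ∈ K, α x ∈ K := fun α α' c x hx => by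
    rw [LinearMap.mem_ker] at hx ⊢
    rw [← LinearMap.comp_apply, ← c, LinearMap.comp_apply, hx, map_zero]
  have hI : ∀ (α : M →ₗ[R] M) (α' : M' →ₗ[R] M'), α' ∘ₗ f = f ∘ₗ α → ∀ x ∈ I, α' x ∈ I := by
    rintro α α' c _ ⟨x, rfl⟩
    exact ⟨α x, (DFunLike.congr_fun c x).symm⟩
  let φK := φ.restrict (hK φ φ' cφ)
  let ψK := ψ.restrict (hK ψ ψ' cψ)
  let φI := φ'.restrict (hI φ φ' cφ)
  let ψI := ψ'.restrict (hI ψ ψ' cψ)
  let φQ := I.mapQ I φ' (fun x hx => hI φ φ' cφ x hx)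
  let ψQ := I.mapQ I ψ' (fun x hx => hI ψ ψ' cψ x hx)
  have pK : IsPeriodic φK ψK :=
    ⟨LinearMap.ext fun x => Subtype.ext (DFunLike.congr_fun h.1 x.1),
      LinearMap.ext fun x => Subtype.ext (DFunLike.congr_fun h.2 x.1)⟩
  have pI : IsPeriodic φI ψI :=
    ⟨LinearMap.ext fun x => Subtype.ext (DFunLike.congr_fun h'.1 x.1),
      LinearMap.ext fun x => Subtype.ext (DFunLike.congr_fun h'.2 x.1)⟩
  have pQ : IsPeriodic φQ ψQ := by
    refine ⟨Submodule.linearMap_qext _ (LinearMap.ext fun x => ?_), Submodule.linearMap_qext _ (LinearMap.ext fun x => ?_)⟩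
    · simpa [φQ, ψQ] using congrArg (Submodule.Quotient.mk (p := I)) (DFunLike.congr_fun h'.1 x)
    · simpa [φQ, ψQ] using congrArg (Submodule.Quotient.mk (p := I)) (DFunLike.congr_fun h'.2 x)
  obtain ⟨fK, eK⟩ := finCoh_of_finite pK hker hker
  obtain ⟨fQ, eQ⟩ := finCoh_of_finite pQ hcoker hcoker
  rw [sub_self] at eK eQ
  obtain ⟨-, -, fI, e1⟩ := ses_additive pK h (f₁ := K.subtype) (g₁ := K.subtype) (f₂ := f.rangeRestrict)
    (g₂ := f.rangeRestrict) (φ₃ := φI) (ψ₃ := ψI) rfl rfl (LinearMap.ext fun x => Subtype.ext (DFunLike.congr_fun cφ x))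
    (LinearMap.ext fun x => Subtype.ext (DFunLike.congr_fun cψ x)) K.injective_subtype K.injective_subtype
    f.surjective_rangeRestrict f.surjective_rangeRestrict (by rw [Submodule.range_subtype, LinearMap.ker_rangeRestrict])
    (by rw [Submodule.range_subtype, LinearMap.ker_rangeRestrict]) (Or.inl ⟨fK, hfin⟩)
  obtain ⟨-, f', -, e2⟩ := ses_additive pI h' (f₁ := I.subtype) (g₁ := I.subtype) (f₂ := I.mkQ) (g₂ := I.mkQ)
    (φ₃ := φQ) (ψ₃ := ψQ) rfl rfl (LinearMap.ext fun x => rfl) (LinearMap.ext fun x => rfl)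
    I.injective_subtype I.injective_subtype I.mkQ_surjective I.mkQ_surjective
    (by rw [Submodule.range_subtype, Submodule.ker_mkQ]) (by rw [Submodule.range_subtype, Submodule.ker_mkQ])
    (Or.inr (Or.inl ⟨fI, fQ⟩))
  exact ⟨f', by linarith⟩

section Nilpotent

variable {M : Type v} [AddCommGroup M] [Module R M] (φ : M →ₗ[R] M)

theorem map_pow_ker (a b : ℕ) :
    (LinearMap.ker (φ ^ (a + b))).map (φ ^ a) = LinearMap.ker (φ ^ b) ⊓ LinearMap.range (φ ^ a) := by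
  rw [show LinearMap.ker (φ ^ (a + b)) = (LinearMap.ker (φ ^ b)).comap (φ ^ a) by
    rw [← LinearMap.ker_comp, add_comm a b, pow_add]; rfl, Submodule.map_comap_eq, inf_comm]

theorem map_pow_range (a b : ℕ) : (LinearMap.range (φ ^ b)).map (φ ^ a) = LinearMap.range (φ ^ (a + b)) := by
  rw [← LinearMap.range_comp, pow_add]; rfl

theorem ker_pow_mono {a b : ℕ} (h : a ≤ b) : LinearMap.ker (φ ^ a) ≤ LinearMap.ker (φ ^ b) := by
  rw [show φ ^ b = (φ ^ (b - a)) ∘ₗ (φ ^ a) by rw [← Module.End.mul_eq_comp, ← pow_add, Nat.sub_add_cancel h]]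
  exact LinearMap.ker_le_ker_comp _ _

theorem range_pow_anti {a b : ℕ} (h : a ≤ b) : LinearMap.range (φ ^ b) ≤ LinearMap.range (φ ^ a) := by
  rw [show φ ^ b = (φ ^ a) ∘ₗ (φ ^ (b - a)) by rw [← Module.End.mul_eq_comp, ← pow_add, Nat.add_sub_cancel' h]]
  exact LinearMap.range_comp_le_range _ _

variable {φ} {n : ℕ} (hφ : φ ^ n = 0)
include hφ

theorem range_pow_le_ker {a b : ℕ} (h : n ≤ a + b) : LinearMap.range (φ ^ a) ≤ LinearMap.ker (φ ^ b) := by
  refine periodic_le ?_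
  rw [← Module.End.mul_eq_comp, ← pow_add, show b + a = n + (b + a - n) by omega, pow_add, hφ, zero_mul]

/-- The two ways of computing the graded pieces agree. -/
theorem upper_eq_lower (j : ℕ) (hj : j + 1 ≤ n) :
    rl (LinearMap.ker (φ ^ (n - 1))) (LinearMap.range (φ ^ 1) ⊔ LinearMap.ker (φ ^ j)) =
      rl (LinearMap.ker (φ ^ 1) ⊓ LinearMap.range (φ ^ j)) (LinearMap.range (φ ^ (n - 1))) := by
  generalize hk : n - 1 - j = k
  induction k generalizing j with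
  | zero =>
    obtain rfl : j = n - 1 := by omega
    rw [rl_eq_zero le_sup_right, rl_eq_zero inf_le_right]
  | succ k ih =>
    set U := LinearMap.ker (φ ^ (j + 1)) ⊓ (LinearMap.range (φ ^ 1) ⊔ LinearMap.ker (φ ^ j)) with hU
    have hker : LinearMap.ker (φ ^ j) ≤ LinearMap.ker (φ ^ (j + 1)) := ker_pow_mono φ (Nat.le_succ j)
    have d1 : rl (LinearMap.range (φ ^ 1) ⊔ LinearMap.ker (φ ^ (j + 1)))
        (LinearMap.range (φ ^ 1) ⊔ LinearMap.ker (φ ^ j)) = rl (LinearMap.ker (φ ^ (j + 1))) U := by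
      rw [show LinearMap.range (φ ^ 1) ⊔ LinearMap.ker (φ ^ (j + 1)) =
          LinearMap.ker (φ ^ (j + 1)) ⊔ (LinearMap.range (φ ^ 1) ⊔ LinearMap.ker (φ ^ j)) by
        rw [sup_comm _ (LinearMap.ker (φ ^ j)), ← sup_assoc, sup_eq_left.2 hker, sup_comm], rl_sup, hU, rl_inf]
    have hmapU : U.map (φ ^ j) = LinearMap.ker (φ ^ 1) ⊓ LinearMap.range (φ ^ (j + 1)) := by
      refine le_antisymm (le_inf ?_ ?_) ?_
      · exact (Submodule.map_mono inf_le_left).trans (by rw [map_pow_ker]; exact inf_le_left)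
      · refine (Submodule.map_mono inf_le_right).trans ?_
        rw [Submodule.map_sup, map_pow_range, (LinearMap.le_ker_iff_map).1 le_rfl, sup_bot_eq]
      · rintro y ⟨hy1, hy2⟩
        rw [SetLike.mem_coe, ← map_pow_range] at hy2
        obtain ⟨z, hz, rfl⟩ := hy2
        refine ⟨z, ⟨?_, Submodule.mem_sup_left hz⟩, rfl⟩
        rw [SetLike.mem_coe, LinearMap.mem_ker] at hy1 ⊢
        rwa [add_comm, pow_add]
    have d2 : rl (LinearMap.ker (φ ^ 1) ⊓ LinearMap.range (φ ^ j))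
        (LinearMap.ker (φ ^ 1) ⊓ LinearMap.range (φ ^ (j + 1))) = rl (LinearMap.ker (φ ^ (j + 1))) U := by
      rw [← map_pow_ker, ← hmapU, rl_map _ inf_le_left, sup_eq_left.2]
      exact le_inf inf_le_right (inf_le_left.trans le_sup_right)
    rw [rl_add (sup_le_sup_left hker _) (sup_le (range_pow_le_ker hφ (by omega)) (ker_pow_mono φ (by omega))), d1,
      rl_add (le_inf (range_pow_le_ker hφ (by omega)) (range_pow_anti φ (by omega)))
        (inf_le_inf_left _ (range_pow_anti φ (Nat.le_succ j))), d2, ih (j + 1) (by omega) (by omega), add_comm]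

theorem nilpotent_step (i : ℕ) (hi : i + 1 ≤ n) :
    rl (LinearMap.ker (φ ^ (i + 1))) (LinearMap.range (φ ^ (n - (i + 1)))) +
        rl (LinearMap.ker (φ ^ 1) ⊓ LinearMap.range (φ ^ (n - 1 - i))) (LinearMap.range (φ ^ (n - 1))) =
      rl (LinearMap.ker (φ ^ i)) (LinearMap.range (φ ^ (n - i))) +
        rl (LinearMap.ker (φ ^ 1) ⊓ LinearMap.range (φ ^ i)) (LinearMap.range (φ ^ (n - 1))) := by
  obtain ⟨m, rfl⟩ : ∃ m, n = i + m + 1 := ⟨n - i - 1, by omega⟩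
  simp only [show i + m + 1 - (i + 1) = m by omega, show i + m + 1 - 1 = i + m by omega,
    show i + m - i = m by omega, show i + m + 1 - i = m + 1 by omega]
  have hK : LinearMap.ker (φ ^ i) ≤ LinearMap.ker (φ ^ (i + 1)) := ker_pow_mono φ (Nat.le_succ i)
  have hI : LinearMap.range (φ ^ m) ≤ LinearMap.ker (φ ^ (i + 1)) := range_pow_le_ker hφ (by omega)
  have h1 : rl (LinearMap.ker (φ ^ (i + 1))) (LinearMap.ker (φ ^ i) ⊔ LinearMap.range (φ ^ m)) =
      rl (LinearMap.ker (φ ^ 1) ⊓ LinearMap.range (φ ^ i)) (LinearMap.range (φ ^ (i + m))) := by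
    rw [← map_pow_ker, ← map_pow_range, rl_map _ hI, inf_eq_left.2 hK, sup_comm]
  have h2 : rl (LinearMap.ker (φ ^ i) ⊓ LinearMap.range (φ ^ m)) (LinearMap.range (φ ^ (m + 1))) =
      rl (LinearMap.ker (φ ^ (i + m))) (LinearMap.range (φ ^ 1) ⊔ LinearMap.ker (φ ^ m)) := by
    rw [← map_pow_ker, add_comm m i, show (LinearMap.range (φ ^ (m + 1))) =
      (LinearMap.range (φ ^ 1) ⊔ LinearMap.ker (φ ^ m)).map (φ ^ m) by
        rw [Submodule.map_sup, map_pow_range, (LinearMap.le_ker_iff_map).1 le_rfl, sup_bot_eq],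
      rl_map _ (sup_le (range_pow_le_ker hφ (by omega)) (ker_pow_mono φ (by omega))),
      sup_eq_left.2 (inf_le_left.trans le_sup_right)]
  have h3 := upper_eq_lower hφ m (by omega)
  rw [show i + m + 1 - 1 = i + m by omega] at h3
  rw [rl_add (le_sup_right : LinearMap.range (φ ^ m) ≤ LinearMap.ker (φ ^ i) ⊔ LinearMap.range (φ ^ m))
      (sup_le hK hI), h1, rl_sup,
    rl_add (le_inf (range_pow_le_ker hφ (by omega)) (range_pow_anti φ (Nat.le_succ m)))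
      (inf_le_left : LinearMap.ker (φ ^ i) ⊓ LinearMap.range (φ ^ m) ≤ LinearMap.ker (φ ^ i)),
    rl_inf, h2, h3]
  abel

theorem herbrand_pow_eq_zero (hfin : Module.length R (perH φ (φ ^ (n - 1))) < ⊤) {i : ℕ} (hi : i ≤ n) :
    FinCoh R (φ ^ i) (φ ^ (n - i)) ∧ herbrand R (φ ^ i) (φ ^ (n - i)) = 0 := by
  rw [perH_length, ← pow_one φ, ← pow_mul, one_mul] at hfin
  let h : ℕ → ℕ∞ := fun i => rl (LinearMap.ker (φ ^ i)) (LinearMap.range (φ ^ (n - i)))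
  let B : ℕ → ℕ∞ := fun i => rl (LinearMap.ker (φ ^ 1) ⊓ LinearMap.range (φ ^ i)) (LinearMap.range (φ ^ (n - 1)))
  have hB : ∀ i, i + 1 ≤ n → B i ≠ ⊤ := fun i hi => ne_top_of_le_ne_top hfin.ne
    (rl_mono_left _ inf_le_left (le_inf (range_pow_le_ker hφ (by omega)) (range_pow_anti φ (by omega))))
  have h0 : h 0 = 0 := rl_eq_zero (by simp [Module.End.one_eq_id])
  have hn0 : h n = 0 := rl_eq_zero (by simp [Module.End.one_eq_id])
  have hstep : ∀ i, i + 1 ≤ n → h (i + 1) + B (n - 1 - i) = h i + B i := fun i hi => nilpotent_step hφ i hi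
  have hh : ∀ i, i ≤ n → h i ≠ ⊤ := by
    intro i
    induction i with
    | zero => intro _; simp [h0]
    | succ i ih =>
      intro hi
      have := add_ne_top_iff'.2 ⟨ih (by omega), hB i hi⟩
      rw [← hstep i hi, add_ne_top_iff'] at this
      exact this.1
  have hsym : ∀ i, i ≤ n → ((h i).toNat : ℤ) = (h (n - i)).toNat := by
    intro i
    induction i with
    | zero => intro _; simp [h0, hn0]
    | succ i ih =>
      intro hi
      have e1 := congrArg (fun x : ℕ∞ => (x.toNat : ℤ)) (hstep i hi)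
      have e2 := congrArg (fun x : ℕ∞ => (x.toNat : ℤ)) (hstep (n - 1 - i) (by omega))
      rw [show n - 1 - i + 1 = n - i by omega, show n - 1 - (n - 1 - i) = i by omega] at e2
      simp only [toNat_add_int (hh (i + 1) hi) (hB (n - 1 - i) (by omega)), toNat_add_int (hh i (by omega)) (hB i hi)] at e1
      simp only [toNat_add_int (hh (n - i) (by omega)) (hB i hi),
        toNat_add_int (hh (n - 1 - i) (by omega)) (hB (n - 1 - i) (by omega))] at e2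
      rw [show n - (i + 1) = n - 1 - i by omega]
      linarith [ih (by omega)]
  have hswap : rl (LinearMap.ker (φ ^ (n - i))) (LinearMap.range (φ ^ i)) = h (n - i) := by
    simp only [h, show n - (n - i) = i by omega]
  refine ⟨⟨(hh i hi).lt_top, ?_⟩, ?_⟩
  · rw [perH_length, hswap]; exact (hh _ (by omega)).lt_top
  · rw [herbrand, perH_length, perH_length, hswap]
    exact sub_eq_zero.2 (hsym i hi)

end Nilpotent

end Groth.MilnorKLambda.Per
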