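import Groth.Agent.MilnorKLambda.Tame

/-!
# Uniqueness, surjectivity and kernels of the tame symbol and the specialization maps
-/

set_option autoImplicit false

universe u v

namespace Groth.MilnorKLambda

open MilK Function IsLocalRing

section

variable {A : Type u} [CommRing A] [IsDomain A] [IsDiscreteValuationRing A]
  {L : Type v} [Field L] [Algebra A L] [IsFractionRing A L]

local notation "κ" => ResidueField A

variable (A L)

/-- Symbols of units. -/
def unitSub (n : ℕ) : AddSubgroup (K L n) :=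
  AddSubgroup.closure {z | ∃ u : Fin n → Aˣ, z = symbol (fun i => unitToFrac A L (u i))}

/-- Symbols starting with a 1-unit. -/
def oneSub (n : ℕ) : AddSubgroup (K L (n + 1)) :=
  AddSubgroup.closure {z : K L (n + 1) | ∃ (u₀ : Aˣ) (w : Fin n → Lˣ),
    residue A (u₀ : A) = 1 ∧ z = symbol (Fin.cons (unitToFrac A L u₀) w)}

/-- `oneSub` in every degree. -/
def oneSub' : (n : ℕ) → AddSubgroup (K L n)
  | 0 => ⊥
  | n + 1 => oneSub A L n

theorem unitSub_zero : unitSub A L 0 = ⊤ := by
  rw [eq_top_iff, ← closure_symbols, AddSubgroup.closure_le]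
  rintro _ ⟨a, rfl⟩
  exact AddSubgroup.subset_closure ⟨Fin.elim0, by congr 1; exact Subsingleton.elim _ _⟩

variable {A L}

theorem symbol_mem_unitSub {n : ℕ} (u : Fin n → Aˣ) :
    (symbol (fun i => unitToFrac A L (u i)) : K L n) ∈ unitSub A L n :=
  AddSubgroup.subset_closure ⟨u, rfl⟩

theorem cns_mem_unitSub {n : ℕ} (u : Aˣ) {y : K L n} (hy : y ∈ unitSub A L n) :
    cns (unitToFrac A L u) y ∈ unitSub A L (n + 1) := by
  induction hy using AddSubgroup.closure_induction with
  | mem z hz =>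
    obtain ⟨w, rfl⟩ := hz
    rw [cns_symbol]
    exact AddSubgroup.subset_closure ⟨Fin.cons u w, by congr 1; funext i; refine Fin.cases ?_ ?_ i <;> simp⟩
  | zero => simp
  | add a b _ _ ha hb => rw [map_add]; exact add_mem ha hb
  | neg a _ ha => rw [map_neg]; exact neg_mem ha

variable (ϖ : A) (hϖ : Irreducible ϖ)

local notation "π'" => unitFrac A L ϖ hϖ.ne_zero

include hϖ in
theorem exists_unit_add (n : ℕ) (x : K L (n + 1)) :
    ∃ a ∈ unitSub A L (n + 1), ∃ b ∈ unitSub A L n, x = a + cns π' b := by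
  suffices h : x ∈ unitSub A L (n + 1) ⊔ (unitSub A L n).map (cns π') by
    obtain ⟨a, ha, c, hc, rfl⟩ := AddSubgroup.mem_sup.1 h
    obtain ⟨b, hb, rfl⟩ := AddSubgroup.mem_map.1 hc
    exact ⟨a, ha, b, hb, rfl⟩
  induction n with
  | zero =>
    refine mem_closure_cns _ (fun a y => ?_) x
    obtain ⟨i, u, rfl⟩ := exists_eq L ϖ hϖ a
    have hy : y ∈ unitSub A L 0 := by rw [unitSub_zero]; trivial
    rw [cns_mul, cns_zpow]
    exact add_mem (AddSubgroup.zsmul_mem _ (AddSubgroup.mem_sup_right (AddSubgroup.mem_map.2 ⟨y, hy, rfl⟩)) i)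
      (AddSubgroup.mem_sup_left (cns_mem_unitSub u hy))
  | succ n ih =>
    refine mem_closure_cns _ (fun a y => ?_) x
    obtain ⟨i, u, rfl⟩ := exists_eq L ϖ hϖ a
    obtain ⟨p, hp, q', hq', rfl⟩ := AddSubgroup.mem_sup.1 (ih y)
    obtain ⟨q, hq, rfl⟩ := AddSubgroup.mem_map.1 hq'
    have hm : (-1 : Lˣ) = unitToFrac A L (-1) := Units.ext (by simp [unitToFrac_coe])
    rw [cns_mul, cns_zpow, map_add, map_add]
    refine add_mem (AddSubgroup.zsmul_mem _ (add_mem
        (AddSubgroup.mem_sup_right (AddSubgroup.mem_map.2 ⟨p, hp, rfl⟩)) ?_) i)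
      (add_mem (AddSubgroup.mem_sup_left (cns_mem_unitSub u hp)) ?_)
    · rw [cns_cns_self, hm]
      exact AddSubgroup.mem_sup_right (AddSubgroup.mem_map.2 ⟨_, cns_mem_unitSub _ hq, rfl⟩)
    · rw [cns_comm]
      exact neg_mem (AddSubgroup.mem_sup_right (AddSubgroup.mem_map.2 ⟨_, cns_mem_unitSub _ hq, rfl⟩))

/-- A map out of `K L (n+1)` is determined on `{ϖ', units}`. -/
theorem hom_ext_uniformizer {M : Type*} [AddCommGroup M] {n : ℕ} {f g : K L (n + 1) →+ M}
    (h : ∀ (ϖ' : A) (hϖ' : Irreducible ϖ') (u : Fin n → Aˣ),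
      f (symbol (Fin.cons (unitFrac A L ϖ' hϖ'.ne_zero) fun i => unitToFrac A L (u i))) =
        g (symbol (Fin.cons (unitFrac A L ϖ' hϖ'.ne_zero) fun i => unitToFrac A L (u i)))) :
    f = g := by
  obtain ⟨ϖ, hϖ⟩ := IsDiscreteValuationRing.exists_irreducible A
  have h1 : ∀ (ϖ' : A) (hϖ' : Irreducible ϖ') (y : K L n), y ∈ unitSub A L n →
      f (cns (unitFrac A L ϖ' hϖ'.ne_zero) y) = g (cns (unitFrac A L ϖ' hϖ'.ne_zero) y) := by
    intro ϖ' hϖ' y hy
    induction hy using AddSubgroup.closure_induction with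
    | mem z hz => obtain ⟨w, rfl⟩ := hz; rw [cns_symbol]; exact h ϖ' hϖ' w
    | zero => simp
    | add a b _ _ ha hb => simp [ha, hb]
    | neg a _ ha => simp [ha]
  have h2 : ∀ a ∈ unitSub A L (n + 1), f a = g a := by
    intro a ha
    induction ha using AddSubgroup.closure_induction with
    | mem z hz =>
      obtain ⟨w, rfl⟩ := hz
      have hirr : Irreducible (ϖ * (w 0 : A)) := (irreducible_mul_isUnit (w 0).isUnit).2 hϖ
      have e : unitFrac A L (ϖ * (w 0 : A)) hirr.ne_zero =
          unitFrac A L ϖ hϖ.ne_zero * unitToFrac A L (w 0) := Units.ext (by simp [unitToFrac_coe])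
      have ht := symbol_mem_unitSub (A := A) (L := L) (Fin.tail w)
      have h3 := h1 _ hirr _ ht
      rw [e, cns_mul, map_add, map_add, h1 _ hϖ _ ht, add_left_cancel_iff, cns_symbol] at h3
      rw [← Fin.cons_self_tail (fun i => unitToFrac A L (w i))]; exact h3
    | zero => simp
    | add a b _ _ ha hb => simp [ha, hb]
    | neg a _ ha => simp [ha]
  ext x
  obtain ⟨a, ha, b, hb, rfl⟩ := exists_unit_add ϖ hϖ n x
  rw [map_add, map_add, h2 a ha, h1 ϖ hϖ b hb]

theorem IsTameSymbol.unique {n : ℕ} {d d' : K L (n + 1) →+ K κ n} (h : IsTameSymbol A L n d)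
    (h' : IsTameSymbol A L n d') : d = d' :=
  hom_ext_uniformizer (fun ϖ' hϖ' u => by rw [h ϖ' hϖ' u, h' ϖ' hϖ' u])

theorem IsTameSymbol.eq_dH {n : ℕ} {d : K L (n + 1) →+ K κ n} (h : IsTameSymbol A L n d) :
    d = dH L ϖ hϖ n := IsTameSymbol.unique h (isTameSymbol_dH L ϖ hϖ n)

theorem IsSpecMap.eq_sH {n : ℕ} {s : K L n →+ K κ n} (h : IsSpecMap A L ϖ hϖ n s) :
    s = sH L ϖ hϖ n := by
  refine hom_ext fun a => ?_
  choose i u hu using fun k => exists_eq L ϖ hϖ (a k)
  obtain rfl : a = fun k => π' ^ i k * unitToFrac A L (u k) := funext hu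
  rw [h i u, isSpecMap_sH L ϖ hϖ n i u]

theorem sH_unit {n : ℕ} (u : Fin n → Aˣ) :
    sH L ϖ hϖ n (symbol (fun i => unitToFrac A L (u i))) = symbol (fun i => unitResidue A (u i)) := by
  rw [sH_symbol]; congr 1; funext i; simp

theorem dH_unitSub {n : ℕ} {a : K L (n + 1)} (ha : a ∈ unitSub A L (n + 1)) :
    dH L ϖ hϖ n a = 0 := by
  induction ha using AddSubgroup.closure_induction with
  | mem z hz => obtain ⟨w, rfl⟩ := hz; rw [dH_symbol, dF_units]
  | zero => simp
  | add a b _ _ ha hb => simp [ha, hb]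
  | neg a _ ha => simp [ha]

theorem dH_cns_unitSub {n : ℕ} (x : Lˣ) {b : K L n} (hb : b ∈ unitSub A L n) :
    dH L ϖ hϖ n (cns x b) = vv L ϖ hϖ x • sH L ϖ hϖ n b := by
  cases n with
  | zero => exact dH_cns_zero L ϖ hϖ x b
  | succ n => rw [dH_cns, dH_unitSub ϖ hϖ hb, map_zero, add_zero]

theorem sH_cns_self {n : ℕ} (b : K L n) : sH L ϖ hϖ (n + 1) (cns π' b) = 0 := by
  rw [sH_cns, rr_self, cns_one]

theorem sH_dH_split {n : ℕ} {a : K L (n + 1)} (ha : a ∈ unitSub A L (n + 1)) {b : K L n}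
    (hb : b ∈ unitSub A L n) :
    sH L ϖ hϖ (n + 1) (a + cns π' b) = sH L ϖ hϖ (n + 1) a ∧
      dH L ϖ hϖ n (a + cns π' b) = sH L ϖ hϖ n b := by
  constructor
  · rw [map_add, sH_cns_self, add_zero]
  · rw [map_add, dH_unitSub ϖ hϖ ha, zero_add, dH_cns_unitSub ϖ hϖ _ hb, vv_self, one_smul]

theorem unitResidue_surjective : Surjective (unitResidue A) := by
  intro x
  obtain ⟨a, ha⟩ := residue_surjective (R := A) (x : κ)
  have hu : IsUnit a := by
    by_contra hn
    exact x.ne_zero (ha.symm.trans ((residue_eq_zero_iff a).2 hn))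
  exact ⟨hu.unit, Units.ext ha⟩

theorem exists_sH_eq {n : ℕ} (p : K κ n) : ∃ a ∈ unitSub A L n, sH L ϖ hϖ n a = p := by
  refine AddSubgroup.mem_map.1 (mem_of_symbol_mem ((unitSub A L n).map (sH L ϖ hϖ n)) (fun x => ?_) p)
  choose u hu using fun i => unitResidue_surjective (A := A) (x i)
  exact AddSubgroup.mem_map.2 ⟨_, symbol_mem_unitSub u, by rw [sH_unit]; simp [hu]⟩

theorem cns_one_unit_mem {n : ℕ} (e : Aˣ) (he : unitResidue A e = 1) (y : K L n) :
    cns (unitToFrac A L e) y ∈ oneSub A L n := by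
  induction y using induction_symbol with
  | sym a =>
    rw [cns_symbol]
    exact AddSubgroup.subset_closure ⟨e, a, congrArg Units.val he, rfl⟩
  | zero => simp
  | add a b ha hb => rw [map_add]; exact add_mem ha hb
  | neg a ha => rw [map_neg]; exact neg_mem ha

theorem cns_mem_oneSub {n : ℕ} (x : Lˣ) {y : K L n} (hy : y ∈ oneSub' A L n) :
    cns x y ∈ oneSub A L n := by
  cases n with
  | zero => obtain rfl := (AddSubgroup.mem_bot).1 hy; simp
  | succ n =>
    induction hy using AddSubgroup.closure_induction with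
    | mem z hz =>
      obtain ⟨e, w, he, rfl⟩ := hz
      rw [← cns_symbol, cns_comm]
      exact neg_mem (cns_one_unit_mem e (Units.ext he) _)
    | zero => simp
    | add a b _ _ ha hb => rw [map_add]; exact add_mem ha hb
    | neg a _ ha => rw [map_neg]; exact neg_mem ha

theorem symbol_congr : ∀ (n : ℕ) (u u' : Fin n → Aˣ), (∀ i, unitResidue A (u i) = unitResidue A (u' i)) →
    symbol (fun i => unitToFrac A L (u i)) - symbol (fun i => unitToFrac A L (u' i)) ∈ oneSub' A L n := by
  intro n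
  induction n with
  | zero => intro u u' _; rw [Subsingleton.elim u u', sub_self]; exact zero_mem _
  | succ n ih =>
    intro u u' h
    have e0 : u 0 = u' 0 * (u' 0)⁻¹ * u 0 := by simp
    set e := (u' 0)⁻¹ * u 0 with he
    have her : unitResidue A e = 1 := by rw [he, map_mul, map_inv, h 0, inv_mul_cancel]
    rw [mul_assoc, ← he] at e0
    rw [← Fin.cons_self_tail (fun i => unitToFrac A L (u i)),
      ← Fin.cons_self_tail (fun i => unitToFrac A L (u' i)), ← cns_symbol, ← cns_symbol, e0, map_mul,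
      cns_mul, add_sub_right_comm, ← map_sub]
    exact add_mem (cns_mem_oneSub _ (ih _ _ fun i => h i.succ)) (cns_one_unit_mem e her _)

/-- A lift of a residue unit. -/
noncomputable def liftU (x : κˣ) : Aˣ := (unitResidue_surjective x).choose

theorem unitResidue_liftU (x : κˣ) : unitResidue A (liftU x) = x :=
  (unitResidue_surjective x).choose_spec

variable (A L) in
/-- Lifting `K κ n → K L n / oneSub`. -/
noncomputable def liftK (n : ℕ) : K κ n →+ K L n ⧸ oneSub' A L n :=
  mkLift (fun x => QuotientAddGroup.mk (symbol (fun i => unitToFrac A L (liftU (x i)))))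
    (fun x i a b => by
      have e : ∀ c, (fun j => unitToFrac A L (liftU (update x i c j))) =
          update (fun j => unitToFrac A L (liftU (x j))) i (unitToFrac A L (liftU c)) := fun c =>
        comp_update (fun z => unitToFrac A L (liftU z)) x i c
      rw [← QuotientAddGroup.mk_add, e a, e b, ← symbol_update_mul, QuotientAddGroup.eq,
        ← map_mul, show update (fun j => unitToFrac A L (liftU (x j))) i (unitToFrac A L (liftU a * liftU b)) =
          (fun k => unitToFrac A L (update (fun j => liftU (x j)) i (liftU a * liftU b) k)) from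
            (comp_update (unitToFrac A L) (fun j => liftU (x j)) i _).symm, neg_add_eq_sub]
      refine symbol_congr n _ _ fun j => ?_
      rcases eq_or_ne j i with rfl | hj <;> simp [map_mul, unitResidue_liftU, *])
    (fun x i j hij h => by
      rw [QuotientAddGroup.eq_zero_iff]
      set a := liftU (x i) with ha
      have hu : IsUnit (1 - (a : A)) := by
        by_contra hn
        have h0 := (residue_eq_zero_iff _).2 hn
        rw [map_sub, map_one, ← unitResidue_coe, ha, unitResidue_liftU, sub_eq_zero] at h0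
        rw [← h0] at h
        exact (x j).ne_zero (by simpa using h)
      have hc := symbol_congr (L := L) n (fun k => liftU (x k)) (update (fun k => liftU (x k)) j hu.unit) ?_
      · rwa [symbol_eq_zero_of_add_eq_one
          (fun k => unitToFrac A L (update (fun k => liftU (x k)) j hu.unit k)) hij.ne
          (by simp [hij.ne, unitToFrac_coe, ← ha, ← map_add]), sub_zero] at hc
      · intro k
        rcases eq_or_ne k j with rfl | hk
        · simp only [update_self, unitResidue_liftU]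
          apply Units.ext
          rw [unitResidue_coe, IsUnit.unit_spec, map_sub, map_one, ← unitResidue_coe, unitResidue_liftU]
          linear_combination h
        · simp [hk])

theorem liftK_sH {n : ℕ} {a : K L n} (ha : a ∈ unitSub A L n) :
    liftK A L n (sH L ϖ hϖ n a) = QuotientAddGroup.mk a := by
  induction ha using AddSubgroup.closure_induction with
  | mem z hz =>
    obtain ⟨u, rfl⟩ := hz
    rw [sH_unit, liftK, mkLift_symbol, QuotientAddGroup.eq, neg_add_eq_sub]
    exact symbol_congr n _ _ fun i => by rw [unitResidue_liftU]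
  | zero => simp
  | add a b _ _ ha hb => rw [map_add, map_add, ha, hb]; rfl
  | neg a _ ha => rw [map_neg, map_neg, ha]; rfl

theorem mem_oneSub'_of_sH {n : ℕ} {a : K L n} (ha : a ∈ unitSub A L n) (h : sH L ϖ hϖ n a = 0) :
    a ∈ oneSub' A L n := by
  rw [← QuotientAddGroup.eq_zero_iff, ← liftK_sH ϖ hϖ ha, h, map_zero]

include ϖ hϖ in
theorem oneSub_le_unitSub (n : ℕ) : oneSub A L n ≤ unitSub A L (n + 1) := by
  rw [oneSub, AddSubgroup.closure_le]
  rintro _ ⟨e, w, he, rfl⟩
  rw [← cns_symbol]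
  cases n with
  | zero => exact cns_mem_unitSub e (by rw [unitSub_zero]; trivial)
  | succ n =>
    obtain ⟨a, ha, b, hb, hy⟩ := exists_unit_add ϖ hϖ n (symbol w)
    rw [hy, map_add]
    refine add_mem (cns_mem_unitSub e ha) ?_
    have key : ∀ (e : Aˣ) (c : Aˣ), (e : A) = 1 - ϖ * c →
        cns (unitToFrac A L e) (cns π' b) ∈ unitSub A L (n + 2) := by
      intro e c hec
      have h0 := cns_cns_eq_zero_of_add_eq_one (unitToFrac A L e) (π' * unitToFrac A L c) (by
        simp only [Units.val_mul, coe_unitFrac, unitToFrac_coe, ← map_mul, ← map_add, hec, sub_add_cancel,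
          map_one]) b
      rw [cns_mul, map_add, add_eq_zero_iff_eq_neg] at h0
      rw [h0]
      exact neg_mem (cns_mem_unitSub e (cns_mem_unitSub c hb))
    obtain ⟨c, hc⟩ : ∃ c, (1 : A) - e = ϖ * c := by
      have : (1 : A) - e ∈ maximalIdeal A := by
        rw [← residue_eq_zero_iff, map_sub, he, map_one, sub_self]
      rw [hϖ.maximalIdeal_eq, Ideal.mem_span_singleton] at this
      exact this
    have hec : (e : A) = 1 - ϖ * c := by linear_combination -hc
    by_cases hcu : IsUnit c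
    · exact key e hcu.unit hec
    obtain ⟨f, hf, hf1⟩ := exists_unit_one_sub_pow_mul ϖ hϖ 0 1
    have hf0 : (f : A) = 1 - ϖ * ((1 : Aˣ) : A) := by simp [hf]
    have hcf : IsUnit ((c - 1) * ((f⁻¹ : Aˣ) : A)) := by
      refine IsUnit.mul ?_ (Units.isUnit _)
      by_contra hn
      have := (maximalIdeal A).sub_mem hcu hn
      rw [sub_sub_cancel] at this
      exact this isUnit_one
    have hg : ((e * f⁻¹ : Aˣ) : A) = 1 - ϖ * hcf.unit := by
      rw [IsUnit.unit_spec, Units.val_mul, hec]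
      have hff : (f : A) * ((f⁻¹ : Aˣ) : A) = 1 := Units.mul_inv f
      simp only [zero_add, pow_one, mul_one] at hf
      linear_combination hff - ((f⁻¹ : Aˣ) : A) * hf
    rw [show e = e * f⁻¹ * f by simp, map_mul, cns_mul]
    exact add_mem (key _ _ hg) (key _ _ hf0)

theorem mem_oneSub_iff (n : ℕ) (x : K L (n + 1)) :
    (sH L ϖ hϖ (n + 1) x = 0 ∧ dH L ϖ hϖ n x = 0) ↔ x ∈ oneSub A L n := by
  constructor
  · rintro ⟨h1, h2⟩
    obtain ⟨a, ha, b, hb, rfl⟩ := exists_unit_add ϖ hϖ n x
    obtain ⟨hs, hd⟩ := sH_dH_split ϖ hϖ ha hb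
    exact add_mem (mem_oneSub'_of_sH ϖ hϖ ha (hs ▸ h1))
      (cns_mem_oneSub _ (mem_oneSub'_of_sH ϖ hϖ hb (hd ▸ h2)))
  · intro hx
    refine ⟨?_, dH_unitSub ϖ hϖ (oneSub_le_unitSub ϖ hϖ n hx)⟩
    induction hx using AddSubgroup.closure_induction with
    | mem z hz =>
      obtain ⟨e, w, he, rfl⟩ := hz
      rw [← cns_symbol, sH_cns, rr_unit, show unitResidue A e = 1 from Units.ext he, cns_one]
    | zero => simp
    | add a b _ _ ha hb => simp [ha, hb]
    | neg a _ ha => simp [ha]

theorem dH_eq_zero_iff (n : ℕ) (x : K L (n + 1)) :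
    dH L ϖ hϖ n x = 0 ↔ x ∈ unitSub A L (n + 1) := by
  refine ⟨fun h => ?_, dH_unitSub ϖ hϖ⟩
  obtain ⟨a, ha, b, hb, rfl⟩ := exists_unit_add ϖ hϖ n x
  rw [(sH_dH_split ϖ hϖ ha hb).2] at h
  exact add_mem ha (oneSub_le_unitSub ϖ hϖ n (cns_mem_oneSub _ (mem_oneSub'_of_sH ϖ hϖ hb h)))

theorem sH_dH_surjective (n : ℕ) :
    Surjective (fun x : K L (n + 1) => (sH L ϖ hϖ (n + 1) x, dH L ϖ hϖ n x)) := by
  rintro ⟨p, q⟩
  obtain ⟨a, ha, rfl⟩ := exists_sH_eq (L := L) ϖ hϖ p
  obtain ⟨b, hb, rfl⟩ := exists_sH_eq (L := L) ϖ hϖ q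
  obtain ⟨hs, hd⟩ := sH_dH_split ϖ hϖ ha hb
  exact ⟨_, Prod.ext hs hd⟩

theorem dH_neg_self_cns {n : ℕ} (x : K L n) :
    dH L ϖ hϖ n (cns (-π') x) = sH L ϖ hϖ n x := by
  have h1 : vv L ϖ hϖ (-π') = 1 ∧ rr L ϖ hϖ (-π') = -1 := by
    have e : -π' = π' ^ (1 : ℤ) * unitToFrac A L (-1) := Units.ext (by simp [unitToFrac_coe])
    rw [e, vv_compose, rr_compose]
    exact ⟨rfl, Units.ext (by simp [unitResidue_coe])⟩
  cases n with
  | zero => rw [dH_cns_zero, h1.1, one_smul]
  | succ n =>
    rw [dH_cns, h1.1, one_smul, pp_apply, h1.1, h1.2]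
    simp [cns_one]

end

end Groth.MilnorKLambda
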