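import Groth.Agent.MilnorKLambda.Basic
import Mathlib.RingTheory.DiscreteValuationRing.Basic
import Mathlib.RingTheory.LocalRing.ResidueField.Basic

/-!
# Existence and structure of the tame symbol and the specialization maps
-/

set_option autoImplicit false

universe u v w

namespace Groth.MilnorKLambda

open MilK Function IsLocalRing

/-- Build a map out of `K F n` from a function on tuples. -/
noncomputable def mkLift {F : Type u} [Field F] {M : Type w} [AddCommGroup M] {n : ℕ}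
    (f : (Fin n → Fˣ) → M)
    (hmul : ∀ (x : Fin n → Fˣ) i a b, f (update x i (a * b)) = f (update x i a) + f (update x i b))
    (hst : ∀ (x : Fin n → Fˣ) i j, i < j → (x i : F) + x j = 1 → f x = 0) : K F n →+ M :=
  MilK.lift (MultilinearMap.mk' (fun x : Fin n → Additive Fˣ => f fun i => (x i).toMul)
    (fun m i x y => by
      have e : ∀ z : Additive Fˣ, (fun j => (update m i z j).toMul) =
          update (fun j => (m j).toMul) i z.toMul := fun z =>
        comp_update (Additive.toMul) m i z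
      simp only [e, toMul_add, hmul])
    (fun m i c x => by
      have e : ∀ z : Additive Fˣ, (fun j => (update m i z j).toMul) =
          update (fun j => (m j).toMul) i z.toMul := fun z =>
        comp_update (Additive.toMul) m i z
      simp only [e]
      exact map_zsmul (AddMonoidHom.mk' (fun z : Additive Fˣ => f (update (fun j => (m j).toMul) i z.toMul))
        (fun a b => by simp only [toMul_add, hmul])) c x))
    (by rintro x ⟨i, j, hij, h⟩; exact hst x i j hij h)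

@[simp]
theorem mkLift_symbol {F : Type u} [Field F] {M : Type w} [AddCommGroup M] {n : ℕ}
    (f : (Fin n → Fˣ) → M) (h1) (h2) (x : Fin n → Fˣ) : mkLift f h1 h2 (symbol x) = f x := by
  rw [mkLift, lift_symbol]; rfl

variable {A : Type u} [CommRing A] [IsDomain A] [IsDiscreteValuationRing A]
  {L : Type v} [Field L] [Algebra A L] [IsFractionRing A L]

theorem unitToFrac_coe (u : Aˣ) : (unitToFrac A L u : L) = algebraMap A L u := rfl

theorem unitToFrac_eq_unitFrac (u : Aˣ) : unitToFrac A L u = unitFrac A L (u : A) u.ne_zero :=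
  Units.ext rfl

theorem unitResidue_coe (u : Aˣ) : (unitResidue A u : ResidueField A) = residue A u := rfl

section Decomp

variable (L) (ϖ : A) (hϖ : Irreducible ϖ)

/-- `(i, u) ↦ ϖ ^ i * u`. -/
noncomputable def compose : Multiplicative ℤ × Aˣ →* Lˣ :=
  (zpowersHom Lˣ (unitFrac A L ϖ hϖ.ne_zero)).coprod (unitToFrac A L)

theorem compose_apply (i : ℤ) (u : Aˣ) :
    compose L ϖ hϖ (Multiplicative.ofAdd i, u) = unitFrac A L ϖ hϖ.ne_zero ^ i * unitToFrac A L u :=
  rfl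

theorem compose_natCast (m : ℕ) (u : Aˣ) :
    ((compose L ϖ hϖ (Multiplicative.ofAdd (m : ℤ), u) : Lˣ) : L) = algebraMap A L (ϖ ^ m * u) := by
  simp [compose_apply, unitToFrac_coe]

theorem compose_bijective : Bijective (compose L ϖ hϖ) := by
  have hinj := IsFractionRing.injective A L
  constructor
  · rw [injective_iff_map_eq_one]
    rintro ⟨i, u⟩ h
    obtain ⟨i, rfl⟩ := Multiplicative.ofAdd.surjective i
    rw [compose_apply] at h
    have hi : i = 0 := by
      by_contra hne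
      rcases Int.natAbs_eq i with e | e
      · rw [e, zpow_natCast] at h
        have h' : ϖ ^ i.natAbs * (u : A) = 1 := hinj (by
          simpa [unitToFrac_coe] using congrArg Units.val h)
        exact hϖ.not_isUnit ((isUnit_pow_iff (Int.natAbs_ne_zero.2 hne)).1 (IsUnit.of_mul_eq_one _ h'))
      · rw [e, zpow_neg, inv_mul_eq_one, zpow_natCast] at h
        have h' : ϖ ^ i.natAbs = (u : A) := hinj (by
          simpa [unitToFrac_coe] using congrArg Units.val h)
        exact hϖ.not_isUnit ((isUnit_pow_iff (Int.natAbs_ne_zero.2 hne)).1 (h' ▸ u.isUnit))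
    subst hi
    simp only [zpow_zero, one_mul] at h
    have hu : u = 1 := Units.ext (hinj (by simpa [unitToFrac_coe] using congrArg Units.val h))
    subst hu; rfl
  · intro x
    obtain ⟨a, b, hb, hx⟩ := IsFractionRing.div_surjective (A := A) (x : L)
    have hb0 : b ≠ 0 := nonZeroDivisors.ne_zero hb
    have ha0 : a ≠ 0 := by
      rintro rfl; rw [map_zero, zero_div] at hx; exact x.ne_zero hx.symm
    obtain ⟨m, u, rfl⟩ := IsDiscreteValuationRing.eq_unit_mul_pow_irreducible ha0 hϖ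
    obtain ⟨m', u', rfl⟩ := IsDiscreteValuationRing.eq_unit_mul_pow_irreducible hb0 hϖ
    refine ⟨(Multiplicative.ofAdd (m : ℤ), u) / (Multiplicative.ofAdd (m' : ℤ), u'), Units.ext ?_⟩
    rw [map_div, Units.val_div_eq_div_val, compose_natCast, compose_natCast, ← hx, mul_comm (ϖ ^ m),
      mul_comm (ϖ ^ m')]

/-- Decomposition of `Lˣ`. -/
noncomputable def decomp : Lˣ →* Multiplicative ℤ × Aˣ :=
  (MulEquiv.ofBijective _ (compose_bijective L ϖ hϖ)).symm.toMonoidHom

/-- The valuation. -/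
noncomputable def vv (x : Lˣ) : ℤ := (decomp L ϖ hϖ x).1.toAdd

/-- The residue of the unit part. -/
noncomputable def rr : Lˣ →* (ResidueField A)ˣ :=
  (unitResidue A).comp ((MonoidHom.snd _ _).comp (decomp L ϖ hϖ))

theorem decomp_compose (i : ℤ) (u : Aˣ) :
    decomp L ϖ hϖ (unitFrac A L ϖ hϖ.ne_zero ^ i * unitToFrac A L u) = (Multiplicative.ofAdd i, u) := by
  rw [← compose_apply L ϖ hϖ]; exact (MulEquiv.ofBijective _ (compose_bijective L ϖ hϖ)).symm_apply_apply _

theorem exists_eq (x : Lˣ) : ∃ (i : ℤ) (u : Aˣ), x = unitFrac A L ϖ hϖ.ne_zero ^ i * unitToFrac A L u := by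
  obtain ⟨⟨i, u⟩, rfl⟩ := (compose_bijective L ϖ hϖ).2 x
  exact ⟨i.toAdd, u, rfl⟩

@[simp] theorem vv_compose (i : ℤ) (u : Aˣ) :
    vv L ϖ hϖ (unitFrac A L ϖ hϖ.ne_zero ^ i * unitToFrac A L u) = i := by
  rw [vv, decomp_compose]; rfl

@[simp] theorem rr_compose (i : ℤ) (u : Aˣ) :
    rr L ϖ hϖ (unitFrac A L ϖ hϖ.ne_zero ^ i * unitToFrac A L u) = unitResidue A u := by
  simp [rr, decomp_compose]

@[simp] theorem vv_mul (x y : Lˣ) : vv L ϖ hϖ (x * y) = vv L ϖ hϖ x + vv L ϖ hϖ y := by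
  simp [vv]

@[simp] theorem vv_unit (u : Aˣ) : vv L ϖ hϖ (unitToFrac A L u) = 0 := by
  simpa using vv_compose L ϖ hϖ 0 u

@[simp] theorem rr_unit (u : Aˣ) : rr L ϖ hϖ (unitToFrac A L u) = unitResidue A u := by
  simpa using rr_compose L ϖ hϖ 0 u

@[simp] theorem vv_self : vv L ϖ hϖ (unitFrac A L ϖ hϖ.ne_zero) = 1 := by
  simpa using vv_compose L ϖ hϖ 1 1

@[simp] theorem rr_self : rr L ϖ hϖ (unitFrac A L ϖ hϖ.ne_zero) = 1 := by
  simpa using rr_compose L ϖ hϖ 1 1

/-- The relations on (valuation, residue) data that kill symbols. -/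
def Rel (a b : Lˣ) : Prop :=
  (vv L ϖ hϖ a = 0 ∧ rr L ϖ hϖ a = 1) ∨ (vv L ϖ hϖ b = 0 ∧ rr L ϖ hϖ b = 1) ∨
  (vv L ϖ hϖ a = vv L ϖ hϖ b ∧ rr L ϖ hϖ b = -rr L ϖ hϖ a) ∨
  (vv L ϖ hϖ a = 0 ∧ vv L ϖ hϖ b = 0 ∧
    (rr L ϖ hϖ a : ResidueField A) + (rr L ϖ hϖ b : ResidueField A) = 1)

include hϖ in
theorem exists_unit_one_sub_pow_mul (m : ℕ) (w : A) :
    ∃ e : Aˣ, (e : A) = 1 - ϖ ^ (m + 1) * w ∧ unitResidue A e = 1 := by
  have hmem : ϖ ^ (m + 1) * w ∈ maximalIdeal A :=
    Ideal.mul_mem_right _ _ (Ideal.pow_mem_of_mem _ hϖ.not_isUnit _ (Nat.succ_pos m))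
  have hunit : IsUnit (1 - ϖ ^ (m + 1) * w) := by
    by_contra h
    have := (maximalIdeal A).add_mem h hmem
    rw [sub_add_cancel] at this
    exact this isUnit_one
  refine ⟨hunit.unit, rfl, Units.ext ?_⟩
  rw [unitResidue_coe, IsUnit.unit_spec, map_sub, map_one, (residue_eq_zero_iff (ϖ ^ (m + 1) * w)).2 hmem, sub_zero]
  rfl

theorem rel_pos {a b : Lˣ} {i : ℤ} (hi : 0 < i) {u : Aˣ}
    (ha : a = unitFrac A L ϖ hϖ.ne_zero ^ i * unitToFrac A L u) (h : (a : L) + b = 1) :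
    vv L ϖ hϖ b = 0 ∧ rr L ϖ hϖ b = 1 := by
  obtain ⟨m, rfl⟩ : ∃ m : ℕ, i = ((m + 1 : ℕ) : ℤ) := ⟨i.toNat - 1, by omega⟩
  obtain ⟨e, he, he'⟩ := exists_unit_one_sub_pow_mul (A := A) ϖ hϖ m u
  have hb : b = unitToFrac A L e := Units.ext (by
    rw [unitToFrac_coe, he, map_sub, map_one, ← compose_natCast L ϖ hϖ, compose_apply, ← ha,
      eq_sub_iff_add_eq, add_comm, h])
  simp [hb, he']

theorem rel_of_add_eq_one {a b : Lˣ} (h : (a : L) + b = 1) : Rel L ϖ hϖ a b := by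
  obtain ⟨i, u, ha⟩ := exists_eq L ϖ hϖ a
  obtain ⟨j, w, hb⟩ := exists_eq L ϖ hϖ b
  rcases lt_trichotomy i 0 with hi | hi | hi
  · right; right; left
    have h' : ((a⁻¹ : Lˣ) : L) + ((-(b / a) : Lˣ) : L) = 1 := by
      push_cast [Units.val_div_eq_div_val]
      have := a.ne_zero
      field_simp
      linear_combination -h
    have ha' : a⁻¹ = unitFrac A L ϖ hϖ.ne_zero ^ (-i) * unitToFrac A L u⁻¹ := by
      rw [ha, mul_inv, zpow_neg, map_inv]
    obtain ⟨hv, hr⟩ := rel_pos L ϖ hϖ (by omega : 0 < -i) ha' h'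
    have hb' : -(b / a) = unitFrac A L ϖ hϖ.ne_zero ^ (j - i) * unitToFrac A L (-(w / u)) := by
      rw [ha, hb, zpow_sub]
      apply Units.ext
      simp [unitToFrac_coe, div_eq_mul_inv, map_mul]
      ring
    rw [hb', vv_compose] at hv
    rw [hb', rr_compose] at hr
    rw [ha, hb, vv_compose, vv_compose, rr_compose, rr_compose]
    refine ⟨by omega, ?_⟩
    have e : (-1 : Aˣ) * (w / u) = -(w / u) := by simp
    rw [← e, map_mul, map_div] at hr
    have e1 : unitResidue A (-1 : Aˣ) = -1 := Units.ext (by simp [unitResidue_coe])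
    rw [e1, neg_one_mul, neg_eq_iff_eq_neg, div_eq_iff_eq_mul] at hr
    simpa using hr
  · rcases lt_trichotomy j 0 with hj | hj | hj
    · exfalso
      subst hi
      obtain ⟨m, rfl⟩ : ∃ m : ℕ, j = -((m + 1 : ℕ) : ℤ) := ⟨(-j).toNat - 1, by omega⟩
      have hj' : unitFrac A L ϖ hϖ.ne_zero ^ (-((m + 1 : ℕ) : ℤ)) * unitToFrac A L w =
          (unitFrac A L ϖ hϖ.ne_zero ^ (m + 1))⁻¹ * unitToFrac A L w := by
        rw [zpow_neg, zpow_natCast]
      have h1 : (1 - (u : A)) * ϖ ^ (m + 1) = (w : A) := IsFractionRing.injective A L (by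
        have h' := h
        rw [ha, hb, hj'] at h'
        simp only [zpow_zero, one_mul, Units.val_mul, Units.val_inv_eq_inv_val, Units.val_pow_eq_pow_val,
          coe_unitFrac, unitToFrac_coe] at h'
        have hp : algebraMap A L ϖ ^ (m + 1) ≠ 0 :=
          pow_ne_zero _ ((map_ne_zero_iff _ (IsFractionRing.injective A L)).2 hϖ.ne_zero)
        field_simp at h'
        simp only [map_mul, map_sub, map_one, map_pow]
        linear_combination -h')
      exact hϖ.not_isUnit ((isUnit_pow_iff (Nat.succ_ne_zero m)).1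
        ((IsUnit.mul_iff.1 (h1 ▸ w.isUnit)).2))
    · subst hi hj
      right; right; right
      simp only [zpow_zero, one_mul] at ha hb
      refine ⟨by simp [ha], by simp [hb], ?_⟩
      rw [ha, hb, rr_unit, rr_unit, unitResidue_coe, unitResidue_coe, ← map_add,
        show (u : A) + w = 1 from IsFractionRing.injective A L (by
          simpa [ha, hb, unitToFrac_coe] using h), map_one]
    · exact Or.inl (rel_pos L ϖ hϖ hj hb (by rw [add_comm]; exact h))
  · exact Or.inr (Or.inl (rel_pos L ϖ hϖ hi ha h))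

end Decomp

section Maps

variable (L) (ϖ : A) (hϖ : Irreducible ϖ)

local notation "κ" => ResidueField A

theorem symbol_rel_eq_zero {n : ℕ} (x : Fin n → Lˣ) {i j : Fin n} (hij : i ≠ j)
    (h : Rel L ϖ hϖ (x i) (x j)) :
    (symbol (fun k => rr L ϖ hϖ (x k)) : K κ n) = 0 := by
  rcases h with ⟨-, h⟩ | ⟨-, h⟩ | ⟨-, h⟩ | ⟨-, -, h⟩
  · exact symbol_eq_zero_of_eq_one _ i h
  · exact symbol_eq_zero_of_eq_one _ j h
  · exact symbol_eq_zero_of_eq_neg _ hij h
  · exact symbol_eq_zero_of_add_eq_one _ hij h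

/-- The specialization map. -/
noncomputable def sH (n : ℕ) : K L n →+ K κ n :=
  mkLift (fun x => symbol (rr L ϖ hϖ ∘ x))
    (fun x i a b => by simp only [comp_update, map_mul, symbol_update_mul])
    (fun x _ _ hij h => symbol_rel_eq_zero L ϖ hϖ x hij.ne (rel_of_add_eq_one L ϖ hϖ h))

@[simp]
theorem sH_symbol {n : ℕ} (x : Fin n → Lˣ) :
    sH L ϖ hϖ n (symbol x) = symbol (rr L ϖ hϖ ∘ x) := mkLift_symbol _ _ _ _

theorem sH_cns {n : ℕ} (a : Lˣ) (y : K L n) :
    sH L ϖ hϖ (n + 1) (cns a y) = cns (rr L ϖ hϖ a) (sH L ϖ hϖ n y) := by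
  refine DFunLike.congr_fun (hom_ext (f := (sH L ϖ hϖ (n + 1)).comp (cns a))
    (g := (cns (rr L ϖ hϖ a)).comp (sH L ϖ hϖ n)) fun x => ?_) y
  simp only [AddMonoidHom.comp_apply, cns_symbol, sH_symbol, Fin.comp_cons]

/-- The twisted residue `(-1)^v / r`. -/
noncomputable def pp : Lˣ →* κˣ where
  toFun x := (-1) ^ vv L ϖ hϖ x * (rr L ϖ hϖ x)⁻¹
  map_one' := by
    have : vv L ϖ hϖ (1 : Lˣ) = 0 := by simpa using vv_mul L ϖ hϖ 1 1
    simp [this]
  map_mul' x y := by
    simp only [vv_mul, map_mul, mul_inv, zpow_add]; ac_rfl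

theorem pp_apply (x : Lˣ) : pp L ϖ hϖ x = (-1) ^ vv L ϖ hϖ x * (rr L ϖ hϖ x)⁻¹ := rfl

theorem cns_pp {n : ℕ} (x : Lˣ) (y : K κ n) :
    cns (pp L ϖ hϖ x) y = vv L ϖ hϖ x • cns (-1 : κˣ) y - cns (rr L ϖ hϖ x) y := by
  rw [pp_apply, cns_mul, cns_zpow, cns_inv, sub_eq_add_neg]

/-- The tame symbol on tuples. -/
noncomputable def dF : (n : ℕ) → (Fin (n + 1) → Lˣ) → K κ n
  | 0, x => vv L ϖ hϖ (x 0) • symbol ![]
  | n + 1, x => vv L ϖ hϖ (x 0) • symbol (rr L ϖ hϖ ∘ Fin.tail x) +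
      cns (pp L ϖ hϖ (x 0)) (dF n (Fin.tail x))

theorem dF_zero (x : Fin 1 → Lˣ) : dF L ϖ hϖ 0 x = vv L ϖ hϖ (x 0) • symbol ![] := rfl

theorem dF_succ (n : ℕ) (x : Fin (n + 2) → Lˣ) :
    dF L ϖ hϖ (n + 1) x = vv L ϖ hϖ (x 0) • symbol (rr L ϖ hϖ ∘ Fin.tail x) +
      cns (pp L ϖ hϖ (x 0)) (dF L ϖ hϖ n (Fin.tail x)) := rfl

theorem dF_mul : ∀ (n : ℕ) (x : Fin (n + 1) → Lˣ) (i : Fin (n + 1)) (a b : Lˣ),
    dF L ϖ hϖ n (update x i (a * b)) = dF L ϖ hϖ n (update x i a) + dF L ϖ hϖ n (update x i b) := by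
  intro n
  induction n with
  | zero => intro x i a b; obtain rfl : i = 0 := Fin.fin_one_eq_zero i; simp [dF_zero, add_smul]
  | succ n ih =>
    intro x i a b
    refine Fin.cases ?_ (fun i => ?_) i
    · simp only [dF_succ, update_self, Fin.tail_update_zero, vv_mul, map_mul, cns_mul, add_smul]
      abel
    · simp only [dF_succ, update_of_ne (Fin.succ_ne_zero i).symm, Fin.tail_update_succ, comp_update,
        map_mul, symbol_update_mul, ih, smul_add, map_add]
      abel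

/-- First part of the two step formula. -/
noncomputable def tT {n : ℕ} (a b : Lˣ) (S : K κ n) : K κ (n + 1) :=
  vv L ϖ hϖ a • cns (rr L ϖ hϖ b) S + vv L ϖ hϖ b • cns (pp L ϖ hϖ a) S

theorem tT_antisymm {n : ℕ} (a b : Lˣ) (S : K κ n) : tT L ϖ hϖ a b S + tT L ϖ hϖ b a S = 0 := by
  simp only [tT, cns_pp, smul_sub, ← mul_zsmul]
  have := even_zsmul_cns_neg_one (F := κ) (Even.add_self (vv L ϖ hϖ a * vv L ϖ hϖ b)) S
  rw [add_zsmul] at this
  rw [mul_comm (vv L ϖ hϖ a) (vv L ϖ hϖ b)] at this ⊢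
  linear_combination (norm := abel) this

theorem tT_rel {n : ℕ} (a b : Lˣ) (h : Rel L ϖ hϖ a b) (S : K κ n) : tT L ϖ hϖ a b S = 0 := by
  rcases h with ⟨ha, hr⟩ | ⟨hb, hr⟩ | ⟨hv, hr⟩ | ⟨ha, hb, -⟩
  · simp [tT, cns_pp, ha, hr, cns_one]
  · simp [tT, hb, hr, cns_one]
  · rw [tT, cns_pp, hr, show -rr L ϖ hϖ a = (-1) * rr L ϖ hϖ a by simp, cns_mul, ← hv, smul_add,
      smul_sub, ← mul_zsmul]
    have := even_zsmul_cns_neg_one (F := κ) (Int.even_mul_succ_self (vv L ϖ hϖ a)) S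
    rw [mul_add, mul_one, add_zsmul] at this
    linear_combination (norm := abel) this
  · simp [tT, ha, hb]

theorem qQ_rel {n : ℕ} (a b : Lˣ) (h : Rel L ϖ hϖ a b) (D : K κ n) :
    cns (pp L ϖ hϖ a) (cns (pp L ϖ hϖ b) D) = 0 := by
  rcases h with ⟨ha, hr⟩ | ⟨hb, hr⟩ | ⟨hv, hr⟩ | ⟨ha, hb, hs⟩
  · simp [pp_apply, ha, hr, cns_one]
  · simp [pp_apply, hb, hr, cns_one]
  · have : pp L ϖ hϖ b = -pp L ϖ hϖ a := by
      rw [pp_apply, pp_apply, hr, ← hv]
      simp [inv_neg, mul_neg]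
    rw [this, cns_cns_neg]
  · simp only [pp_apply, ha, hb, zpow_zero, one_mul, cns_inv, map_neg, neg_neg]
    exact cns_cns_eq_zero_of_add_eq_one _ _ hs D

theorem dF_cons_cons_zero (a b : Lˣ) :
    dF L ϖ hϖ 1 ![a, b] = tT L ϖ hϖ a b (symbol ![]) := by
  simp only [dF_succ, dF_zero, tT, map_zsmul, cns_symbol]
  congr 3
  funext i; obtain rfl : i = 0 := Fin.fin_one_eq_zero i; rfl

theorem dF_cons_cons (n : ℕ) (a b : Lˣ) (r : Fin (n + 1) → Lˣ) :
    dF L ϖ hϖ (n + 2) (Fin.cons a (Fin.cons b r)) = tT L ϖ hϖ a b (symbol (rr L ϖ hϖ ∘ r)) +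
      cns (pp L ϖ hϖ a) (cns (pp L ϖ hϖ b) (dF L ϖ hϖ n r)) := by
  rw [dF_succ, Fin.tail_cons, dF_succ]
  simp only [Fin.cons_zero, Fin.tail_cons, Fin.comp_cons, map_add, map_zsmul, tT, ← cns_symbol]
  abel

theorem cons_cons_eq {n : ℕ} (x : Fin (n + 2) → Lˣ) :
    x = Fin.cons (x 0) (Fin.cons (x 1) (Fin.tail (Fin.tail x))) := by
  funext i; refine Fin.cases ?_ (fun i => Fin.cases ?_ (fun i => ?_) i) i <;> rfl

theorem dF_front_rel (n : ℕ) (x : Fin (n + 2) → Lˣ) (h : Rel L ϖ hϖ (x 0) (x 1)) :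
    dF L ϖ hϖ (n + 1) x = 0 := by
  rw [cons_cons_eq L x]
  cases n with
  | zero =>
    rw [show (Fin.tail (Fin.tail x) : Fin 0 → Lˣ) = ![] from Subsingleton.elim _ _]
    exact (dF_cons_cons_zero L ϖ hϖ _ _).trans (tT_rel L ϖ hϖ _ _ h _)
  | succ n => rw [dF_cons_cons, tT_rel L ϖ hϖ _ _ h, qQ_rel L ϖ hϖ _ _ h, add_zero]

theorem dF_front_swap (n : ℕ) (x : Fin (n + 2) → Lˣ) :
    dF L ϖ hϖ (n + 1) (x ∘ Equiv.swap 0 1) = -dF L ϖ hϖ (n + 1) x := by
  have e : x ∘ Equiv.swap 0 1 = Fin.cons (x 1) (Fin.cons (x 0) (Fin.tail (Fin.tail x))) := by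
    funext i
    refine Fin.cases ?_ (fun i => Fin.cases ?_ (fun i => ?_) i) i
    · simp
    · simp
    · rw [comp_apply, Equiv.swap_apply_of_ne_of_ne (Fin.succ_ne_zero _) (fun e => Fin.succ_ne_zero i
        (Fin.succ_injective _ (e.trans Fin.succ_zero_eq_one.symm)))]
      rfl
  rw [e]; conv_rhs => rw [cons_cons_eq L x]
  rw [eq_neg_iff_add_eq_zero]
  cases n with
  | zero =>
    rw [show (Fin.tail (Fin.tail x) : Fin 0 → Lˣ) = ![] from Subsingleton.elim _ _]
    exact (congrArg₂ (· + ·) (dF_cons_cons_zero L ϖ hϖ _ _) (dF_cons_cons_zero L ϖ hϖ _ _)).trans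
      (tT_antisymm L ϖ hϖ _ _ _)
  | succ n =>
    rw [dF_cons_cons, dF_cons_cons, add_add_add_comm, tT_antisymm, zero_add, cns_comm, neg_add_cancel]

theorem dF_adj_swap : ∀ (n : ℕ) (k : Fin n) (x : Fin (n + 1) → Lˣ),
    dF L ϖ hϖ n (x ∘ Equiv.swap k.castSucc k.succ) = -dF L ϖ hϖ n x := by
  intro n
  induction n with
  | zero => exact fun k => k.elim0
  | succ n ih =>
    intro k
    refine Fin.cases ?_ (fun k => ?_) k
    · intro x; simpa using dF_front_swap L ϖ hϖ n x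
    · intro x
      have et : Fin.tail (x ∘ Equiv.swap k.succ.castSucc k.succ.succ) =
          Fin.tail x ∘ Equiv.swap k.castSucc k.succ := by
        funext i
        simp only [Fin.tail, comp_apply]
        congr 1
        rw [← Fin.succ_castSucc, ← (Fin.succ_injective _).map_swap]
      have e0 : (x ∘ Equiv.swap k.succ.castSucc k.succ.succ) 0 = x 0 := by
        rw [comp_apply, Equiv.swap_apply_of_ne_of_ne]
        · rw [← Fin.succ_castSucc]; exact (Fin.succ_ne_zero _).symm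
        · exact (Fin.succ_ne_zero _).symm
      rw [dF_succ, dF_succ, et, e0, ih, ← comp_assoc,
        symbol_comp_swap _ (ne_of_lt (Fin.castSucc_lt_succ (i := k))), map_neg, smul_neg, neg_add]

theorem dF_rel : ∀ (n : ℕ) (x : Fin (n + 1) → Lˣ) (i j : Fin (n + 1)), i < j →
    Rel L ϖ hϖ (x i) (x j) → dF L ϖ hϖ n x = 0 := by
  intro n
  induction n with
  | zero => intro x i j hij; omega
  | succ n ih =>
    intro x i
    induction i using Fin.cases with
    | succ i =>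
      intro j
      induction j using Fin.cases with
      | zero => intro hij; exact absurd hij (Fin.not_lt_zero _)
      | succ j =>
        intro hij h
        rw [dF_succ, ih (Fin.tail x) i j (Fin.succ_lt_succ_iff.1 hij) h, map_zero, add_zero]
        erw [symbol_rel_eq_zero L ϖ hϖ (Fin.tail x) (Fin.succ_lt_succ_iff.1 hij).ne h]
        rw [smul_zero]
    | zero =>
      intro j
      induction j using Fin.cases with
      | zero => intro hij; exact absurd hij (lt_irrefl _)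
      | succ j =>
        induction j using Fin.induction generalizing x with
        | zero => intro _ h; exact dF_front_rel L ϖ hϖ n x (by simpa using h)
        | succ k ihk =>
          intro _ h
          have hk := dF_adj_swap L ϖ hϖ (n + 1) k.succ x
          have h0 := ihk (x ∘ Equiv.swap k.succ.castSucc k.succ.succ) (Fin.succ_pos _) (by
            rw [comp_apply, comp_apply, Equiv.swap_apply_of_ne_of_ne, ← Fin.succ_castSucc,
              Equiv.swap_apply_left]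
            · exact h
            · rw [← Fin.succ_castSucc]; exact (Fin.succ_ne_zero _).symm
            · exact (Fin.succ_ne_zero _).symm)
          rw [h0, eq_comm, neg_eq_zero] at hk
          exact hk

/-- The tame symbol. -/
noncomputable def dH (n : ℕ) : K L (n + 1) →+ K κ n :=
  mkLift (dF L ϖ hϖ n) (dF_mul L ϖ hϖ n)
    (fun x i j hij h => dF_rel L ϖ hϖ n x i j hij (rel_of_add_eq_one L ϖ hϖ h))

@[simp]
theorem dH_symbol {n : ℕ} (x : Fin (n + 1) → Lˣ) :
    dH L ϖ hϖ n (symbol x) = dF L ϖ hϖ n x := mkLift_symbol _ _ _ _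

theorem dH_cns {n : ℕ} (a : Lˣ) (y : K L (n + 1)) :
    dH L ϖ hϖ (n + 1) (cns a y) =
      vv L ϖ hϖ a • sH L ϖ hϖ (n + 1) y + cns (pp L ϖ hϖ a) (dH L ϖ hϖ n y) := by
  refine DFunLike.congr_fun (hom_ext (f := (dH L ϖ hϖ (n + 1)).comp (cns a))
    (g := vv L ϖ hϖ a • sH L ϖ hϖ (n + 1) + (cns (pp L ϖ hϖ a)).comp (dH L ϖ hϖ n)) fun x => ?_) y
  simp [dF_succ]

theorem dH_cns_zero (a : Lˣ) (y : K L 0) :
    dH L ϖ hϖ 0 (cns a y) = vv L ϖ hϖ a • sH L ϖ hϖ 0 y := by
  refine DFunLike.congr_fun (hom_ext (f := (dH L ϖ hϖ 0).comp (cns a))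
    (g := vv L ϖ hϖ a • sH L ϖ hϖ 0) fun x => ?_) y
  simp only [AddMonoidHom.comp_apply, cns_symbol, dH_symbol, dF_zero, Fin.cons_zero,
    AddMonoidHom.smul_apply, sH_symbol]
  congr 2; exact Subsingleton.elim _ _

theorem dF_units : ∀ (n : ℕ) (u : Fin (n + 1) → Aˣ), dF L ϖ hϖ n (fun i => unitToFrac A L (u i)) = 0 := by
  intro n
  induction n with
  | zero => intro u; simp [dF_zero]
  | succ n ih =>
    intro u
    rw [dF_succ, vv_unit, zero_smul, zero_add]
    erw [ih (Fin.tail u)]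
    rw [map_zero]

theorem isSpecMap_sH (n : ℕ) : IsSpecMap A L ϖ hϖ n (sH L ϖ hϖ n) := by
  intro e u; rw [sH_symbol]; congr 1; funext i; simp

theorem isTameSymbol_dH (n : ℕ) : IsTameSymbol A L n (dH L ϖ hϖ n) := by
  intro ϖ' hϖ' u
  obtain ⟨w, hw⟩ := IsDiscreteValuationRing.associated_of_irreducible A hϖ hϖ'
  have e : unitFrac A L ϖ' hϖ'.ne_zero =
      unitFrac A L ϖ hϖ.ne_zero ^ (1 : ℤ) * unitToFrac A L w := Units.ext (by
    simp [unitToFrac_coe, ← hw])
  rw [dH_symbol]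
  cases n with
  | zero =>
    rw [dF_zero, Fin.cons_zero, e, vv_compose, one_smul]
    congr 1; exact Subsingleton.elim _ _
  | succ n =>
    rw [dF_succ, Fin.cons_zero, Fin.tail_cons, e, vv_compose, one_smul, dF_units, map_zero, add_zero]
    congr 1; funext i; simp

end Maps

end Groth.MilnorKLambda
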